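import Mathlib.Algebra.Homology.DerivedCategory.TStructure
import Mathlib.Algebra.Homology.DerivedCategory.HomologySequence

/-!
Factorisations through canonical truncations in the derived category:
a map from an object `≤ a` to an object `≥ a` is zero iff it is zero on `H^a`.
-/

universe w v u
open CategoryTheory CategoryTheory.Limits CategoryTheory.Pretriangulated

namespace Groth.Agent.Cohder.TruncFactor

open DerivedCategory

variable {A : Type u} [Category.{v} A] [Abelian A]

/-- A chain map from a complex strictly `≤ a` to a complex strictly `≥ a` which is zero on `H^a`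
is zero. -/
lemma cochainMap_eq_zero {X Y : CochainComplex A ℤ} (a : ℤ)
    [X.IsStrictlyLE a] [Y.IsStrictlyGE a] (g : X ⟶ Y)
    (hg : HomologicalComplex.homologyMap g a = 0) : g = 0 := by
  ext i
  by_cases hi : a < i
  · exact (X.isZero_of_isStrictlyLE a i hi).eq_of_src _ _
  by_cases hi' : i < a
  · exact (Y.isZero_of_isStrictlyGE a i hi').eq_of_tgt _ _
  obtain rfl : i = a := by lia
  have h1 : IsIso (X.iCycles i) := X.isIso_iCycles i (i + 1) (by simp)
    ((X.isZero_of_isStrictlyLE i (i + 1) (by lia)).eq_of_tgt _ _)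
  have h2 : IsIso (Y.pOpcycles i) := Y.isIso_pOpcycles (i - 1) i (by simp)
    ((Y.isZero_of_isStrictlyGE i (i - 1) (by lia)).eq_of_src _ _)
  have h3 : X.homologyπ i ≫ HomologicalComplex.homologyMap g i ≫ Y.homologyι i =
      X.iCycles i ≫ g.f i ≫ Y.pOpcycles i := by
    simp
  rw [hg] at h3
  simp only [zero_comp, comp_zero] at h3
  rw [HomologicalComplex.zero_f, ← cancel_mono (Y.pOpcycles i), ← cancel_epi (X.iCycles i), zero_comp,
    comp_zero, h3]

variable [HasDerivedCategory.{w} A]

lemma Q_hom_eq_zero {X Y : CochainComplex A ℤ} (a : ℤ)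
    [X.IsStrictlyLE a] [Y.IsStrictlyGE a] (f : Q.obj X ⟶ Q.obj Y)
    (hf : (homologyFunctor A a).map f = 0) : f = 0 := by
  obtain ⟨Y', hY', g, s, hs, rfl⟩ := left_fac_of_isStrictlyGE f a
  have hg : HomologicalComplex.homologyMap g a = 0 := by
    rw [Functor.map_comp] at hf
    have h : (homologyFunctor A a).map (Q.map g) = 0 := by
      rw [← cancel_mono ((homologyFunctor A a).map (inv (Q.map s))), hf, zero_comp]
    have h2 := homologyFunctorFactors_hom_naturality g a
    rw [h, zero_comp] at h2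
    exact (cancel_epi ((homologyFunctorFactors A a).hom.app X)).1 (h2.symm.trans comp_zero.symm)
  rw [cochainMap_eq_zero a g hg, Functor.map_zero, zero_comp]

/-- A morphism in the derived category from an object `≤ a` to an object `≥ a` which is
zero on `H^a` is zero. -/
lemma hom_eq_zero {X Y : DerivedCategory A} (a : ℤ)
    [X.IsLE a] [Y.IsGE a] (f : X ⟶ Y)
    (hf : (homologyFunctor A a).map f = 0) : f = 0 := by
  obtain ⟨K, hK, ⟨e⟩⟩ := X.exists_iso_Q_obj_of_isLE a
  obtain ⟨L, hL, ⟨e'⟩⟩ := Y.exists_iso_Q_obj_of_isGE a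
  have := Q_hom_eq_zero a (e.inv ≫ f ≫ e'.hom) (by simp [hf])
  rw [← cancel_epi e.inv, ← cancel_mono e'.hom, Category.assoc, this]
  simp

/-- Two morphisms from an object `≤ a` to an object `≥ a` agree iff they agree on `H^a`. -/
lemma hom_ext {X Y : DerivedCategory A} (a : ℤ)
    [X.IsLE a] [Y.IsGE a] (f g : X ⟶ Y)
    (hf : (homologyFunctor A a).map f = (homologyFunctor A a).map g) : f = g := by
  rw [← sub_eq_zero]
  apply hom_eq_zero a
  rw [Functor.map_sub, hf, sub_self]

set_option backward.defeqAttrib.useBackward true in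
set_option backward.isDefEq.respectTransparency false in
/-- The truncation triangle attached to a cochain complex. -/
lemma exists_truncTriangle (K : CochainComplex A ℤ) (a b : ℤ) (hab : a + 1 = b) :
    ∃ (δ : Q.obj (K.truncGE b) ⟶ (shiftFunctor (DerivedCategory A) (1 : ℤ)).obj (Q.obj (K.truncLE a))),
      Triangle.mk (Q.map (K.ιTruncLE a)) (Q.map (K.πTruncGE b)) δ ∈ distTriang (DerivedCategory A) := by
  have h := K.shortComplexTruncLE_shortExact a
  refine ⟨inv (Q.map (K.shortComplexTruncLEX₃ToTruncGE a b hab)) ≫ (triangleOfSES h).mor₃,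
    isomorphic_distinguished _ (triangleOfSES_distinguished h) _ (Iso.symm ?_)⟩
  refine Triangle.isoMk _ _ (Iso.refl _) (Iso.refl _)
    (asIso (Q.map (K.shortComplexTruncLEX₃ToTruncGE a b hab))) ?_ ?_ (by simp)
  · dsimp
    rw [Category.comp_id, Category.id_comp]
    rfl
  · dsimp
    rw [← Q.map_comp, CochainComplex.g_shortComplexTruncLEX₃ToTruncGE .., Category.id_comp]

/-- For a morphism `f : X ⟶ Q.obj K` with `f ≫ Q.map (K.πTruncGE b) = 0`, where `b = a + 1`,
the morphism `f` factors through `Q.map (K.ιTruncLE a)`. -/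
lemma exists_lift_truncLE {X : DerivedCategory A} (K : CochainComplex A ℤ) (a b : ℤ) (hab : a + 1 = b)
    (f : X ⟶ Q.obj K) (hf : f ≫ Q.map (K.πTruncGE b) = 0) :
    ∃ φ : X ⟶ Q.obj (K.truncLE a), φ ≫ Q.map (K.ιTruncLE a) = f := by
  obtain ⟨δ, hT⟩ := exists_truncTriangle K a b hab
  obtain ⟨φ, hφ⟩ := Triangle.coyoneda_exact₂ _ hT f hf
  exact ⟨φ, hφ.symm⟩

/-- For a morphism `f : Q.obj K ⟶ X` with `Q.map (K.ιTruncLE a) ≫ f = 0`, where `b = a + 1`,
the morphism `f` factors through `Q.map (K.πTruncGE b)`. -/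
lemma exists_desc_truncGE {X : DerivedCategory A} (K : CochainComplex A ℤ) (a b : ℤ) (hab : a + 1 = b)
    (f : Q.obj K ⟶ X) (hf : Q.map (K.ιTruncLE a) ≫ f = 0) :
    ∃ φ : Q.obj (K.truncGE b) ⟶ X, Q.map (K.πTruncGE b) ≫ φ = f := by
  obtain ⟨δ, hT⟩ := exists_truncTriangle K a b hab
  obtain ⟨φ, hφ⟩ := Triangle.yoneda_exact₂ _ hT f hf
  exact ⟨φ, hφ.symm⟩

lemma homologyFunctor_map_Q_map_eq_zero {K L : CochainComplex A ℤ} (g : K ⟶ L) (n : ℤ)
    (hg : HomologicalComplex.homologyMap g n = 0) : (homologyFunctor A n).map (Q.map g) = 0 := by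
  have h := homologyFunctorFactors_hom_naturality g n
  rw [hg] at h
  exact (cancel_mono ((homologyFunctorFactors A n).hom.app L)).1
    ((h.trans comp_zero).trans zero_comp.symm)

end Groth.Agent.Cohder.TruncFactor
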