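import Groth.Agent.Cohder.BddKoszul
import Groth.Agent.PerfA.TildeSupp
import Mathlib.Order.Filter.AtTopBot.Basic
import Mathlib.Order.Interval.Finset.Nat
import Mathlib.Data.Int.Interval
import Mathlib.Order.Filter.Finite
import Mathlib.Order.Filter.AtTopBot.Group

/-! Boundedness of `M ∈ D(R)` from torsion of the cohomology and vanishing of Koszul homs, both in
almost all degrees for a shift invariant filter on `ℤ` (`atTop`, `atBot`). -/

set_option autoImplicit false
universe u

open CategoryTheory CategoryTheory.Limits Pretriangulated Koszul AlgebraicGeometry Filter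
open Groth.Agent.PerfB.KoszulHom Groth.Agent.PerfB.KoszulOn Groth.Agent.PerfA.TildeSupp
attribute [local instance] HasDerivedCategory.standard

namespace Groth.Agent.Cohder.BddAff

/-- A filter on `ℤ` invariant under translations. -/
def ShiftInv (F : Filter ℤ) : Prop := ∀ c : ℤ, Tendsto (fun i => i + c) F F

lemma shiftInv_atTop : ShiftInv atTop := fun c => tendsto_atTop_add_const_right _ c tendsto_id

lemma shiftInv_atBot : ShiftInv atBot := fun c => tendsto_atBot_add_const_right _ c tendsto_id

lemma ShiftInv.window {F : Filter ℤ} (hF : ShiftInv F) {p : ℤ → Prop} (hp : ∀ᶠ i in F, p i)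
    (a b : ℤ) : ∀ᶠ n in F, ∀ i, n + a ≤ i → i ≤ n + b → p i := by
  have h : ∀ᶠ n in F, ∀ c ∈ Finset.Icc a b, p (n + c) :=
    (Finset.eventually_all _).2 (fun c _ => (hF c).eventually hp)
  filter_upwards [h] with n hn i h1 h2
  have := hn (i - n) (by rw [Finset.mem_Icc]; omega)
  simpa using this

/-- almost all cohomology modules vanish -/
theorem eventually_isZero {F : Filter ℤ} (hF : ShiftInv F) {R : CommRingCat.{u}}
    (M : DerivedCategory (ModuleCat.{u} R)) (l : List R)
    (hT : ∀ᶠ i in F, ∀ a ∈ l, ∀ x : PrimeSpectrum R, a ∉ x.asIdeal →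
      VanAt ((DerivedCategory.homologyFunctor (ModuleCat.{u} R) i).obj M) x)
    (hK : ∀ᶠ i in F, ∀ φ : DerivedCategory.Q.obj (koszul R l) ⟶ M⟦i⟧, φ = 0) :
    ∀ᶠ i in F, IsZero ((DerivedCategory.homologyFunctor (ModuleCat.{u} R) i).obj M) := by
  filter_upwards [hF.window hT (-(2 * (l.length : ℤ))) l.length,
    hF.window hK (-(l.length : ℤ)) l.length] with n h1 h2
  refine BddKoszul.isZero_homology M l n (fun a ha i h3 h4 => ?_) (fun i h3 h4 => ?_)
  · exact (forall_vanAt_iff _ a).1 (h1 i (by omega) h4 a ha)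
  · exact h2 i (by omega) h4

end Groth.Agent.Cohder.BddAff
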