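import Mathlib.Algebra.Homology.DerivedCategory.KInjective
import Mathlib.Algebra.Homology.HomologicalComplexLimits
import Mathlib.CategoryTheory.Limits.Shapes.Products

/-!
# Products of K-injective complexes

* `homotopyZeroOfPi`: a morphism to a product of cochain complexes is null-homotopic if all
  its components are.
* `isKInjective_pi`: products of K-injective complexes are K-injective.
* `hasProduct_of_kInjective`: products of objects of the derived category which are represented
  by K-injective complexes.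
-/

set_option autoImplicit false
universe w v u
open CategoryTheory CategoryTheory.Limits

namespace Groth.Agent.Cohder.KInjProd

variable {A : Type u} [Category.{v} A] [Abelian A] {J : Type*}

open CochainComplex CochainComplex.HomComplex in
/-- a null-homotopic morphism extends to the mapping cone of the identity -/
lemma exists_ext_of_homotopyZero {Y Z : CochainComplex A ℤ} (f : Y ⟶ Z) (h : Homotopy f 0) :
    ∃ g : mappingCone (𝟙 Y) ⟶ Z, mappingCone.inr (𝟙 Y) ≫ g = f := by
  obtain ⟨z, hz⟩ := Cochain.equivHomotopy _ _ h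
  rw [Cochain.ofHom_zero, add_zero] at hz
  exact ⟨mappingCone.desc (𝟙 Y) z f (by rw [Category.id_comp, hz]), by simp⟩

open CochainComplex CochainComplex.HomComplex in
/-- a morphism which extends to the mapping cone of the identity is null-homotopic -/
noncomputable def homotopyZeroOfExt {Y Z : CochainComplex A ℤ} (g : mappingCone (𝟙 Y) ⟶ Z) :
    Homotopy (mappingCone.inr (𝟙 Y) ≫ g) 0 :=
  (Cochain.equivHomotopy _ _).symm ⟨(mappingCone.inl (𝟙 Y)).comp (Cochain.ofHom g) (add_zero _), by
    rw [Cochain.ofHom_zero, add_zero, Cochain.ofHom_comp]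
    simp [δ_comp_zero_cochain]⟩

lemma nonempty_homotopyZero_of_pi {Y : CochainComplex A ℤ} (K : J → CochainComplex A ℤ)
    [HasProduct K] (f : Y ⟶ ∏ᶜ K) (h : ∀ j, Nonempty (Homotopy (f ≫ Pi.π K j) 0)) :
    Nonempty (Homotopy f 0) := by
  choose g hg using fun j ↦ exists_ext_of_homotopyZero _ (h j).some
  refine ⟨(Homotopy.ofEq ?_).trans (homotopyZeroOfExt (Pi.lift g))⟩
  refine Pi.hom_ext _ _ (fun j ↦ ?_)
  simp [hg]

/-- Products of K-injective complexes are K-injective. -/
lemma isKInjective_pi (K : J → CochainComplex A ℤ) [HasProduct K] (hK : ∀ j, (K j).IsKInjective) :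
    (∏ᶜ K).IsKInjective where
  nonempty_homotopy_zero f hL :=
    nonempty_homotopyZero_of_pi K f (fun _ ↦ ⟨CochainComplex.IsKInjective.homotopyZero _ hL⟩)

variable [HasDerivedCategory.{w} A]

open DerivedCategory

lemma Q_map_surjective {Y I : CochainComplex A ℤ} (hI : I.IsKInjective) (φ : Q.obj Y ⟶ Q.obj I) :
    ∃ f : Y ⟶ I, Q.map f = φ := by
  obtain ⟨f, hf⟩ := (CochainComplex.IsKInjective.Qh_map_bijective
    ((HomotopyCategory.quotient _ _).obj Y) I).surjective φ
  obtain ⟨f, rfl⟩ := (HomotopyCategory.quotient _ _).map_surjective f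
  exact ⟨f, hf⟩

lemma Q_map_eq_zero_iff {Y I : CochainComplex A ℤ} (hI : I.IsKInjective) (f : Y ⟶ I) :
    Q.map f = 0 ↔ Nonempty (Homotopy f 0) := by
  constructor
  · intro h
    refine ⟨HomotopyCategory.homotopyOfEq _ _ ?_⟩
    apply (CochainComplex.IsKInjective.Qh_map_bijective
      ((HomotopyCategory.quotient _ _).obj Y) I).injective
    refine h.trans ?_
    rw [Functor.map_zero, Functor.map_zero]
    rfl
  · rintro ⟨h⟩
    have := (HomotopyCategory.eq_of_homotopy _ _ h)
    refine (congrArg (Qh.map) this).trans ?_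
    rw [Functor.map_zero, Functor.map_zero]
    rfl

/-- The image in the derived category of a product of K-injective complexes is a product. -/
noncomputable def isLimitFanOfKInjective (K : J → CochainComplex A ℤ) [HasProduct K]
    (hK : ∀ j, (K j).IsKInjective) :
    IsLimit (Fan.mk (Q.obj (∏ᶜ K)) (fun j ↦ Q.map (Pi.π K j))) := by
  refine Nonempty.some ?_
  have key : ∀ (T : DerivedCategory A) (φ : ∀ j, T ⟶ Q.obj (K j)),
      ∃! ψ : T ⟶ Q.obj (∏ᶜ K), ∀ j, ψ ≫ Q.map (Pi.π K j) = φ j := by
    intro T φ
    let e := Q.objObjPreimageIso T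
    choose f hf using fun j ↦ Q_map_surjective (hK j) (e.hom ≫ φ j)
    refine ⟨e.inv ≫ Q.map (Pi.lift f), fun j ↦ ?_, fun ψ hψ ↦ ?_⟩
    · rw [Category.assoc, ← Q.map_comp, Pi.lift_π, hf, Iso.inv_hom_id_assoc]
    · obtain ⟨g, hg⟩ := Q_map_surjective (isKInjective_pi K hK) (e.hom ≫ ψ)
      have : Q.map (g - Pi.lift f) = 0 := by
        rw [Q_map_eq_zero_iff (isKInjective_pi K hK)]
        apply nonempty_homotopyZero_of_pi
        intro j
        rw [← Q_map_eq_zero_iff (hK j), Q.map_comp, Q.map_sub, Preadditive.sub_comp,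
          ← Q.map_comp, ← Q.map_comp, Pi.lift_π, Q.map_comp, hg, hf, Category.assoc, hψ, sub_self]
      rw [Q.map_sub, sub_eq_zero] at this
      rw [← this, hg, Iso.inv_hom_id_assoc]
  exact ⟨Fan.IsLimit.mk _ (fun s ↦ (key s.pt s.proj).choose)
    (fun s ↦ (key s.pt s.proj).choose_spec.1)
    (fun s m hm ↦ (key s.pt s.proj).choose_spec.2 m hm)⟩

/-- A family of objects of the derived category which are represented by K-injective complexes
has a product (if the product of these complexes exist). -/
lemma hasProduct_of_iso (X : J → DerivedCategory A) (K : J → CochainComplex A ℤ) [HasProduct K]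
    (hK : ∀ j, (K j).IsKInjective) (e : ∀ j, X j ≅ Q.obj (K j)) : HasProduct X := by
  have : HasProduct (fun j ↦ Q.obj (K j)) := ⟨_, isLimitFanOfKInjective K hK⟩
  exact hasLimit_of_iso (F := Discrete.functor (fun j ↦ Q.obj (K j)))
    (Discrete.natIso (fun j ↦ (e j.as).symm))

end Groth.Agent.Cohder.KInjProd
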