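import Groth.Agent.Cohder.RpushHyp
import Groth.Agent.PerfA.PerfCompact
import Groth.Agent.PerfA.HypInd

/-!
# `Rf_*` commutes with direct sums on `D_QCoh`
-/

set_option autoImplicit false

universe u

open CategoryTheory CategoryTheory.Limits AlgebraicGeometry Opposite TopologicalSpace
open CategoryTheory.Pretriangulated
open Groth.Agent.PerfA.ExtZero Groth.Agent.PerfA.Hyp0 Groth.Agent.PerfA.Hyp1 Groth.Agent.PerfA.Hyp2
open Groth.Agent.PerfA Groth.Agent.PerfA.CompactRel Groth.Agent.Cohder.RpushHyp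

attribute [local instance] HasDerivedCategory.standard

namespace Groth.Agent.Cohder.RpushSum

variable {X : Scheme.{u}}

/-- `P m U` is compact relative to `D_QCoh` for `U` quasi-compact and quasi-separated. -/
theorem isCompact_P (U : X.Opens) (hU : IsCompact (U : Set X)) (hU' : IsQuasiSeparated (U : Set X)) (m : ℤ) :
    PerfAux.IsCompactObjRel.{u} (fun L : DCoh.D X => DCoh.IsQCohD L) (P m U) := by
  let Q : ObjectProperty (DCoh.D X) :=
    fun K => PerfAux.IsCompactObjRel.{u} (fun L : DCoh.D X => DCoh.IsQCohD L) K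
  have hQ : Q.IsTriangulated := isTriangulated_isCompactObjRel
    (fun n L hL => QCohD.isQCohD_shift hL n)
  have hQi : Q.IsClosedUnderIsomorphisms := ⟨fun e h => isCompactObjRel_of_iso e h⟩
  refine HypInd.qcqs_induction U hU hU' (fun W => Q (P m W)) ?_ ?_ U le_rfl hU
  · intro W _ hW
    exact PerfCompact.isCompact_P W hW m
  · intro W W' _ _ _ _ h₁ h₂ h₃
    refine Q.ext_of_isTriangulatedClosed₃ _
      (sesTriangle_distinguished (mvShortComplex_shortExact W W') m) h₃ ?_
    have : PreservesBinaryBiproduct (OU W) (OU W') (DerivedCategory.singleFunctor X.Modules m) :=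
      preservesBinaryBiproduct_of_preservesBiproduct _ _ _
    have e := (DerivedCategory.singleFunctor X.Modules m).mapBiprod (OU W) (OU W')
    refine Q.prop_of_iso e.symm ?_
    exact Q.ext_of_isTriangulatedClosed₂ _ (binaryBiproductTriangle_distinguished _ _) h₁ h₂

/-- A morphism of modules is mono if it is injective on sections, locally. -/
lemma mono_of_locally {M N : X.Modules} (g : M ⟶ N)
    (h : ∀ (U : X.Opens) (s : Γ(M, U)), g.app U s = 0 → ∀ x ∈ U, ∃ (V : X.Opens) (hV : V ≤ U), x ∈ V ∧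
      M.presheaf.map (homOfLE hV).op s = 0) : Mono g := by
  refine Preadditive.mono_of_cancel_zero g fun {Z} k hk => ?_
  refine separating _ _ fun U a => ?_
  obtain ⟨s, hs⟩ := desc_surjective (a ≫ k)
  have h1 : g.app U s = 0 := by
    apply desc_injective
    rw [← desc_comp, ← hs, Category.assoc, hk, comp_zero, desc_zero]
  have h2 : s = 0 := by
    refine TopCat.Presheaf.IsSheaf.section_ext M.isSheaf ?_
    intro x hx
    obtain ⟨V, hV, hxV, h3⟩ := h U s h1 x hx
    exact ⟨V, hV, hxV, h3.trans (map_zero _).symm⟩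
  rw [hs, h2, desc_zero, comp_zero]

/-- A morphism of modules is epi if it is locally surjective. -/
lemma epi_of_locally {M N : X.Modules} (g : M ⟶ N)
    (h : ∀ (U : X.Opens) (t : Γ(N, U)), ∀ x ∈ U, ∃ (V : X.Opens) (hV : V ≤ U) (s : Γ(M, V)), x ∈ V ∧
      g.app V s = N.presheaf.map (homOfLE hV).op t) : Epi g := by
  refine Preadditive.epi_of_cancel_zero g fun {Z} k hk => ?_
  apply Scheme.Modules.hom_ext
  intro U
  ext t
  refine TopCat.Presheaf.IsSheaf.section_ext Z.isSheaf ?_
  intro x hx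
  obtain ⟨V, hV, s, hxV, h1⟩ := h U t x hx
  refine ⟨V, hV, hxV, ?_⟩
  have h2 : k.app V (g.app V s) = 0 := by
    change (g ≫ k).app V s = 0
    rw [hk]
    rfl
  have h3 : Z.presheaf.map (homOfLE hV).op (k.app U t) = 0 := by
    rw [← Dcoh.SecCoprod.app_map, ← h1, h2]
  exact h3.trans (map_zero _).symm

variable {S : Scheme.{u}} (f : X ⟶ S) [QuasiCompact f] [QuasiSeparated f] [DCoh.HasRpush f]
  {ι : Type u} (K : ι → DCoh.D X) (hK : ∀ i, DCoh.IsQCohD (K i)) [HasCoproduct K]
  [HasCoproduct (fun i => (DCoh.Rpush f).obj (K i))]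

/-- The comparison map. -/
noncomputable abbrev θ : (∐ fun i => (DCoh.Rpush f).obj (K i)) ⟶ (DCoh.Rpush f).obj (∐ K) :=
  Sigma.desc (fun i => (DCoh.Rpush f).map (Sigma.ι K i))

omit [QuasiCompact f] [QuasiSeparated f] in
lemma mono_HD (m : ℤ) : Mono ((DerivedCategory.homologyFunctor S.Modules m).map (θ f K)) := by
  classical
  have hc := PerfCompact.isColimitHD (fun i => (DCoh.Rpush f).obj (K i)) m
  refine mono_of_locally _ fun V s hs x hx => ?_
  obtain ⟨V', hxV, hV, h1⟩ := Dcoh.SecCoprod.exists_isFinSum_nhd hc s x hx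
  refine ⟨V', hV, hxV, ?_⟩
  obtain ⟨t, h2, -⟩ := h1.eq_sum_proj hc
  refine h2.trans (Finset.sum_eq_zero fun i _ => ?_)
  -- the projection factors through `θ`
  let π : ∐ K ⟶ K i := Sigma.desc (fun j => if h : j = i then eqToHom (by rw [h]) else 0)
  have h3 : Dcoh.SecCoprod.proj hc i = (DerivedCategory.homologyFunctor S.Modules m).map (θ f K) ≫
      (DerivedCategory.homologyFunctor S.Modules m).map ((DCoh.Rpush f).map π) := by
    apply Cofan.IsColimit.hom_ext hc
    intro j
    rw [Dcoh.SecCoprod.proj, Cofan.IsColimit.fac, ← Functor.map_comp]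
    change _ = (DerivedCategory.homologyFunctor S.Modules m).map
      (Sigma.ι (fun i => (DCoh.Rpush f).obj (K i)) j) ≫ _
    rw [← Functor.map_comp, Sigma.ι_desc_assoc, ← Functor.map_comp, Sigma.ι_desc]
    split_ifs with h
    · subst h
      simp
    · rw [Functor.map_zero, Functor.map_zero]
  have h4 : (Dcoh.SecCoprod.proj hc i).app V' ((DCoh.HD (∐ fun i => (DCoh.Rpush f).obj (K i)) m).presheaf.map
      (homOfLE hV).op s) = 0 := by
    rw [h3]
    change ((DerivedCategory.homologyFunctor S.Modules m).map ((DCoh.Rpush f).map π)).app V'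
      (((DerivedCategory.homologyFunctor S.Modules m).map (θ f K)).app V' _) = 0
    have h5 : ((DerivedCategory.homologyFunctor S.Modules m).map (θ f K)).app V'
        ((DCoh.HD (∐ fun i => (DCoh.Rpush f).obj (K i)) m).presheaf.map (homOfLE hV).op s) = 0 := by
      refine (Dcoh.SecCoprod.app_map _ hV s).trans ?_
      rw [hs, map_zero]
    rw [h5, map_zero]
  exact (congrArg _ h4).trans (map_zero _)

include hK in
lemma epi_HD (m : ℤ) : Epi ((DerivedCategory.homologyFunctor S.Modules m).map (θ f K)) := by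
  classical
  refine epi_of_locally _ fun V t x hx => ?_
  obtain ⟨V₁, hV₁, ψ, hx₁, h1⟩ := exists_local_toHD_eq t x hx
  obtain ⟨V₂, hV₂, φ, hx₂, h2⟩ := exists_local_pushP_eq f ψ x hx₁
  obtain ⟨V₃, hV₃, hx₃, h3⟩ := exists_isAffineOpen_mem_and_subset (U := V₂) hx₂
  have h3' : V₃ ≤ V₂ := h3
  have hfin := (isCompactObjRel_iff _ _).1
    (isCompact_P (f ⁻¹ᵁ V₃) (f.isCompact_preimage hV₃.isCompact)
      (f.isQuasiSeparated_preimage hV₃.isQuasiSeparated) m) ι K hK (res (f.preimage_mono h3') φ)
  obtain ⟨s, g, hg⟩ := hfin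
  refine ⟨V₃, h3'.trans (hV₂.trans hV₁), ∑ i ∈ s, ((DerivedCategory.homologyFunctor S.Modules m).map
    (Sigma.ι (fun i => (DCoh.Rpush f).obj (K i)) i)).app V₃ (toHD (pushP f (g i))), hx₃, ?_⟩
  have h4 : pushP f (res (f.preimage_mono h3') φ) = ∑ i ∈ s, pushP f (g i) ≫
      (DCoh.Rpush f).map (Sigma.ι K i) := by
    rw [hg, pushP_sum]
    exact Finset.sum_congr rfl fun i _ => pushP_comp f (g i) (Sigma.ι K i)
  have h5 : (DCoh.HD ((DCoh.Rpush f).obj (∐ K)) m).presheaf.map
      (homOfLE (h3'.trans (hV₂.trans hV₁))).op t = toHD (pushP f (res (f.preimage_mono h3') φ)) := by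
    rw [pushP_res f h3', h2, res_res, toHD_res, h1, ← ConcreteCategory.comp_apply, ← Functor.map_comp]
    rfl
  rw [h5, h4, PerfCompact.toHD_sum, map_sum]
  refine Finset.sum_congr rfl fun i _ => ?_
  rw [toHD_comp]
  change ((DerivedCategory.homologyFunctor S.Modules m).map
    (Sigma.ι (fun i => (DCoh.Rpush f).obj (K i)) i) ≫
      (DerivedCategory.homologyFunctor S.Modules m).map (θ f K)).app V₃ _ = _
  rw [← Functor.map_comp, Sigma.ι_desc]

include hK in
/-- `Rf_*` commutes with direct sums of objects of `D_QCoh`. -/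
theorem isIso_θ : IsIso (θ f K) := by
  rw [DerivedCategory.isIso_iff]
  intro m
  have := mono_HD f K m
  have := epi_HD f K hK m
  exact isIso_of_mono_of_epi _

end Groth.Agent.Cohder.RpushSum
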