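import Groth.Agent.PerfA.Neeman
import Groth.Agent.PerfA.QCohD
import Groth.Agent.PerfB.ModExactCoprod
import Groth.Agent.PerfB.CoprodDerived
import Groth.Agent.LoccohB.RpushTri
import Groth.Agent.S1003
import Groth.Agent.S1040

/-! A thick subcategory of `D(O_X)` containing a perfect weak generator of `D_QCoh(O_X)` contains all
perfect objects. -/

set_option autoImplicit false
universe u

open CategoryTheory CategoryTheory.Limits Pretriangulated AlgebraicGeometry
attribute [local instance] HasDerivedCategory.standard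

namespace Groth.Agent.Cohder.GenThick
open Groth.Agent.PerfA

theorem prop_of_isPerfect (X : Scheme.{u}) [CompactSpace X] [QuasiSeparatedSpace X]
    (G : DCoh.D X) (hG : DCoh.IsPerfect G)
    (hgen : ∀ E : DCoh.D X, DCoh.IsQCohD E → (∀ (n : ℤ) (φ : G⟦n⟧ ⟶ E), φ = 0) → IsZero E)
    (P : ObjectProperty (DCoh.D X)) [P.IsTriangulated] [P.IsStableUnderRetracts] (hGP : P G)
    (C : DCoh.D X) (hC : DCoh.IsPerfect C) : P C := by
  have := LoccohB.RpushTri.locallySmall_D X
  have hcp : HasCoproducts.{u} (DCoh.D X) := fun J => inferInstance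
  refine Neeman.prop_of_isCompactObjRel (Q := DCoh.IsQCohD (X := X))
    (fun ι K hK => S1040.result X K hK) (J := PUnit) (fun _ => G)
    (fun _ => QCohD.isQCohD_of_isPerfect G hG) (fun _ m K _ => inferInstance)
    (fun K hK h => hgen K hK (h PUnit.unit))
    (fun _ => (S1003.result X G (QCohD.isQCohD_of_isPerfect G hG)).2 hG) P (fun _ => hGP)
    C (QCohD.isQCohD_of_isPerfect C hC) ((S1003.result X C (QCohD.isQCohD_of_isPerfect C hC)).2 hC)

end Groth.Agent.Cohder.GenThick
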