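import Groth.Agent.Cohder.BddPush
import Groth.Agent.Cohder.GenThick

/-! Boundedness tested on a perfect generator. -/

set_option autoImplicit false
universe v u

open CategoryTheory CategoryTheory.Limits Pretriangulated AlgebraicGeometry Filter ZeroObject

namespace Groth.Agent.Cohder.BddGen
open Groth.Agent.PerfA Groth.Agent.Cohder.BddAff Groth.Agent.Cohder.BddMain Groth.Agent.Cohder.HomVanish

section Abstract

variable {D : Type u} [Category.{v} D] [Preadditive D] [HasZeroObject D] [HasShift D ℤ]
  [∀ n : ℤ, (shiftFunctor D n).Additive] [Pretriangulated D]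

lemma homVan_shift_left {P E : D} {i : ℤ} (n j : ℤ) (hj : j + n = i) (h : HomVan P E j) :
    HomVan (P⟦n⟧) E i := by
  rw [homVan_iff _ _ i (-i) (by omega)]
  rw [homVan_iff _ _ j (-j) (by omega)] at h
  intro φ
  rw [← cancel_epi ((shiftFunctorAdd' D n (-i) (-j) (by omega)).hom.app P), comp_zero]
  exact h _

/-- the class of objects `P` with `Hom(P, E⟦i⟧) = 0` for almost all `i` -/
def van (E : D) (F : Filter ℤ) : ObjectProperty D := fun P => ∀ᶠ i in F, HomVan P E i

variable (E : D) {F : Filter ℤ} (hF : ShiftInv F)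

instance : (van E F).IsStableUnderRetracts where
  of_retract r h := by
    have h' : ∀ᶠ i in F, HomVan _ E i := h
    change ∀ᶠ i in F, HomVan _ E i
    filter_upwards [h'] with i hi
    exact hi.of_retract r.i r.r r.retract

instance : (van E F).IsClosedUnderIsomorphisms where
  of_iso e h := by
    have h' : ∀ᶠ i in F, HomVan _ E i := h
    change ∀ᶠ i in F, HomVan _ E i
    filter_upwards [h'] with i hi
    exact hi.of_iso_left e

instance : (van E F).ContainsZero where
  exists_zero := ⟨0, isZero_zero _, Eventually.of_forall fun i => HomVan.of_isZero_left (isZero_zero _) _ _⟩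

include hF in
lemma isTriangulated_van : (van E F).IsTriangulated := by
  have h1 : (van E F).IsStableUnderShift ℤ :=
    { isStableUnderShiftBy := fun n =>
        { le_shift := fun P hP => by
            have h2 := (hF (-n)).eventually hP
            change ∀ᶠ i in F, HomVan _ E i
            filter_upwards [h2] with i hi
            exact homVan_shift_left n (i + -n) (by omega) hi } }
  have h2 : (van E F).IsTriangulatedClosed₂ := .mk' fun T hT h₁ h₃ => by
    have h₁' : ∀ᶠ i in F, HomVan T.obj₁ E i := h₁
    have h₃' : ∀ᶠ i in F, HomVan T.obj₃ E i := h₃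
    change ∀ᶠ i in F, HomVan T.obj₂ E i
    filter_upwards [h₁', h₃'] with i hi1 hi3 φ
    obtain ⟨ψ, hψ⟩ := Triangle.yoneda_exact₂ _ hT φ (hi1 _)
    rw [hψ, hi3 ψ, comp_zero]
  exact { }

end Abstract

attribute [local instance] HasDerivedCategory.standard

theorem eventually_isZero_iff {F : Filter ℤ} (hF : ShiftInv F) (X : Scheme.{u}) [CompactSpace X]
    [QuasiSeparatedSpace X] (G : DCoh.D X) (hG : DCoh.IsPerfect G)
    (hgen : ∀ E : DCoh.D X, DCoh.IsQCohD E → (∀ (n : ℤ) (φ : G⟦n⟧ ⟶ E), φ = 0) → IsZero E)
    (E : DCoh.D X) (hE : DCoh.IsQCohD E) :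
    (∀ᶠ i in F, IsZero (DCoh.HD E i)) ↔ ∀ᶠ i in F, HomVan G E i := by
  rw [BddPush.eventually_isZero_iff hF X E hE]
  refine ⟨fun h => h G hG, fun h P hP => ?_⟩
  have := isTriangulated_van E hF
  exact GenThick.prop_of_isPerfect X G hG hgen (van E F) h P hP

end Groth.Agent.Cohder.BddGen
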