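import Groth.Agent.PerfB.KoszulOn

/-! If `H^i(M)` is `l`-power torsion in a window around `n` and the morphisms `K(l) ⟶ M⟦i⟧` vanish in a
window around `n`, then `H^n(M) = 0`. -/

set_option autoImplicit false
universe w u

open CategoryTheory CategoryTheory.Limits Pretriangulated Koszul
open Groth.Agent.PerfB.KoszulHom Groth.Agent.PerfB.KoszulOn

namespace Groth.Agent.Cohder.BddKoszul

variable {A : Type u} [CommRing A] [HasDerivedCategory.{w} (ModuleCat.{u} A)]

lemma hom_koszul_eq_zero (M : DerivedCategory (ModuleCat.{u} A)) : ∀ (l : List A) (n : ℤ),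
    (∀ a ∈ l, ∀ i : ℤ, n - 2 * (l.length : ℤ) ≤ i → i ≤ n + l.length → TorsD a i M) →
    (∀ i : ℤ, n - (l.length : ℤ) ≤ i → i ≤ n + l.length →
      ∀ φ : DerivedCategory.Q.obj (koszul A l) ⟶ M⟦i⟧, φ = 0) →
    ∀ φ : DerivedCategory.Q.obj (koszul A []) ⟶ M⟦n⟧, φ = 0 := by
  intro l
  induction l with
  | nil => intro n _ h φ; exact h n (by simp) (by simp) φ
  | cons f l ih =>
    intro n hT hK
    have hlen : ((f :: l).length : ℤ) = l.length + 1 := by simp
    refine ih n (fun a ha i h1 h2 => hT a (List.mem_cons_of_mem _ ha) i (by omega) (by omega)) ?_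
    intro i h1 h2
    have key : ∀ ψ : DerivedCategory.Q.obj (koszul A l) ⟶ M⟦i⟧, f • ψ = 0 → ψ = 0 := by
      intro ψ hψ
      obtain ⟨χ, hχ⟩ := factor_cons f l (M⟦i⟧) ψ hψ
      have h0 : χ = 0 := hK i (by omega) (by omega) χ
      rw [← hχ, h0]
      exact comp_zero
    intro φ
    obtain ⟨k, hk⟩ := hom_koszul_torsion f l (M⟦i⟧) (fun j hj1 hj2 =>
      (hT f List.mem_cons_self (i + j) (by omega) (by omega)).shift i j rfl) φ
    induction k with
    | zero => simpa using hk
    | succ k ihk =>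
      apply ihk
      apply key
      rw [smul_smul, ← pow_succ', hk]

/-- The window lemma: `H^n(M) = 0` if `H^i(M)` is `l`-power torsion and all morphisms
`K(l) ⟶ M⟦i⟧` vanish, for `i` in a window around `n`. -/
theorem isZero_homology (M : DerivedCategory (ModuleCat.{u} A)) (l : List A) (n : ℤ)
    (hT : ∀ a ∈ l, ∀ i : ℤ, n - 2 * (l.length : ℤ) ≤ i → i ≤ n + l.length → TorsD a i M)
    (hK : ∀ i : ℤ, n - (l.length : ℤ) ≤ i → i ≤ n + l.length →
      ∀ φ : DerivedCategory.Q.obj (koszul A l) ⟶ M⟦i⟧, φ = 0) :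
    IsZero ((DerivedCategory.homologyFunctor (ModuleCat.{u} A) n).obj M) :=
  IsZero.of_iso (isZero_homology_of_hom_eq_zero (M⟦n⟧)
    (fun φ => hom_koszul_eq_zero M l n hT hK φ)) (homologyShiftIso M n 0 n (by simp)).symm

end Groth.Agent.Cohder.BddKoszul
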