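import Mathlib.CategoryTheory.Triangulated.Pretriangulated
import Mathlib.CategoryTheory.Triangulated.Yoneda
import Mathlib.Order.Filter.Basic

/-! Vanishing of all morphisms `P ⟶ E⟦i⟧` in a pretriangulated category. -/

set_option autoImplicit false
universe v u

open CategoryTheory CategoryTheory.Limits Pretriangulated

namespace Groth.Agent.Cohder.HomVanish

variable {D : Type u} [Category.{v} D] [Preadditive D] [HasZeroObject D] [HasShift D ℤ]
  [∀ n : ℤ, (shiftFunctor D n).Additive] [Pretriangulated D]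

/-- all morphisms `P ⟶ E⟦i⟧` vanish -/
def HomVan (P E : D) (i : ℤ) : Prop := ∀ φ : P ⟶ E⟦i⟧, φ = 0

/-- the bijection `(P⟦j⟧ ⟶ E) ≃ (P ⟶ E⟦i⟧)`, as a statement on vanishing -/
lemma homVan_iff (P E : D) (i j : ℤ) (h : j + i = 0) :
    HomVan P E i ↔ ∀ φ : P⟦j⟧ ⟶ E, φ = 0 := by
  let α : (P⟦j⟧)⟦i⟧ ≅ P := (shiftFunctorCompIsoId D j i h).app P
  constructor
  · intro H φ
    apply (shiftFunctor D i).map_injective
    rw [Functor.map_zero, ← cancel_epi α.inv, comp_zero]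
    exact H _
  · intro H φ
    obtain ⟨ψ, hψ⟩ := (shiftFunctor D i).map_surjective (α.hom ≫ φ)
    rw [← cancel_epi α.hom, ← hψ, H ψ, Functor.map_zero, comp_zero]

lemma HomVan.of_iso {P E E' : D} {i : ℤ} (h : HomVan P E i) (e : E ≅ E') : HomVan P E' i := by
  intro φ
  rw [← cancel_mono ((shiftFunctor D i).map e.inv), zero_comp]
  exact h _

lemma HomVan.of_retract {P P' E : D} {i : ℤ} (h : HomVan P E i) (s : P' ⟶ P) (r : P ⟶ P')
    (hsr : s ≫ r = 𝟙 P') : HomVan P' E i := by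
  intro φ
  rw [← Category.id_comp φ, ← hsr, Category.assoc, h (r ≫ φ), comp_zero]

lemma HomVan.of_iso_left {P P' E : D} {i : ℤ} (h : HomVan P E i) (e : P ≅ P') : HomVan P' E i :=
  h.of_retract e.inv e.hom e.inv_hom_id

lemma HomVan.shift {P E : D} {i : ℤ} (h : HomVan P E i) (n j : ℤ) (hj : n + j = i) :
    HomVan P (E⟦n⟧) j := by
  intro φ
  rw [← cancel_mono ((shiftFunctorAdd' D n j i hj).inv.app E), zero_comp]
  exact h _

lemma HomVan.of_isZero_left {P : D} (hP : IsZero P) (E : D) (i : ℤ) : HomVan P E i :=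
  fun _ => hP.eq_of_src _ _

lemma HomVan.obj₂ {T : Triangle D} (hT : T ∈ distTriang D) {P : D} {i : ℤ}
    (h₁ : HomVan P T.obj₁ i) (h₃ : HomVan P T.obj₃ i) : HomVan P T.obj₂ i := by
  intro φ
  obtain ⟨ψ, hψ⟩ := Triangle.coyoneda_exact₂ _ (Triangle.shift_distinguished _ hT i) φ (by
    exact h₃ _)
  rw [hψ, h₁ ψ]
  exact zero_comp

lemma HomVan.obj₁ {T : Triangle D} (hT : T ∈ distTriang D) {P : D} {i j : ℤ} (hij : j + 1 = i)
    (h₂ : HomVan P T.obj₂ i) (h₃ : HomVan P T.obj₃ j) : HomVan P T.obj₁ i :=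
  HomVan.obj₂ (inv_rot_of_distTriang _ hT) (h₃.shift (-1) i (by omega)) h₂

lemma HomVan.obj₃ {T : Triangle D} (hT : T ∈ distTriang D) {P : D} {i j : ℤ} (hij : i + 1 = j)
    (h₂ : HomVan P T.obj₂ i) (h₁ : HomVan P T.obj₁ j) : HomVan P T.obj₃ i :=
  HomVan.obj₂ (rot_of_distTriang _ hT) h₂ (h₁.shift 1 i (by omega))

end Groth.Agent.Cohder.HomVanish
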