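import Groth.Agent.Cohder.BddShriek
import Groth.Agent.Cohder.HomVanish
import Groth.Agent.S1011
import Groth.Agent.S1098

/-! Main step: `E ∈ D_QCoh(O_X)` has almost no cohomology sheaves as soon as, for every perfect `P`,
almost all `Hom(P, E⟦i⟧)` vanish. -/

set_option autoImplicit false
universe u

open CategoryTheory CategoryTheory.Limits Pretriangulated Koszul AlgebraicGeometry Filter
attribute [local instance] HasDerivedCategory.standard

namespace Groth.Agent.Cohder.BddMain
open Groth.Agent.PerfA.Restrict Groth.Agent.PerfA Groth.Agent.PerfA.PerfLocal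
  Groth.Agent.PerfA.AffModel Groth.Agent.PerfC.Supp Groth.Agent.PerfC.ExtZeroD
  Groth.Agent.Cohder.BddAff Groth.Agent.Cohder.BddShriek Groth.Agent.Cohder.HomVanish
  AlgebraicGeometry.Scheme.Modules

/-- Vanishing of maps from a perfect object to an object with almost no cohomology. -/
theorem eventually_homVan {X : Scheme.{u}} [CompactSpace X] [QuasiSeparatedSpace X]
    {F : Filter ℤ} (hF : ShiftInv F) (P C : DCoh.D X) (hP : DCoh.IsPerfect P)
    (hC : DCoh.IsQCohD C) (h : ∀ᶠ i in F, IsZero (DCoh.HD C i)) : ∀ᶠ i in F, HomVan P C i := by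
  obtain ⟨⟨a, b, -, hab⟩, -⟩ := S1011.result X P hP
  filter_upwards [hF.window h a b] with i hi φ
  refine hab _ (QCohD.isQCohD_shift hC i) (fun j hj1 hj2 => ?_) φ
  exact (hi (i + j) (by omega) (by omega)).of_iso (HDshift C i j (i + j) rfl)

/-- the property to be proved -/
def Good (F : Filter ℤ) (X : Scheme.{u}) : Prop :=
  ∀ E : DCoh.D X, DCoh.IsQCohD E → (∀ P : DCoh.D X, DCoh.IsPerfect P → ∀ᶠ i in F, HomVan P E i) →
    ∀ᶠ i in F, IsZero (DCoh.HD E i)

/-- direct images along a quasi-compact open -/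
def HasPush (X : Scheme.{u}) (U : X.Opens) : Prop :=
  ∃ (R : DCoh.D (U : Scheme.{u}) ⥤ DCoh.D X) (adj : restrictD U.ι ⊣ R), IsIso adj.counit ∧
    ∀ K : DCoh.D (U : Scheme.{u}), DCoh.IsQCohD K → DCoh.IsQCohD (R.obj K)

section Step

variable {X : Scheme.{u}} [CompactSpace X] [QuasiSeparatedSpace X] (U V : X.Opens)

omit [CompactSpace X] in
lemma isCompact_preimage (hU : IsCompact (U : Set X)) (hV : IsCompact (V : Set X)) :
    IsCompact ((V.ι ⁻¹ᵁ U : (V : Scheme.{u}).Opens) : Set (V : Scheme.{u})) := by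
  rw [V.ι.isOpenEmbedding.isInducing.isCompact_iff]
  have h1 : (V.ι '' ((V.ι ⁻¹ᵁ U : (V : Scheme.{u}).Opens) : Set (V : Scheme.{u}))) =
      (U : Set X) ∩ V := by
    rw [Scheme.Hom.coe_preimage, Set.image_preimage_eq_inter_range, Scheme.Opens.range_ι]
  rw [h1]
  exact QuasiSeparatedSpace.inter_isCompact _ _ U.isOpen hU V.isOpen hV

theorem good_of_sup {F : Filter ℤ} (hF : ShiftInv F) (hV : IsAffineOpen V)
    (hU : IsCompact (U : Set X)) (hUV : U ⊔ V = ⊤) (hR : HasPush X U) (hG : Good F U) :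
    Good F X := by
  have : IsAffine V := hV
  have hW : IsCompact ((V.ι ⁻¹ᵁ U : (V : Scheme.{u}).Opens) : Set (V : Scheme.{u})) :=
    isCompact_preimage U V hU hV.isCompact
  obtain ⟨l, hl⟩ := exists_list_basicOpen (V : Scheme.{u}) (V.ι ⁻¹ᵁ U) hW
  have hl' : ∀ y : (V : Scheme.{u}), V.ι y ∈ U ↔ ∃ f ∈ l, y ∈ (V : Scheme.{u}).basicOpen f := hl
  have hT := isPerfect_testD U V hUV hl'
  have hTU := isZero_restrictD_testD U V hl'
  intro E hE hP
  obtain ⟨R, adj, hadj, hRq⟩ := hR
  let L := restrictD U.ι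
  let η : E ⟶ R.obj (L.obj E) := adj.unit.app E
  have hη : IsIso (L.map η) := by
    have htri : L.map η ≫ adj.counit.app (L.obj E) = 𝟙 _ := adj.left_triangle_components E
    have : IsIso (L.map η ≫ adj.counit.app (L.obj E)) := by rw [htri]; infer_instance
    exact IsIso.of_isIso_comp_right (L.map η) (adj.counit.app (L.obj E))
  obtain ⟨C, c, d, hdist⟩ := distinguished_cocone_triangle₁ η
  have hEU : DCoh.IsQCohD (L.obj E) := QCohD.isQCohD_restrictD U.ι hE
  have hB : DCoh.IsQCohD (R.obj (L.obj E)) := hRq _ hEU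
  have hC : DCoh.IsQCohD C := QCohD.isQCohD_ext₁ _ hdist hE hB
  have hCU : IsZero (L.obj C) :=
    (Triangle.isZero₁_iff_isIso₂ _ (L.map_distinguished _ hdist)).2 hη
  -- maps to `B` are computed on `U`
  have hPB : ∀ (P : DCoh.D X) (i : ℤ), HomVan P (R.obj (L.obj E)) i ↔ HomVan (L.obj P) (L.obj E) i := by
    intro P i
    rw [homVan_iff _ _ i (-i) (by omega), homVan_iff _ _ i (-i) (by omega)]
    let e : L.obj (P⟦-i⟧) ≅ (L.obj P)⟦-i⟧ := (L.commShiftIso (-i)).app P
    constructor
    · intro H φ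
      rw [← cancel_epi e.hom, comp_zero]
      apply (adj.homEquiv _ _).injective
      exact (H _).trans (H _).symm
    · intro H φ
      apply (adj.homEquiv _ _).symm.injective
      rw [← cancel_epi e.inv]
      exact (H _).trans (H _).symm
  -- `C` has almost no cohomology
  have hC0 : ∀ᶠ i in F, IsZero (DCoh.HD C i) := by
    refine eventually_isZero_HD U V hF hUV hl' C hC
      (Eventually.of_forall fun i => Functor.map_isZero _ hCU) ?_
    filter_upwards [hP _ hT] with i hi
    refine HomVan.obj₁ hdist (i := i) (j := i - 1) (by omega) hi ?_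
    exact (hPB _ _).2 (HomVan.of_isZero_left hTU _ _)
  -- `E|_U` has almost no cohomology
  have hU0 : ∀ᶠ i in F, IsZero (DCoh.HD (L.obj E) i) := by
    refine hG _ hEU fun P hPP => ?_
    obtain ⟨Q, -, s, r, hQ, -, hsr, -⟩ := S1098.result X U hU Set.univ isClosed_univ
      (by simp) E hE P hPP (fun k x _ => trivial) 0
    have h1 := (hF 1).eventually (eventually_homVan hF Q C hQ hC hC0)
    filter_upwards [hP Q hQ, h1] with i hi hi1
    have h2 : HomVan Q (R.obj (L.obj E)) i := HomVan.obj₃ hdist (j := i + 1) rfl hi hi1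
    exact ((hPB _ _).1 h2).of_retract s r hsr
  exact eventually_isZero_HD U V hF hUV hl' E hE hU0 (hP _ hT)

end Step

/-- `X` is covered by `n` affine opens -/
def Affs (X : Scheme.{u}) (n : ℕ) : Prop :=
  ∃ U : Fin n → X.Opens, (∀ i, IsAffineOpen (U i)) ∧ ⨆ i, U i = ⊤

lemma exists_affs (X : Scheme.{u}) [CompactSpace X] : ∃ n, Affs X n := by
  have h : ∀ x : X, ∃ U : X.Opens, IsAffineOpen U ∧ x ∈ U := fun x => by
    obtain ⟨U, hU, hx, -⟩ := X.isBasis_affineOpens.exists_subset_of_mem_open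
      (show x ∈ (⊤ : X.Opens) from trivial) (⊤ : X.Opens).isOpen
    obtain ⟨V, hV, rfl⟩ := hU
    exact ⟨V, hV, hx⟩
  choose U hU hx using h
  obtain ⟨t, ht⟩ := CompactSpace.elim_nhds_subcover (fun x => (U x : Set X))
    (fun x => (U x).isOpen.mem_nhds (hx x))
  refine ⟨t.card, fun i => U (t.equivFin.symm i), fun i => hU _, top_le_iff.1 fun x _ => ?_⟩
  have hx : x ∈ ⋃ x ∈ t, (U x : Set X) := by
    rw [ht]
    trivial
  simp only [Set.mem_iUnion] at hx
  obtain ⟨y, hy, hxy⟩ := hx
  rw [TopologicalSpace.Opens.mem_iSup]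
  exact ⟨t.equivFin ⟨y, hy⟩, by simpa using hxy⟩

/-- the main theorem -/
theorem good {F : Filter ℤ} (hF : ShiftInv F)
    (hR : ∀ (X : Scheme.{u}) [CompactSpace X] [QuasiSeparatedSpace X] (U : X.Opens),
      IsCompact (U : Set X) → HasPush X U) :
    ∀ (n : ℕ) (X : Scheme.{u}) [CompactSpace X] [QuasiSeparatedSpace X], Affs X n → Good F X := by
  intro n
  induction n with
  | zero =>
    rintro X _ _ ⟨U, -, hU⟩ E - -
    refine Eventually.of_forall fun i => isZero_of_restrict_opens _ fun x => ?_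
    have hx : x ∈ ⨆ i, U i := by
      rw [hU]
      trivial
    rw [TopologicalSpace.Opens.mem_iSup] at hx
    exact hx.choose.elim0
  | succ n ih =>
    rintro X _ _ ⟨W, hW, hWX⟩
    let U : X.Opens := ⨆ i : Fin n, W i.castSucc
    have hU : IsCompact (U : Set X) := by
      rw [TopologicalSpace.Opens.coe_iSup]
      exact isCompact_iUnion fun i => (hW _).isCompact
    have hUV : U ⊔ W (Fin.last n) = ⊤ := by
      refine top_le_iff.1 ?_
      rw [← hWX]
      refine iSup_le fun i => ?_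
      refine Fin.lastCases le_sup_right (fun j => ?_) i
      exact (le_iSup (fun i : Fin n => W i.castSucc) j).trans le_sup_left
    have : CompactSpace (U : Scheme.{u}) := isCompact_iff_compactSpace.1 hU
    have : QuasiSeparatedSpace (U : Scheme.{u}) := U.ι.isOpenEmbedding.quasiSeparatedSpace
    refine good_of_sup U (W (Fin.last n)) hF (hW _) hU hUV (hR X U hU) ?_
    refine ih _ ⟨fun i => U.ι ⁻¹ᵁ (W i.castSucc), fun i => ?_, ?_⟩
    · refine (hW _).preimage_of_isOpenImmersion U.ι ?_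
      rw [Scheme.Opens.opensRange_ι]
      exact le_iSup (fun i : Fin n => W i.castSucc) i
    · refine top_le_iff.1 fun x _ => ?_
      rw [TopologicalSpace.Opens.mem_iSup]
      have hx : U.ι x ∈ U := x.2
      obtain ⟨i, hi⟩ := TopologicalSpace.Opens.mem_iSup.1 hx
      exact ⟨i, hi⟩

end Groth.Agent.Cohder.BddMain
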