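import Groth.Agent.Cohder.BddMain
import Groth.Agent.PerfA.OpenPush
import Groth.Agent.S0998

/-! Direct images along quasi-compact opens; the main theorem without the hypothesis on direct images. -/

set_option autoImplicit false
universe u

open CategoryTheory CategoryTheory.Limits Pretriangulated Koszul AlgebraicGeometry Filter
attribute [local instance] HasDerivedCategory.standard

namespace Groth.Agent.Cohder.BddPush
open Groth.Agent.PerfA Groth.Agent.Cohder.BddAff Groth.Agent.Cohder.BddMain Groth.Agent.Cohder.HomVanish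

theorem hasPush (X : Scheme.{u}) [QuasiSeparatedSpace X] (U : X.Opens)
    (hU : IsCompact (U : Set X)) : HasPush X U := by
  have : CompactSpace (U : Scheme.{u}) := isCompact_iff_compactSpace.mp hU
  have : DCoh.HasRpush U.ι := LoccohB.RpushTri.hasRpush U.ι
  have h1 : QuasiCompact U.ι := inferInstance
  exact ⟨DCoh.Rpush U.ι, OpenPush.restrictRpushAdj U.ι, inferInstance,
    fun K hK => S0998.result U.ι K hK⟩

theorem good {F : Filter ℤ} (hF : ShiftInv F) (X : Scheme.{u}) [CompactSpace X]
    [QuasiSeparatedSpace X] : Good F X := by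
  obtain ⟨n, hn⟩ := exists_affs X
  exact BddMain.good hF (fun X _ _ U hU => hasPush X U hU) n X hn

/-- `E ∈ D_QCoh(O_X)` has almost no cohomology iff `Hom(P, E⟦i⟧) = 0` for almost all `i`, for all
perfect `P`. -/
theorem eventually_isZero_iff {F : Filter ℤ} (hF : ShiftInv F) (X : Scheme.{u}) [CompactSpace X]
    [QuasiSeparatedSpace X] (E : DCoh.D X) (hE : DCoh.IsQCohD E) :
    (∀ᶠ i in F, IsZero (DCoh.HD E i)) ↔
      ∀ P : DCoh.D X, DCoh.IsPerfect P → ∀ᶠ i in F, HomVan P E i :=
  ⟨fun h P hP => eventually_homVan hF P E hP hE h, fun h => good hF X E hE h⟩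

end Groth.Agent.Cohder.BddPush
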