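import Groth.Agent.Cohder.BddAff
import Groth.Agent.PerfA.AffModel
import Groth.Agent.PerfA.QCohD
import Groth.Agent.PerfC.ExtZeroD2

/-! The perfect object `j_! K(f₁, …, f_r)~` attached to an affine open `V` and functions `f_i` on `V`
such that `U ⊓ V = ⋃ D(f_i)`, `U ⊔ V = ⊤`, and its use as a test object. -/

set_option autoImplicit false
universe u

open CategoryTheory CategoryTheory.Limits Pretriangulated Koszul AlgebraicGeometry Filter
open Groth.Agent.PerfB.KoszulHom Groth.Agent.PerfB.KoszulOn Groth.Agent.PerfA.TildeSupp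
attribute [local instance] HasDerivedCategory.standard

namespace Groth.Agent.Cohder.BddShriek
open Groth.Agent.PerfA.Restrict Groth.Agent.PerfA Groth.Agent.PerfA.PerfLocal
  Groth.Agent.PerfA.AffModel Groth.Agent.PerfC.Supp Groth.Agent.PerfC.ExtZeroD
  Groth.Agent.Cohder.BddAff AlgebraicGeometry.Scheme.Modules

section Ring

variable {A : Type u} [CommRing A]

lemma fp_of_isZero {M : ModuleCat.{u} A} (h : IsZero M) : fp M := by
  have := ModuleCat.isZero_iff_subsingleton.1 h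
  exact ⟨Module.Finite.of_finite, h.projective⟩

lemma fp_self : fp (ModuleCat.of A A) :=
  ⟨Module.Finite.self A, (IsProjective.iff_projective A).1 inferInstance⟩

lemma isBddFP_single :
    IsBddFP ((CochainComplex.singleFunctor (ModuleCat.{u} A) 0).obj (ModuleCat.of A A)) := by
  refine ⟨⟨0, 0, fun i hi => HomologicalComplex.isZero_single_obj_X _ _ _ _ (by omega)⟩,
    fun i => ?_⟩
  by_cases h : i = 0
  · subst h
    exact (fp (A := A)).prop_of_iso (HomologicalComplex.singleObjXSelf (ComplexShape.up ℤ) 0 _).symm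
      fp_self
  · exact fp_of_isZero (HomologicalComplex.isZero_single_obj_X _ _ _ _ h)

lemma isPerfect_koszul (l : List A) : DRing.IsPerfect A (DerivedCategory.Q.obj (koszul A l)) := by
  obtain ⟨⟨a, b, h⟩, h2⟩ := (isBddFP_single (A := A)).kosOn l
  rw [kosOn_single_eq] at h h2
  exact ⟨_, a, b, h, fun i => ⟨(h2 i).1, (IsProjective.iff_projective _).2 (h2 i).2⟩,
    ⟨Iso.refl _⟩⟩

end Ring

section Kos

variable (V : Scheme.{u}) [IsAffine V] (l : List Γ(V, ⊤))

/-- The Koszul object on an affine scheme. -/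
noncomputable def kosD : DCoh.D V := (modelD V).obj (DerivedCategory.Q.obj (koszul Γ(V, ⊤) l))

lemma isPerfect_kosD : DCoh.IsPerfect (kosD V l) :=
  (isPerfect_modelD_iff V _).2 (isPerfect_koszul l)

lemma isZero_restrictD_kosD (W : V.Opens) (hl : ∀ y : V, y ∈ W ↔ ∃ f ∈ l, y ∈ V.basicOpen f) :
    IsZero ((restrictD W.ι).obj (kosD V l)) := by
  refine (isZero_restrictD_modelD_iff_isTors V _ W l hl).2 ?_
  intro f hf i
  have := torsD_kosOn ((CochainComplex.singleFunctor (ModuleCat.{u} Γ(V, ⊤)) 0).obj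
    (ModuleCat.of Γ(V, ⊤) Γ(V, ⊤))) l f hf i
  rw [kosOn_single_eq] at this
  exact this

lemma isZero_HD_restrictD_tildeD_iff {R : CommRingCat.{u}} (M : DerivedCategory (ModuleCat.{u} R))
    {U : Scheme.{u}} (j : U ⟶ Spec R) [IsOpenImmersion j] (i : ℤ) :
    IsZero (DCoh.HD ((restrictD j).obj ((DCoh.tildeD R).obj M)) i) ↔
      ∀ y : U, VanAt ((DerivedCategory.homologyFunctor (ModuleCat.{u} R) i).obj M) (j y) := by
  rw [← isZero_restrict_tilde_iff]
  exact (HDrestrict j _ i ≪≫ (restrictFunctor j).mapIso (HDtilde M i)).isZero_iff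

lemma isZero_HD_restrictD_modelD_iff (M : DerivedCategory (ModuleCat.{u} Γ(V, ⊤)))
    {W : Scheme.{u}} (j : W ⟶ V) [IsOpenImmersion j] (i : ℤ) :
    IsZero (DCoh.HD ((restrictD j).obj ((modelD V).obj M)) i) ↔
      ∀ y : W, VanAt ((DerivedCategory.homologyFunctor (ModuleCat.{u} Γ(V, ⊤)) i).obj M)
        (V.isoSpec.hom (j y)) :=
  ((DerivedCategory.homologyFunctor _ i).mapIso
    ((restrictDComp j V.isoSpec.hom).app _)).isZero_iff.trans
    (isZero_HD_restrictD_tildeD_iff M (j ≫ V.isoSpec.hom) i)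

lemma isZero_HD_modelD (M : DerivedCategory (ModuleCat.{u} Γ(V, ⊤))) (i : ℤ)
    (h : IsZero ((DerivedCategory.homologyFunctor (ModuleCat.{u} Γ(V, ⊤)) i).obj M)) :
    IsZero (DCoh.HD ((modelD V).obj M) i) :=
  IsZero.of_iso (Functor.map_isZero (restrictFunctor V.isoSpec.hom)
    (Functor.map_isZero (tilde.functor _) h))
    (HDrestrict V.isoSpec.hom _ i ≪≫ (restrictFunctor V.isoSpec.hom).mapIso (HDtilde M i))

end Kos

section Test

variable {X : Scheme.{u}} (U V : X.Opens) [IsAffine V] (l : List Γ(V, ⊤))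

/-- The test object: extension by zero of the Koszul object of `V`. -/
noncomputable def testD : DCoh.D X := (shriekD V.ι).obj (kosD V l)

variable {l}

lemma isZero_restrictD_testD (hl : ∀ y : (V : Scheme.{u}), V.ι y ∈ U ↔
    ∃ f ∈ l, y ∈ (V : Scheme.{u}).basicOpen f) :
    IsZero ((restrictD U.ι).obj (testD V l)) := by
  rw [ExactD.isZero_iff]
  intro i
  refine (supp_eq_empty_iff _ i).1 ?_
  rw [supp_restrictD, testD, supp_shriekD]
  have h1 := supp_zero (isZero_restrictD_kosD (V : Scheme.{u}) l (V.ι ⁻¹ᵁ U) hl) i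
  rw [supp_restrictD] at h1
  rw [Set.eq_empty_iff_forall_notMem] at h1 ⊢
  rintro x ⟨y, hy, hyx⟩
  have hyU : V.ι y ∈ U := by
    rw [hyx]
    exact x.2
  exact h1 ⟨y, hyU⟩ hy

lemma isPerfect_testD (hUV : U ⊔ V = ⊤) (hl : ∀ y : (V : Scheme.{u}), V.ι y ∈ U ↔
    ∃ f ∈ l, y ∈ (V : Scheme.{u}).basicOpen f) : DCoh.IsPerfect (testD V l) := by
  refine isPerfect_of_restrictD_opens _ fun x => ?_
  have hx : x ∈ U ⊔ V := by
    rw [hUV]
    trivial
  rcases hx with h | h
  · exact ⟨U, h, isPerfect_of_isZero (isZero_restrictD_testD U V hl)⟩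
  · exact ⟨V, h, isPerfect_of_iso (unitIso V.ι _) (isPerfect_kosD _ _)⟩

/-- Vanishing of maps out of the test object, in terms of the module `M` with `M~ = C|_V`. -/
lemma hom_koszul_eq_zero (C : DCoh.D X) (M : DerivedCategory (ModuleCat.{u} Γ(V, ⊤)))
    (e : (modelD (V : Scheme.{u})).obj M ≅ (restrictD V.ι).obj C) (i : ℤ)
    (h : ∀ φ : testD V l ⟶ C⟦i⟧, φ = 0)
    (φ : DerivedCategory.Q.obj (koszul Γ(V, ⊤) l) ⟶ M⟦i⟧) : φ = 0 := by
  apply (modelD (V : Scheme.{u})).map_injective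
  rw [Functor.map_zero]
  let e' : (modelD (V : Scheme.{u})).obj (M⟦i⟧) ≅ (restrictD V.ι).obj (C⟦i⟧) :=
    ((modelD (V : Scheme.{u})).commShiftIso i).app M ≪≫ (shiftFunctor _ i).mapIso e ≪≫
      (((restrictD V.ι).commShiftIso i).app C).symm
  have h1 : (modelD (V : Scheme.{u})).map φ ≫ e'.hom = 0 := by
    apply ((adjunction V.ι).homEquiv _ _).symm.injective
    exact (h _).trans (h _).symm
  rw [← cancel_mono e'.hom, h1, zero_comp]

theorem eventually_isZero_HD {F : Filter ℤ} (hF : ShiftInv F) (hUV : U ⊔ V = ⊤)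
    (hl : ∀ y : (V : Scheme.{u}), V.ι y ∈ U ↔ ∃ f ∈ l, y ∈ (V : Scheme.{u}).basicOpen f)
    (C : DCoh.D X) (hC : DCoh.IsQCohD C)
    (h1 : ∀ᶠ i in F, IsZero (DCoh.HD ((restrictD U.ι).obj C) i))
    (h2 : ∀ᶠ i in F, ∀ φ : testD V l ⟶ C⟦i⟧, φ = 0) :
    ∀ᶠ i in F, IsZero (DCoh.HD C i) := by
  obtain ⟨M, ⟨e⟩⟩ := exists_iso_modelD (V : Scheme.{u}) (QCohD.isQCohD_restrictD V.ι hC)
  have hM : ∀ᶠ i in F, IsZero ((DerivedCategory.homologyFunctor
      (ModuleCat.{u} Γ(V, ⊤)) i).obj M) := by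
    refine eventually_isZero hF (R := Γ(V, ⊤)) M l ?_ ?_
    · filter_upwards [h1] with i hi a ha x hx
      have h3 : IsZero (DCoh.HD ((restrictD (V.ι ⁻¹ᵁ U).ι).obj
          ((modelD (V : Scheme.{u})).obj M)) i) := by
        refine IsZero.of_iso ?_ ((DerivedCategory.homologyFunctor _ i).mapIso
          ((restrictD (V.ι ⁻¹ᵁ U).ι).mapIso e))
        refine (supp_eq_empty_iff _ i).1 ?_
        have h4 := (supp_eq_empty_iff _ i).2 hi
        rw [supp_restrictD] at h4
        rw [supp_restrictD, supp_restrictD]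
        rw [Set.eq_empty_iff_forall_notMem] at h4 ⊢
        intro y hy
        exact h4 ⟨V.ι y.1, y.2⟩ hy
      rw [isZero_HD_restrictD_modelD_iff] at h3
      let y : (V : Scheme.{u}) := (V : Scheme.{u}).isoSpec.inv x
      have hy : (V : Scheme.{u}).isoSpec.hom y = x := by
        rw [← Scheme.Hom.comp_apply, (V : Scheme.{u}).isoSpec.inv_hom_id]
        rfl
      have hyU : y ∈ V.ι ⁻¹ᵁ U := (hl y).2 ⟨a, ha, (mem_basicOpen_iff a y).2 (hy ▸ hx)⟩
      have h5 := h3 ⟨y, hyU⟩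
      exact hy ▸ h5
    · filter_upwards [h2] with i hi φ
      exact hom_koszul_eq_zero V C M e i hi φ
  filter_upwards [h1, hM] with i hi hMi
  refine isZero_of_restrict_opens _ fun x => ?_
  have hx : x ∈ U ⊔ V := by
    rw [hUV]
    trivial
  rcases hx with h | h
  · exact ⟨U, h, hi.of_iso (HDrestrict U.ι C i).symm⟩
  · refine ⟨V, h, (isZero_HD_modelD (V : Scheme.{u}) M i hMi).of_iso ?_⟩
    exact (HDrestrict V.ι C i).symm ≪≫ (DerivedCategory.homologyFunctor _ i).mapIso e.symm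

end Test

end Groth.Agent.Cohder.BddShriek
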