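import Groth.Prelude.Def_CE
import Mathlib.Algebra.Homology.HomologySequenceLemmas
import Mathlib.Algebra.Homology.HomologicalComplexAbelian
import Mathlib.CategoryTheory.Abelian.DiagramLemmas.Four
import Mathlib.CategoryTheory.Abelian.Injective.Basic
import Mathlib.Algebra.Homology.Refinements

/-! Cartan-Eilenberg resolutions by iterating an embedding into a "split" complex of injectives. -/

set_option autoImplicit false
universe v u v' u'

open CategoryTheory CategoryTheory.Limits HomologicalComplex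

namespace Groth.Agent.Cohder.CERes

section Split

variable {A : Type u} [Category.{v} A] [Abelian A] (F E : ℤ → A)

/-- The split complex with terms `(F p ⊞ F (p+1)) ⊞ E p` -/
noncomputable def J : CochainComplex A ℤ :=
  CochainComplex.of (fun p => (F p ⊞ F (p + 1)) ⊞ E p)
    (fun _ => biprod.fst ≫ biprod.snd ≫ biprod.inl ≫ biprod.inl)
    (fun _ => by simp)

/-- identification of the terms -/
noncomputable def JX (p : ℤ) : (J F E).X p ≅ (F p ⊞ F (p + 1)) ⊞ E p := Iso.refl _

lemma J_d (p : ℤ) : (J F E).d p (p + 1) =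
    (JX F E p).hom ≫ biprod.fst ≫ biprod.snd ≫ biprod.inl ≫ biprod.inl ≫ (JX F E (p + 1)).inv := by
  have h := CochainComplex.of_d (fun p => (F p ⊞ F (p + 1)) ⊞ E p)
    (fun _ => biprod.fst ≫ biprod.snd ≫ biprod.inl ≫ biprod.inl) p
  refine h.trans ?_
  change _ = 𝟙 ((F p ⊞ F (p + 1)) ⊞ E p) ≫ biprod.fst ≫ biprod.snd ≫ biprod.inl ≫ biprod.inl ≫
    𝟙 ((F (p + 1) ⊞ F (p + 1 + 1)) ⊞ E (p + 1))
  simp

variable {F E}

lemma J_injective (hF : ∀ p, Injective (F p)) (hE : ∀ p, Injective (E p)) (p : ℤ) :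
    Injective ((J F E).X p) := by
  have := hF p
  have := hF (p + 1)
  have := hE p
  exact Injective.of_iso (JX F E p).symm inferInstance

lemma J_iCycles (p : ℤ) :
    (J F E).iCycles p ≫ (JX F E p).hom ≫ biprod.fst ≫ biprod.snd = 0 := by
  have h : (J F E).iCycles p ≫ (J F E).d p (p + 1) = 0 := by simp
  rw [J_d] at h
  have h2 := h =≫ ((JX F E (p + 1)).hom ≫ biprod.fst ≫ biprod.fst)
  simpa using h2

lemma J_cycles_injective (hF : ∀ p, Injective (F p)) (hE : ∀ p, Injective (E p)) (p : ℤ) :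
    Injective ((J F E).cycles p) := by
  have := J_injective hF hE p
  let t : (J F E).X p ⟶ (J F E).X p :=
    (JX F E p).hom ≫ (biprod.fst ≫ biprod.fst ≫ biprod.inl ≫ biprod.inl +
      biprod.snd ≫ biprod.inr) ≫ (JX F E p).inv
  have ht : t ≫ (J F E).d p (p + 1) = 0 := by
    rw [J_d]
    simp [t]
  have ht' : (J F E).iCycles p ≫ t = (J F E).iCycles p := by
    have h1 := J_iCycles (F := F) (E := E) p
    have h2 : t = 𝟙 _ - (JX F E p).hom ≫ biprod.fst ≫ biprod.snd ≫ biprod.inr ≫ biprod.inl ≫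
        (JX F E p).inv := by
      simp only [t]
      rw [← cancel_epi (JX F E p).inv, ← cancel_mono (JX F E p).hom]
      simp only [Category.assoc, Iso.inv_hom_id_assoc, Iso.inv_hom_id, Category.comp_id,
        Preadditive.comp_sub, Preadditive.sub_comp, Preadditive.comp_add, Preadditive.add_comp]
      apply biprod.hom_ext'
      · apply biprod.hom_ext' <;> simp
      · simp
    rw [h2, Preadditive.comp_sub, Category.comp_id, reassoc_of% h1]
    simp
  exact Retract.injective
    { i := (J F E).iCycles p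
      r := (J F E).liftCycles t (p + 1) (by simp) ht
      retract := by
        rw [← cancel_mono ((J F E).iCycles p)]
        simp [ht'] }

lemma J_inl_pOpcycles (p : ℤ) :
    (biprod.inl ≫ biprod.inl ≫ (JX F E p).inv) ≫ (J F E).pOpcycles p = 0 := by
  obtain ⟨m, rfl⟩ : ∃ m, p = m + 1 := ⟨p - 1, by lia⟩
  have h : (biprod.inl ≫ biprod.inl ≫ (JX F E (m + 1)).inv) =
      (biprod.inr ≫ biprod.inl ≫ (JX F E m).inv) ≫ (J F E).d m (m + 1) := by
    rw [J_d]
    simp
  rw [h, Category.assoc, d_pOpcycles, comp_zero]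

/-- the map `opcycles ⟶ E` -/
noncomputable def opToE (p : ℤ) : (J F E).opcycles p ⟶ E p :=
  (J F E).descOpcycles ((JX F E p).hom ≫ biprod.snd) (p - 1) (by simp) (by
    obtain ⟨m, rfl⟩ : ∃ m, p = m + 1 := ⟨p - 1, by lia⟩
    have : m + 1 - 1 = m := by lia
    rw [this, J_d]
    simp)

@[reassoc (attr := simp)]
lemma p_opToE (p : ℤ) : (J F E).pOpcycles p ≫ opToE p = (JX F E p).hom ≫ biprod.snd := by
  simp [opToE]

lemma J_homology_injective (hE : ∀ p, Injective (E p)) (p : ℤ) :
    Injective ((J F E).homology p) := by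
  have := hE p
  exact Retract.injective
    { i := (J F E).homologyι p ≫ opToE p
      r := (J F E).liftCycles (biprod.inr ≫ (JX F E p).inv) (p + 1) (by simp) (by
        rw [J_d]; simp) ≫ (J F E).homologyπ p
      retract := by
        rw [← cancel_epi ((J F E).homologyπ p), ← cancel_mono ((J F E).homologyι p)]
        simp only [Category.assoc, homology_π_ι, homology_π_ι_assoc, Category.comp_id,
          liftCycles_i_assoc, p_opToE_assoc]
        have h1 := J_iCycles (F := F) (E := E) p
        have h3 := J_inl_pOpcycles (F := F) (E := E) p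
        have h2 : (JX F E p).hom ≫ biprod.snd ≫ biprod.inr ≫ (JX F E p).inv = 𝟙 _ -
            (JX F E p).hom ≫ biprod.fst ≫ biprod.snd ≫ biprod.inr ≫ biprod.inl ≫ (JX F E p).inv -
            (JX F E p).hom ≫ biprod.fst ≫ biprod.fst ≫ biprod.inl ≫ biprod.inl ≫
              (JX F E p).inv := by
          rw [← cancel_epi (JX F E p).inv, ← cancel_mono (JX F E p).hom]
          simp only [Category.assoc, Iso.inv_hom_id_assoc, Iso.inv_hom_id, Category.comp_id,
            Preadditive.comp_sub, Preadditive.sub_comp]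
          apply biprod.hom_ext'
          · apply biprod.hom_ext' <;> simp
          · simp
        rw [reassoc_of% h2]
        simp only [Preadditive.sub_comp, Preadditive.comp_sub, Category.assoc, Category.id_comp]
        rw [reassoc_of% h1]
        simp only [Category.assoc] at h3
        rw [h3]
        simp }

end Split

section Step

variable {A : Type u} [Category.{v} A] [Abelian A] [EnoughInjectives A]

omit [EnoughInjectives A] in
/-- The embedding step, with abstract data. -/
lemma step_aux (n : ℤ) (K : CochainComplex A ℤ) [K.IsStrictlyGE n] (F E : ℤ → A)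
    (hF : ∀ p, Injective (F p)) (hE : ∀ p, Injective (E p))
    (hF0 : ∀ p, p ≤ n → IsZero (F p)) (hE0 : ∀ p, p < n → IsZero (E p))
    (α : ∀ p, K.X p ⟶ F p) (hα : ∀ p, Mono (image.ι (K.d (p - 1) p) ≫ α p))
    (β : ∀ p, K.opcycles p ⟶ E p) (hβ : ∀ p, Mono (β p)) :
    ∃ (L : CochainComplex A ℤ) (f : K ⟶ L), L.IsStrictlyGE n ∧ Mono f ∧
      (∀ p, Mono (homologyMap f p)) ∧ (∀ p, Injective (L.X p)) ∧
      (∀ p, Injective (L.cycles p)) ∧ (∀ p, Injective (L.homology p)) := by
  let f : K ⟶ J F E :=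
    { f := fun p => biprod.lift (biprod.lift (α p) (K.d p (p + 1) ≫ α (p + 1)))
        (K.pOpcycles p ≫ β p) ≫ (JX F E p).inv
      comm' := by
        rintro i j hij
        obtain rfl : i + 1 = j := hij
        rw [J_d]
        rw [← cancel_mono (JX F E (i + 1)).hom]
        simp only [Category.assoc, Iso.inv_hom_id_assoc, Iso.inv_hom_id, Category.comp_id]
        apply biprod.hom_ext
        · apply biprod.hom_ext <;> simp
        · simp }
  have hfE : ∀ p, f.f p ≫ (JX F E p).hom ≫ biprod.snd = K.pOpcycles p ≫ β p := by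
    intro p
    simp [f]
  have hfF : ∀ p, f.f p ≫ (JX F E p).hom ≫ biprod.fst ≫ biprod.fst = α p := by
    intro p
    simp [f]
  refine ⟨J F E, f, ?_, ?_, ?_, J_injective hF hE, J_cycles_injective hF hE,
    J_homology_injective hE⟩
  · rw [CochainComplex.isStrictlyGE_iff]
    intro i hi
    refine IsZero.of_iso ?_ (JX F E i)
    rw [biprod_isZero_iff, biprod_isZero_iff]
    exact ⟨⟨hF0 i (by lia), hF0 (i + 1) (by lia)⟩, hE0 i hi⟩
  · apply HomologicalComplex.mono_of_mono_f
    intro p
    rw [Preadditive.mono_iff_cancel_zero]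
    intro T x hx
    have hx1 : x ≫ K.pOpcycles p = 0 := by
      rw [← cancel_mono (β p), Category.assoc, ← hfE, reassoc_of% hx]
      simp
    have hx2 : x ≫ α p = 0 := by
      rw [← hfF, reassoc_of% hx]
      simp
    obtain ⟨T', π, _, y, hy⟩ :=
      (K.comp_pOpcycles_eq_zero_iff_up_to_refinements x (p - 1) (by simp)).1 hx1
    rw [← cancel_epi π, comp_zero, hy]
    have hy' : y ≫ factorThruImage (K.d (p - 1) p) = 0 := by
      rw [← cancel_mono (image.ι (K.d (p - 1) p) ≫ α p), zero_comp, Category.assoc,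
        image.fac_assoc, ← Category.assoc, ← hy, Category.assoc, hx2, comp_zero]
    rw [← image.fac (K.d (p - 1) p), reassoc_of% hy', zero_comp]
  · intro p
    have h : homologyMap f p ≫ (J F E).homologyι p ≫ opToE p = K.homologyι p ≫ β p := by
      rw [homologyι_naturality_assoc]
      congr 1
      rw [← cancel_epi (K.pOpcycles p), p_opcyclesMap_assoc, p_opToE, hfE]
    have : Mono (K.homologyι p ≫ β p) := inferInstance
    exact mono_of_mono_fac h

/-- The embedding step. -/
lemma exists_step (n : ℤ) (K : CochainComplex A ℤ) [K.IsStrictlyGE n] :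
    ∃ (L : CochainComplex A ℤ) (f : K ⟶ L), L.IsStrictlyGE n ∧ Mono f ∧
      (∀ p, Mono (homologyMap f p)) ∧ (∀ p, Injective (L.X p)) ∧
      (∀ p, Injective (L.cycles p)) ∧ (∀ p, Injective (L.homology p)) := by
  refine step_aux n K (fun p => Injective.under (image (K.d (p - 1) p)))
    (fun p => Injective.under (K.opcycles p)) (fun p => inferInstance) (fun p => inferInstance)
    ?_ ?_ (fun p => Injective.factorThru (Injective.ι (image (K.d (p - 1) p)))
      (image.ι (K.d (p - 1) p))) ?_ (fun p => Injective.ι _) (fun p => inferInstance)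
  · intro j hj
    apply Injective.isZero_under
    exact IsZero.of_epi (factorThruImage (K.d (j - 1) j))
      (K.isZero_of_isStrictlyGE n (j - 1) (by lia))
  · intro i hi
    apply Injective.isZero_under
    exact IsZero.of_epi (K.pOpcycles i) (K.isZero_of_isStrictlyGE n i hi)
  · intro p
    rw [Injective.comp_factorThru]
    infer_instance

omit [EnoughInjectives A] in
/-- Exactness of the sequence of cycles. -/
lemma cycles_shortExact {S : ShortComplex (CochainComplex A ℤ)} (hS : S.ShortExact)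
    (hm : ∀ p, Mono (homologyMap S.f p)) (p : ℤ) :
    (S.map (cyclesFunctor A (ComplexShape.up ℤ) p)).ShortExact := by
  have := hS.mono_f
  have := hS.epi_g
  have hH : ∀ p, Epi (homologyMap S.g p) := by
    intro p
    have hδ : hS.δ p (p + 1) (by simp) = 0 := by
      rw [← cancel_mono (homologyMap S.f (p + 1)), zero_comp]
      exact hS.δ_comp _ _ _
    exact (hS.homology_exact₃ p (p + 1) (by simp)).epi_f hδ
  have he : Epi (cyclesMap S.g p) := by
    let S₁ : ShortComplex A := ShortComplex.mk (S.X₂.toCycles (p - 1) p) (S.X₂.homologyπ p)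
      (by simp)
    let S₂ : ShortComplex A := ShortComplex.mk (S.X₃.toCycles (p - 1) p) (S.X₃.homologyπ p)
      (by simp)
    let φ : S₁ ⟶ S₂ :=
      { τ₁ := S.g.f (p - 1)
        τ₂ := cyclesMap S.g p
        τ₃ := homologyMap S.g p
        comm₁₂ := by
          dsimp [S₁, S₂]
          rw [← cancel_mono (S.X₃.iCycles p)]
          simp }
    have h2 : S₂.Exact := ShortComplex.exact_of_g_is_cokernel _
      (S.X₃.homologyIsCokernel (p - 1) p (by simp))
    exact ShortComplex.epi_of_epi_of_epi_of_epi φ h2 (by dsimp [S₁]; infer_instance)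
      (inferInstanceAs (Epi (S.g.f (p - 1)))) (hH p)
  exact
    { exact := cycles_left_exact S hS.exact p
      mono_f := inferInstanceAs (Mono (cyclesMap S.f p))
      epi_g := he }

omit [EnoughInjectives A] in
/-- Exactness of the sequence of homology objects. -/
lemma homology_shortExact {S : ShortComplex (CochainComplex A ℤ)} (hS : S.ShortExact)
    (hm : ∀ p, Mono (homologyMap S.f p)) (p : ℤ) :
    (S.map (homologyFunctor A (ComplexShape.up ℤ) p)).ShortExact := by
  have hH : Epi (homologyMap S.g p) := by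
    have hδ : hS.δ p (p + 1) (by simp) = 0 := by
      have := hm (p + 1)
      rw [← cancel_mono (homologyMap S.f (p + 1)), zero_comp]
      exact hS.δ_comp _ _ _
    exact (hS.homology_exact₃ p (p + 1) (by simp)).epi_f hδ
  exact
    { exact := hS.homology_exact₂ p
      mono_f := hm p
      epi_g := hH }

end Step

section Splice

open scoped ZeroObject

lemma exact_splice {A : Type u} [Category.{v} A] [Abelian A] {X₁ Y X₂ Z X₃ : A}
    (a : X₁ ⟶ Y) (b : Y ⟶ X₂) (c : X₂ ⟶ Z) (d : Z ⟶ X₃) [Epi a] [Mono d]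
    (d₁ : X₁ ⟶ X₂) (d₂ : X₂ ⟶ X₃) (h₁ : d₁ = a ≫ b) (h₂ : d₂ = c ≫ d)
    (w : b ≫ c = 0) (w' : d₁ ≫ d₂ = 0)
    (hex : (ShortComplex.mk b c w).Exact) : (ShortComplex.mk d₁ d₂ w').Exact := by
  subst h₁ h₂
  have w2 : (a ≫ b) ≫ c = 0 := by rw [Category.assoc, w, comp_zero]
  have hA : (ShortComplex.mk (a ≫ b) c w2).Exact := by
    let φ : (ShortComplex.mk (a ≫ b) c w2) ⟶ (ShortComplex.mk b c w) :=
      { τ₁ := a
        τ₂ := 𝟙 X₂
        τ₃ := 𝟙 Z }
    have : Epi φ.τ₁ := inferInstanceAs (Epi a)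
    have : IsIso φ.τ₂ := inferInstanceAs (IsIso (𝟙 X₂))
    have : Mono φ.τ₃ := inferInstanceAs (Mono (𝟙 Z))
    exact (ShortComplex.exact_iff_of_epi_of_isIso_of_mono φ).2 hex
  let φ : (ShortComplex.mk (a ≫ b) c w2) ⟶ (ShortComplex.mk (a ≫ b) (c ≫ d) w') :=
    { τ₁ := 𝟙 X₁
      τ₂ := 𝟙 X₂
      τ₃ := d }
  have : Epi φ.τ₁ := inferInstanceAs (Epi (𝟙 X₁))
  have : IsIso φ.τ₂ := inferInstanceAs (IsIso (𝟙 X₂))
  have : Mono φ.τ₃ := inferInstanceAs (Mono d)
  exact (ShortComplex.exact_iff_of_epi_of_isIso_of_mono φ).1 hA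

variable {C : Type u'} [Category.{v'} C] [Abelian C] (Z J : ℕ → C) (f : ∀ q, Z q ⟶ J q)
  (g : ∀ q, J q ⟶ Z (q + 1)) (w : ∀ q, f q ≫ g q = 0)

/-- terms of the spliced complex -/
noncomputable def X : ℤ → C
  | Int.ofNat q => J q
  | Int.negSucc _ => 0

/-- differentials of the spliced complex -/
noncomputable def d : ∀ q : ℤ, X J q ⟶ X J (q + 1)
  | Int.ofNat q => (g q ≫ f (q + 1) : J q ⟶ J (q + 1))
  | Int.negSucc _ => 0

include w in
lemma d_comp_d (q : ℤ) : d Z J f g q ≫ d Z J f g (q + 1) = 0 := by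
  cases q with
  | ofNat q =>
    change (g q ≫ f (q + 1)) ≫ (g (q + 1) ≫ f (q + 1 + 1)) = 0
    rw [Category.assoc, reassoc_of% (w (q + 1)), zero_comp, comp_zero]
  | negSucc q =>
    change 0 ≫ _ = 0
    rw [zero_comp]

/-- The spliced complex. -/
noncomputable def splice : CochainComplex C ℤ :=
  CochainComplex.of (X J) (d Z J f g) (d_comp_d Z J f g w)

lemma splice_d (q : ℤ) : (splice Z J f g w).d q (q + 1) = d Z J f g q :=
  CochainComplex.of_d _ _ _

lemma splice_d_nat (q : ℕ) : (splice Z J f g w).d (q : ℤ) ((q : ℤ) + 1) =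
    (g q ≫ f (q + 1) : J q ⟶ J (q + 1)) :=
  splice_d Z J f g w q

lemma isZero_splice (q : ℤ) (hq : q < 0) : IsZero ((splice Z J f g w).X q) := by
  cases q with
  | ofNat q => exact absurd hq (by simp)
  | negSucc q => exact Limits.isZero_zero C

variable {A : Type u} [Category.{v} A] [Abelian A] (Φ : C ⥤ A) [Φ.PreservesZeroMorphisms]

/-- The image of the spliced complex under a functor which keeps the pieces short exact is an
injective resolution. -/
lemma isInjResolutionVia
    (hex : ∀ q, ((ShortComplex.mk (f q) (g q) (w q)).map Φ).ShortExact)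
    (hinj : ∀ q, Injective (Φ.obj (J q))) :
    CE.IsInjResolutionVia ((Φ.mapHomologicalComplex (ComplexShape.up ℤ)).obj (splice Z J f g w))
      (Φ.obj (Z 0)) (Φ.map (f 0)) := by
  have hd0 : ((Φ.mapHomologicalComplex (ComplexShape.up ℤ)).obj (splice Z J f g w)).d 0 1 =
      Φ.map (g 0) ≫ Φ.map (f 1) := by
    have h := splice_d_nat Z J f g w 0
    rw [← Φ.map_comp]
    exact congrArg Φ.map h
  have hw : ∀ q, Φ.map (f q) ≫ Φ.map (g q) = 0 := fun q => by
    rw [← Φ.map_comp, w, Φ.map_zero]
  have hmono : ∀ q, Mono (Φ.map (f q)) := fun q => (hex q).mono_f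
  have hepi : ∀ q, Epi (Φ.map (g q)) := fun q => (hex q).epi_g
  have hw0 : Φ.map (f 0) ≫
      ((Φ.mapHomologicalComplex (ComplexShape.up ℤ)).obj (splice Z J f g w)).d 0 1 = 0 := by
    rw [hd0]
    exact (Category.assoc _ _ _).symm.trans ((congrArg (· ≫ Φ.map (f 1)) (hw 0)).trans zero_comp)
  refine ⟨hw0, ?_, ?_, ?_, hmono 0, ?_⟩
  · rw [CochainComplex.isStrictlyGE_iff]
    intro i hi
    exact Φ.map_isZero (isZero_splice Z J f g w i hi)
  · intro q
    cases q with
    | ofNat q => exact hinj q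
    | negSucc q => exact (Φ.map_isZero (isZero_splice Z J f g w _ (Int.negSucc_lt_zero q))).injective
  · intro q hq
    obtain hq | hq := lt_or_gt_of_ne hq
    · rw [exactAt_iff]
      exact ShortComplex.exact_of_isZero_X₂ _ (Φ.map_isZero (isZero_splice Z J f g w q hq))
    · obtain ⟨m, rfl⟩ : ∃ m : ℕ, q = (m : ℤ) + 1 := ⟨(q - 1).toNat, by lia⟩
      rw [exactAt_iff' _ (m : ℤ) ((m : ℤ) + 1) ((m : ℤ) + 1 + 1) (by simp) (by simp)]
      have h1 : ((Φ.mapHomologicalComplex (ComplexShape.up ℤ)).obj (splice Z J f g w)).d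
          (m : ℤ) ((m : ℤ) + 1) = Φ.map (g m) ≫ Φ.map (f (m + 1)) := by
        rw [← Φ.map_comp]
        exact congrArg Φ.map (splice_d_nat Z J f g w m)
      have h2 : ((Φ.mapHomologicalComplex (ComplexShape.up ℤ)).obj (splice Z J f g w)).d
          ((m : ℤ) + 1) ((m : ℤ) + 1 + 1) = Φ.map (g (m + 1)) ≫ Φ.map (f (m + 1 + 1)) := by
        rw [← Φ.map_comp]
        exact congrArg Φ.map (splice_d_nat Z J f g w (m + 1))
      have := hepi m
      have := hmono (m + 1 + 1)
      exact exact_splice (Φ.map (g m)) (Φ.map (f (m + 1))) (Φ.map (g (m + 1)))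
        (Φ.map (f (m + 1 + 1))) _ _ h1 h2 (hw (m + 1)) _ (hex (m + 1)).exact
  · have := hmono 1
    exact exact_splice (𝟙 _) (Φ.map (f 0)) (Φ.map (g 0)) (Φ.map (f 1)) _ _
      (Category.id_comp _).symm hd0 (hw 0) _ (hex 0).exact

end Splice

end Groth.Agent.Cohder.CERes
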