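import Mathlib.Algebra.Homology.HomotopyCategory.MappingCocone
import Mathlib.Algebra.Homology.HomologySequenceLemmas
import Mathlib.Algebra.Homology.DerivedCategory.Basic
import Mathlib.CategoryTheory.Abelian.Basic

/-!
# Mapping cocones and short exact sequences

If `0 ⟶ K ⟶ I ⟶ C ⟶ 0` is a short exact sequence of complexes and `g : C ⟶ L` is a
quasi-isomorphism then the canonical map from `K` to the mapping cocone of `I ⟶ C ⟶ L` is a
quasi-isomorphism.
-/

set_option autoImplicit false

open CategoryTheory Category Limits HomologicalComplex CochainComplex HomComplex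

namespace Groth.Agent.Cohder.CoconeSES

section

variable {C : Type*} [Category* C] [Preadditive C] {K L : CochainComplex C ℤ} (φ : K ⟶ L)
  [HasHomotopyCofiber φ]

lemma hom_ext_to {T : C} (p q : ℤ) (hpq : p + -1 = q) {x y : T ⟶ (mappingCocone φ).X p}
    (h₁ : x ≫ (mappingCocone.fst φ).f p = y ≫ (mappingCocone.fst φ).f p)
    (h₂ : x ≫ (mappingCocone.snd φ).v p q hpq = y ≫ (mappingCocone.snd φ).v p q hpq) :
    x = y := by
  rw [← Category.comp_id x, ← Category.comp_id y, ← mappingCocone.id_X φ p q hpq]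
  simp only [Preadditive.comp_add, ← Category.assoc, h₁, h₂]

lemma hom_ext_from {T : C} (p q : ℤ) (hpq : p + -1 = q) {x y : (mappingCocone φ).X p ⟶ T}
    (h₁ : (mappingCocone.inl φ).v p p (add_zero p) ≫ x =
      (mappingCocone.inl φ).v p p (add_zero p) ≫ y)
    (h₂ : (mappingCocone.inr φ).1.v q p (by lia) ≫ x =
      (mappingCocone.inr φ).1.v q p (by lia) ≫ y) :
    x = y := by
  rw [← Category.id_comp x, ← Category.id_comp y, ← mappingCocone.id_X φ p q hpq]
  simp only [Preadditive.add_comp, Category.assoc, h₁, h₂]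

lemma snd_eq : mappingCocone.snd φ =
    mappingCocone.descCochain φ (0 : Cochain K L (-1)) (Cochain.ofHom (𝟙 L)) (by lia) := by
  ext p q hpq
  apply hom_ext_from φ p q hpq
  · simp
  · rw [mappingCocone.inr_v_snd_v, mappingCocone.inr_v_descCochain_v, Cochain.ofHom_v,
      HomologicalComplex.id_f]

lemma δ_snd : δ (-1) 0 (mappingCocone.snd φ) =
    -Cochain.ofHom (mappingCocone.fst φ ≫ φ) := by
  rw [snd_eq, mappingCocone.δ_descCochain _ _ _ (by lia) 1 (by lia)]
  simp [Int.negOnePow_odd (-1) ⟨-1, by lia⟩]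

end

variable {𝒜 : Type*} [Category* 𝒜] [Abelian 𝒜]
  {K I C L : CochainComplex 𝒜 ℤ} {i : K ⟶ I} {π : I ⟶ C} {w : i ≫ π = 0}
  (hS : (ShortComplex.mk i π w).ShortExact) (g : C ⟶ L)

/-- The map from `K` to the mapping cocone. -/
noncomputable def k (w : i ≫ π = 0) : K ⟶ mappingCocone (π ≫ g) :=
  mappingCocone.lift (π ≫ g) i 0 (by rw [reassoc_of% w]; simp)

/-- The map between the mapping cocones. -/
noncomputable def q (π : I ⟶ C) (g : C ⟶ L) : mappingCocone (π ≫ g) ⟶ mappingCocone g :=
  mappingCocone.lift g (mappingCocone.fst (π ≫ g) ≫ π) (mappingCocone.snd (π ≫ g))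
    (by rw [δ_snd]; simp)

lemma w' : k g w ≫ q π g = 0 := by
  ext p
  apply hom_ext_to g p (p + -1) rfl
  · simp [k, q, ← HomologicalComplex.comp_f, w]
  · simp [k, q]

@[reassoc (attr := simp)]
lemma k_f_fst (w : i ≫ π = 0) (p : ℤ) :
    (k g w).f p ≫ (mappingCocone.fst (π ≫ g)).f p = i.f p := by simp [k]

@[reassoc (attr := simp)]
lemma k_f_snd (w : i ≫ π = 0) (p q : ℤ) (hpq : p + -1 = q) :
    (k g w).f p ≫ (mappingCocone.snd (π ≫ g)).v p q hpq = 0 := by simp [k]

@[reassoc (attr := simp)]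
lemma q_f_fst (p : ℤ) : (q π g).f p ≫ (mappingCocone.fst g).f p =
    (mappingCocone.fst (π ≫ g)).f p ≫ π.f p := by simp [q]

@[reassoc (attr := simp)]
lemma q_f_snd (p r : ℤ) (hpr : p + -1 = r) :
    (q π g).f p ≫ (mappingCocone.snd g).v p r hpr = (mappingCocone.snd (π ≫ g)).v p r hpr := by
  simp [q]

@[reassoc (attr := simp)]
lemma inl_q_f (p : ℤ) : (mappingCocone.inl (π ≫ g)).v p p (add_zero p) ≫ (q π g).f p =
    π.f p ≫ (mappingCocone.inl g).v p p (add_zero p) := by
  apply hom_ext_to g p (p + -1) rfl <;> simp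

@[reassoc (attr := simp)]
lemma inr_q_f (p r : ℤ) (hpr : r + 1 = p) :
    (mappingCocone.inr (π ≫ g)).1.v r p hpr ≫ (q π g).f p =
    (mappingCocone.inr g).1.v r p hpr := by
  obtain rfl : r = p + -1 := by lia
  apply hom_ext_to g p (p + -1) rfl <;> simp

include hS in
lemma shortExact : (ShortComplex.mk (k g w) (q π g) (w' g)).ShortExact := by
  apply HomologicalComplex.shortExact_of_degreewise_shortExact
  intro p
  have hp := hS.map_of_exact (HomologicalComplex.eval 𝒜 (ComplexShape.up ℤ) p)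
  have hi : Mono (i.f p) := hp.mono_f
  have hπ : Epi (π.f p) := hp.epi_g
  have wp : i.f p ≫ π.f p = 0 := by rw [← comp_f, w, zero_f]
  have wp' : (k g w).f p ≫ (q π g).f p = 0 := by rw [← comp_f, w', zero_f]
  have hp' : (ShortComplex.mk (i.f p) (π.f p) wp).Exact := hp.exact
  have hk : Mono ((k g w).f p) := mono_of_mono_fac (k_f_fst g w p)
  have hq : Epi ((q π g).f p) := by
    refine ⟨fun {T} x y hxy => ?_⟩
    apply hom_ext_from g p (p + -1) rfl
    · rw [← cancel_epi (π.f p), ← inl_q_f_assoc, hxy, inl_q_f_assoc]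
    · rw [← inr_q_f_assoc, hxy, inr_q_f_assoc]
  have hex : (ShortComplex.mk ((k g w).f p) ((q π g).f p) wp').Exact := by
    apply ShortComplex.exact_of_f_is_kernel
    have hw : ∀ {T : 𝒜} (x : T ⟶ (mappingCocone (π ≫ g)).X p) (_ : x ≫ (q π g).f p = 0),
        (x ≫ (mappingCocone.fst (π ≫ g)).f p) ≫ π.f p = 0 := by
      intro T x hx
      rw [Category.assoc, ← q_f_fst, reassoc_of% hx, zero_comp]
    refine KernelFork.IsLimit.ofι _ _
      (fun x hx => hp'.lift (x ≫ (mappingCocone.fst (π ≫ g)).f p) (hw x hx))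
      (fun x hx => ?_) (fun x hx m hm => ?_)
    · apply hom_ext_to _ p (p + -1) rfl
      · rw [Category.assoc, k_f_fst]
        exact hp'.lift_f _ _
      · rw [Category.assoc, k_f_snd, comp_zero]
        dsimp at hx
        rw [← q_f_snd, reassoc_of% hx, zero_comp]
    · rw [← cancel_mono (i.f p)]
      refine Eq.trans ?_ (hp'.lift_f _ _).symm
      dsimp at hm
      rw [← hm, Category.assoc, k_f_fst]
  exact { exact := hex, mono_f := hk, epi_g := hq }

/-- The mapping cone of `f` is acyclic iff `f` is a quasi-isomorphism. -/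
lemma acyclic_mappingCone_iff {K L : CochainComplex 𝒜 ℤ} (f : K ⟶ L) :
    (mappingCone f).Acyclic ↔ QuasiIso f := by
  have h := HomotopyCategory.quasiIso_eq_trW_subcategoryAcyclic 𝒜
  have h1 : HomotopyCategory.quasiIso 𝒜 (ComplexShape.up ℤ)
      ((HomotopyCategory.quotient _ _).map f) ↔ QuasiIso f := by
    rw [HomotopyCategory.quotient_map_mem_quasiIso_iff]
    rfl
  have h2 := (HomotopyCategory.subcategoryAcyclic 𝒜).trW_iff_of_distinguished _
    (HomotopyCategory.mappingCone_triangleh_distinguished f)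
  rw [← h] at h2
  rw [← h1, ← HomotopyCategory.quotient_obj_mem_subcategoryAcyclic_iff_acyclic]
  exact h2.symm

lemma acyclic_mappingCocone [QuasiIso g] : (mappingCocone g).Acyclic := by
  have h := (acyclic_mappingCone_iff g).2 inferInstance
  rw [← HomotopyCategory.quotient_obj_mem_subcategoryAcyclic_iff_acyclic] at h ⊢
  have := (HomotopyCategory.subcategoryAcyclic 𝒜).le_shift (-1) _ h
  exact ObjectProperty.prop_of_iso _
    (((HomotopyCategory.quotient 𝒜 (.up ℤ)).commShiftIso (-1)).symm.app _) this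

/-- A monomorphism of complexes with acyclic cokernel is a quasi-isomorphism. -/
lemma quasiIso_of_acyclic_X₃ {S : ShortComplex (CochainComplex 𝒜 ℤ)} (hS : S.ShortExact)
    (h : S.X₃.Acyclic) : QuasiIso S.f := by
  rw [quasiIso_iff]
  intro n
  rw [quasiIsoAt_iff_isIso_homologyMap]
  have h1 : Mono (homologyMap S.f n) := by
    apply (hS.homology_exact₁ (n - 1) n (by simp)).mono_g
    exact ((exactAt_iff_isZero_homology _ _).1 (h (n - 1))).eq_of_src _ _
  have h2 : Epi (homologyMap S.f n) := by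
    apply (hS.homology_exact₂ n).epi_f
    exact ((exactAt_iff_isZero_homology _ _).1 (h n)).eq_of_tgt _ _
  exact isIso_of_mono_of_epi _

include hS in
/-- The canonical map from `K` to the mapping cocone of `I ⟶ C ⟶ L` is a quasi-isomorphism. -/
lemma quasiIso_k [QuasiIso g] : QuasiIso (k g w) :=
  quasiIso_of_acyclic_X₃ (shortExact hS g) (acyclic_mappingCocone g)

/-- The terms of the mapping cocone. -/
noncomputable def mappingCoconeXIso {K L : CochainComplex 𝒜 ℤ} (f : K ⟶ L) (p q : ℤ)
    (hpq : p + -1 = q) : (mappingCocone f).X p ≅ K.X p ⊞ L.X q where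
  hom := biprod.lift ((mappingCocone.fst f).f p) ((mappingCocone.snd f).v p q hpq)
  inv := biprod.desc ((mappingCocone.inl f).v p p (add_zero p))
    ((mappingCocone.inr f).1.v q p (by lia))
  hom_inv_id := by
    rw [biprod.lift_desc, mappingCocone.id_X]
  inv_hom_id := by
    ext <;> simp

end Groth.Agent.Cohder.CoconeSES
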