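import Groth.Prelude.Def_CohDer
import Mathlib.CategoryTheory.Limits.Shapes.ZeroMorphisms
import Mathlib.CategoryTheory.Limits.Preserves.Shapes.Products
import Mathlib.CategoryTheory.Adjunction.Additive
import Mathlib.CategoryTheory.Adjunction.Limits
import Mathlib.CategoryTheory.Shift.Basic
import Mathlib.CategoryTheory.Shift.Adjunction

/-!
# Compact objects: basic API

For `CohDer.IsCompactObject C`: a morphism to a coproduct is a finite sum of morphisms factoring
through the summands.  Injectivity of the comparison map is automatic.  Compact objects are stable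
under left adjoints of coproduct preserving functors, in particular under shifts.
-/

set_option autoImplicit false
universe w v v' u u'
open CategoryTheory CategoryTheory.Limits

namespace Groth.Agent.Cohder.Compact

section

variable {D : Type u} [Category.{v} D] [Preadditive D]

/-- The subgroup of the morphisms `C ⟶ ∐ X` which are finite sums of morphisms factoring through
the summands. -/
noncomputable def finSupp (C : D) {J : Type w} (X : J → D) [HasCoproduct X] : AddSubgroup (C ⟶ ∐ X) :=
  AddSubgroup.closure {g | ∃ (j : J) (y : C ⟶ X j), g = y ≫ Sigma.ι X j}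

lemma comp_ι_mem_finSupp {C : D} {J : Type w} (X : J → D) [HasCoproduct X] (j : J)
    (y : C ⟶ X j) : y ≫ Sigma.ι X j ∈ finSupp C X :=
  AddSubgroup.subset_closure ⟨j, y, rfl⟩

lemma finSupp_induction {C : D} {J : Type w} {X : J → D} [HasCoproduct X]
    {p : (C ⟶ ∐ X) → Prop} (hι : ∀ (j : J) (y : C ⟶ X j), p (y ≫ Sigma.ι X j))
    (h0 : p 0) (hadd : ∀ a b, p a → p b → p (a + b)) {γ : C ⟶ ∐ X} (hγ : γ ∈ finSupp C X) :
    p γ := by
  induction hγ using AddSubgroup.closure_induction'' with
  | mem x hx => obtain ⟨j, y, rfl⟩ := hx; exact hι j y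
  | neg_mem x hx =>
    obtain ⟨j, y, rfl⟩ := hx
    rw [← Preadditive.neg_comp]
    exact hι j _
  | zero => exact h0
  | add x y _ _ hx hy => exact hadd x y hx hy

lemma homSumToHomCoprod_of {C : D} {J : Type v} [DecidableEq J] (X : J → D)
    [HasCoproduct X] (j : J) (y : C ⟶ X j) :
    CohDer.homSumToHomCoprod C X (DirectSum.of (fun i => C ⟶ X i) j y) = y ≫ Sigma.ι X j := by
  dsimp only [CohDer.homSumToHomCoprod]
  convert DirectSum.toAddMonoid_of (fun i => Preadditive.rightComp C (Sigma.ι X i)) j y
  rfl

lemma homSumToHomCoprod_π {C : D} {J : Type v} [DecidableEq J] (X : J → D)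
    [HasCoproduct X] (x : DirectSum J (fun i => C ⟶ X i)) (j : J) :
    CohDer.homSumToHomCoprod C X x ≫ Sigma.π X j = x j := by
  induction x using DirectSum.induction_on with
  | zero => simp
  | of i y =>
    rw [homSumToHomCoprod_of, Category.assoc]
    by_cases h : i = j
    · subst h
      rw [Sigma.ι_π_eq_id, Category.comp_id, DirectSum.of_eq_same]
    · rw [Sigma.ι_π_of_ne _ h, comp_zero, DirectSum.of_eq_of_ne _ _ _ (Ne.symm h)]
  | add x y hx hy => simp [Preadditive.add_comp, hx, hy]

lemma homSumToHomCoprod_injective (C : D) {J : Type v} (X : J → D)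
    [HasCoproduct X] : Function.Injective (CohDer.homSumToHomCoprod C X) := by
  classical
  rw [injective_iff_map_eq_zero]
  intro x hx
  ext j
  rw [← homSumToHomCoprod_π, hx]
  simp

lemma mem_range_homSumToHomCoprod_iff {C : D} {J : Type v} (X : J → D)
    [HasCoproduct X] (γ : C ⟶ ∐ X) :
    γ ∈ (CohDer.homSumToHomCoprod C X).range ↔ γ ∈ finSupp C X := by
  classical
  constructor
  · rintro ⟨x, rfl⟩
    induction x using DirectSum.induction_on with
    | zero => rw [map_zero]; exact (finSupp C X).zero_mem
    | of i y => rw [homSumToHomCoprod_of]; exact comp_ι_mem_finSupp _ _ _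
    | add x y hx hy => rw [map_add]; exact (finSupp C X).add_mem hx hy
  · intro h
    refine (AddSubgroup.closure_le _).2 ?_ h
    rintro _ ⟨j, y, rfl⟩
    exact ⟨DirectSum.of (fun i => C ⟶ X i) j y, homSumToHomCoprod_of _ _ _⟩

section

variable [HasCoproducts.{v} D]

/-- an object is compact iff every morphism to a coproduct is a finite sum of morphisms through
summands. -/
lemma isCompactObject_iff (C : D) :
    CohDer.IsCompactObject C ↔
      ∀ (J : Type v) (X : J → D) (γ : C ⟶ ∐ X), γ ∈ finSupp C X := by
  constructor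
  · intro h J X γ
    rw [← mem_range_homSumToHomCoprod_iff]
    exact (h J X).2 γ
  · intro h J X
    refine ⟨homSumToHomCoprod_injective C X, fun γ => ?_⟩
    exact (mem_range_homSumToHomCoprod_iff _ _).2 (h J X γ)

lemma mem_finSupp_of_isCompactObject {C : D} (hC : CohDer.IsCompactObject C) {J : Type w}
    [Small.{v} J] (X : J → D) [HasCoproduct X] (γ : C ⟶ ∐ X) : γ ∈ finSupp C X := by
  have h := (isCompactObject_iff C).1 hC (Shrink.{v} J) (X ∘ (equivShrink J).symm)
    (γ ≫ (Sigma.reindex (equivShrink J).symm X).inv)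
  have key : ∀ γ' : C ⟶ ∐ (X ∘ (equivShrink J).symm), γ' ∈ finSupp C _ →
      γ' ≫ (Sigma.reindex (equivShrink J).symm X).hom ∈ finSupp C X := by
    intro γ' hγ'
    refine finSupp_induction (p := fun γ' => γ' ≫ _ ∈ finSupp C X) ?_ ?_ ?_ hγ'
    · intro j y
      rw [Category.assoc, Sigma.ι_reindex_hom]
      exact comp_ι_mem_finSupp _ _ _
    · rw [zero_comp]; exact (finSupp C X).zero_mem
    · intro a b ha hb
      rw [Preadditive.add_comp]
      exact (finSupp C X).add_mem ha hb
  simpa using key _ h

/-- Two morphisms from a compact object to a coproduct are equal if their components are. -/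
lemma eq_zero_of_comp_π {C : D} (hC : CohDer.IsCompactObject C) {J : Type w} [DecidableEq J]
    [Small.{v} J] (X : J → D) [HasCoproduct X] (γ : C ⟶ ∐ X)
    (h : ∀ j, γ ≫ Sigma.π X j = 0) : γ = 0 := by
  -- every finitely supported morphism is the sum over a finite set of its components
  have key : ∃ s : Finset J, γ = ∑ j ∈ s, γ ≫ Sigma.π X j ≫ Sigma.ι X j := by
    have : ∃ s : Finset J, ∀ t : Finset J, s ⊆ t → γ = ∑ j ∈ t, γ ≫ Sigma.π X j ≫ Sigma.ι X j := by
      refine finSupp_induction (p := fun γ => ∃ s : Finset J, ∀ t : Finset J, s ⊆ t →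
        γ = ∑ j ∈ t, γ ≫ Sigma.π X j ≫ Sigma.ι X j) ?_ ?_ ?_
        (mem_finSupp_of_isCompactObject hC X γ)
      · intro j y
        refine ⟨{j}, fun t ht => ?_⟩
        rw [Finset.sum_eq_single j]
        · rw [Category.assoc, ← Category.assoc (Sigma.ι X j), Sigma.ι_π_eq_id, Category.id_comp]
        · intro k _ hk
          rw [Category.assoc, ← Category.assoc (Sigma.ι X j), Sigma.ι_π_of_ne _ hk.symm,
            zero_comp, comp_zero]
        · intro h
          exact (h (ht (Finset.mem_singleton_self j))).elim
      · exact ⟨∅, fun t _ => by simp⟩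
      · rintro a b ⟨s, hs⟩ ⟨s', hs'⟩
        refine ⟨s ∪ s', fun t ht => ?_⟩
        simp only [Preadditive.add_comp, Finset.sum_add_distrib]
        rw [← hs t (Finset.union_subset_left ht), ← hs' t (Finset.union_subset_right ht)]
    obtain ⟨s, hs⟩ := this
    exact ⟨s, hs s (Finset.Subset.refl s)⟩
  obtain ⟨s, hs⟩ := key
  rw [hs]
  exact Finset.sum_eq_zero (fun j _ => by rw [← Category.assoc, h j, zero_comp])

lemma isCompactObject_of_iso {C C' : D} (e : C ≅ C') (hC : CohDer.IsCompactObject C) :
    CohDer.IsCompactObject C' := by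
  rw [isCompactObject_iff] at hC ⊢
  intro J X γ
  have key : ∀ γ' : C ⟶ ∐ X, γ' ∈ finSupp C X → e.inv ≫ γ' ∈ finSupp C' X := by
    intro γ' hγ'
    refine finSupp_induction (p := fun γ' => e.inv ≫ γ' ∈ finSupp C' X) ?_ ?_ ?_ hγ'
    · intro j y
      rw [← Category.assoc]
      exact comp_ι_mem_finSupp _ _ _
    · rw [comp_zero]; exact (finSupp C' X).zero_mem
    · intro a b ha hb
      rw [Preadditive.comp_add]
      exact (finSupp C' X).add_mem ha hb
  simpa using key _ (hC J X (e.hom ≫ γ))

/-- A retract of a compact object is compact. -/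
lemma isCompactObject_of_retract {C C' : D} (r : Retract C' C) (hC : CohDer.IsCompactObject C) :
    CohDer.IsCompactObject C' := by
  rw [isCompactObject_iff] at hC ⊢
  intro J X γ
  have key : ∀ γ' : C ⟶ ∐ X, γ' ∈ finSupp C X → r.i ≫ γ' ∈ finSupp C' X := by
    intro γ' hγ'
    refine finSupp_induction (p := fun γ' => r.i ≫ γ' ∈ finSupp C' X) ?_ ?_ ?_ hγ'
    · intro j y
      rw [← Category.assoc]
      exact comp_ι_mem_finSupp _ _ _
    · rw [comp_zero]; exact (finSupp C' X).zero_mem
    · intro a b ha hb
      rw [Preadditive.comp_add]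
      exact (finSupp C' X).add_mem ha hb
  simpa using key _ (hC J X (r.r ≫ γ))

lemma isCompactObject_of_isZero {C : D} (hC : IsZero C) : CohDer.IsCompactObject C := by
  rw [isCompactObject_iff]
  intro J X γ
  obtain rfl : γ = 0 := hC.eq_of_src _ _
  exact (finSupp C X).zero_mem

end

/-- A left adjoint of a functor which preserves coproducts preserves compact objects. -/
lemma isCompactObject_obj_of_adjunction [HasCoproducts.{v} D] {D' : Type u'} [Category.{v} D']
    [Preadditive D'] [HasCoproducts.{v} D'] {F : D ⥤ D'} {G : D' ⥤ D} (adj : F ⊣ G) [G.Additive]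
    [∀ (J : Type v) (X : J → D'), PreservesColimit (Discrete.functor X) G]
    {C : D} (hC : CohDer.IsCompactObject C) : CohDer.IsCompactObject (F.obj C) := by
  rw [isCompactObject_iff] at hC ⊢
  intro J X γ
  have : F.Additive := adj.left_adjoint_additive
  have key : ∀ γ' : C ⟶ ∐ (fun j => G.obj (X j)), γ' ∈ finSupp C (fun j => G.obj (X j)) →
      F.map (γ' ≫ sigmaComparison G X) ≫ adj.counit.app _ ∈ finSupp (F.obj C) X := by
    intro γ' hγ'
    refine finSupp_induction (p := fun γ' => F.map (γ' ≫ sigmaComparison G X) ≫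
      adj.counit.app _ ∈ finSupp (F.obj C) X) ?_ ?_ ?_ hγ'
    · intro j y
      have h1 : F.map (G.map (Sigma.ι X j)) ≫ adj.counit.app (∐ X) =
          adj.counit.app (X j) ≫ Sigma.ι X j := adj.counit_naturality _
      rw [Category.assoc, ι_comp_sigmaComparison, Functor.map_comp, Category.assoc,
        h1, ← Category.assoc]
      exact comp_ι_mem_finSupp _ _ _
    · rw [zero_comp, Functor.map_zero, zero_comp]; exact AddSubgroup.zero_mem _
    · intro a b ha hb
      rw [Preadditive.add_comp, Functor.map_add, Preadditive.add_comp]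
      exact AddSubgroup.add_mem _ ha hb
  have h := key _ (hC J _ (adj.unit.app C ≫ G.map γ ≫ inv (sigmaComparison G X)))
  simpa using h

lemma isCompactObject_shift [HasCoproducts.{v} D] [HasShift D ℤ]
    [∀ n : ℤ, (shiftFunctor D n).Additive] {C : D} (hC : CohDer.IsCompactObject C) (n : ℤ) :
    CohDer.IsCompactObject ((shiftFunctor D n).obj C) := by
  have : (shiftEquiv D n).inverse.Additive := inferInstanceAs ((shiftFunctor D (-n)).Additive)
  exact isCompactObject_obj_of_adjunction (shiftEquiv D n).toAdjunction hC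

end

end Groth.Agent.Cohder.Compact
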