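import Groth.Agent.S0384
import Groth.Agent.Sga4B.DimBC

/-!
Compactification of a separated scheme of finite type over a field by a proper scheme of the same
dimension.
-/

set_option autoImplicit false
universe u

open CategoryTheory CategoryTheory.Limits AlgebraicGeometry

namespace Groth.Agent.Cohder.CompactDim

theorem exists_compactification {k : Type u} [Field k] {X : Scheme.{u}}
    (f : X ⟶ Spec (CommRingCat.of k)) [IsSeparated f] [LocallyOfFiniteType f] [QuasiCompact f] :
    ∃ (Xc : Scheme.{u}) (j : X ⟶ Xc) (g : Xc ⟶ Spec (CommRingCat.of k)), IsOpenImmersion j ∧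
      QuasiCompact j ∧ IsProper g ∧ j ≫ g = f ∧ topologicalKrullDim Xc = topologicalKrullDim X := by
  obtain ⟨Xc, j, g, hj, hqc, hg, hf⟩ := Groth.Agent.S0384.result f
  refine ⟨j.image, j.toImage, j.imageι ≫ g, inferInstance, inferInstance, inferInstance, ?_, ?_⟩
  · rw [← Category.assoc, Scheme.Hom.toImage_imageι, hf]
  · have : CompactSpace X := QuasiCompact.compactSpace_of_compactSpace f
    apply le_antisymm
    · have h1 : Set.range j.imageι = closure (Set.range j) := by
        rw [Scheme.IdealSheafData.range_subschemeι, Scheme.Hom.support_ker]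
      have h2 := Groth.Agent.Sga4B.DimBC.topologicalKrullDim_closure_le g j
      refine le_trans ?_ h2
      have h3 : ∀ z, j.imageι z ∈ closure (Set.range j) := fun z => h1 ▸ Set.mem_range_self z
      have h4 : Topology.IsInducing (fun z => (⟨j.imageι z, h3 z⟩ : closure (Set.range j))) :=
        Topology.IsInducing.codRestrict j.imageι.isClosedEmbedding.isInducing h3
      exact h4.topologicalKrullDim_le
    · exact j.toImage.isOpenEmbedding.isInducing.topologicalKrullDim_le

end Groth.Agent.Cohder.CompactDim
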