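import Groth.Agent.Cohder.Compact
import Groth.Prelude.Def_DerLim
import Mathlib.CategoryTheory.Triangulated.Pretriangulated

/-!
# Compact objects and homotopy colimits

* `isIso_of_generates`: a morphism inducing bijections on `Hom(E i⟦m⟧, -)` for a generating family
  is an isomorphism;
* `exists_factor_of_isHocolim`: a morphism from a compact object to a homotopy colimit of a
  sequence factors through a finite stage.
-/

set_option autoImplicit false
set_option linter.unusedSectionVars false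
universe w v v' u u'
open CategoryTheory CategoryTheory.Limits CategoryTheory.Pretriangulated

namespace Groth.Agent.Cohder.CompactHocolim

open Groth.Agent.Cohder.Compact

section

variable {D : Type u} [Category.{v} D] [Preadditive D] [HasZeroObject D] [HasShift D ℤ]
  [∀ n : ℤ, (shiftFunctor D n).Additive] [Pretriangulated D]

/-- If `Hom(C⟦-1⟧, L) → Hom(C⟦-1⟧, X)` is injective, then so is `Hom(C, L⟦1⟧) → Hom(C, X⟦1⟧)`. -/
lemma eq_zero_of_comp_shift_map_eq_zero {C L X : D} (π : L ⟶ X)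
    (h : ∀ α : (shiftFunctor D (-1 : ℤ)).obj C ⟶ L, α ≫ π = 0 → α = 0)
    (β : C ⟶ (shiftFunctor D (1 : ℤ)).obj L) (hβ : β ≫ (shiftFunctor D (1 : ℤ)).map π = 0) :
    β = 0 := by
  apply (shiftFunctor D (-1 : ℤ)).map_injective
  rw [Functor.map_zero, ← cancel_mono ((shiftShiftNeg L (1 : ℤ)).hom), zero_comp]
  apply h
  have : (shiftShiftNeg L (1 : ℤ)).hom ≫ π =
      (shiftFunctor D (-1 : ℤ)).map ((shiftFunctor D (1 : ℤ)).map π) ≫
        (shiftShiftNeg X (1 : ℤ)).hom := by
    exact ((shiftFunctorCompIsoId D (1 : ℤ) (-1) (add_neg_cancel 1)).hom.naturality π).symm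
  rw [Category.assoc, this, ← Category.assoc, ← Functor.map_comp, hβ, Functor.map_zero, zero_comp]

/-- A morphism which induces bijections on morphisms from all shifts of the members of a
generating family is an isomorphism. -/
lemma isIso_of_generates {ι : Type*} (E : ι → D) (hE : CohDer.Generates E) {L X : D} (π : L ⟶ X)
    (hinj : ∀ (i : ι) (m : ℤ) (α : (shiftFunctor D m).obj (E i) ⟶ L), α ≫ π = 0 → α = 0)
    (hsurj : ∀ (i : ι) (m : ℤ) (β : (shiftFunctor D m).obj (E i) ⟶ X), ∃ α, α ≫ π = β) :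
    IsIso π := by
  obtain ⟨Z, g, h, hT⟩ := distinguished_cocone_triangle π
  have hgh : g ≫ h = 0 := comp_distTriang_mor_zero₂₃ _ hT
  have hπg : π ≫ g = 0 := comp_distTriang_mor_zero₁₂ _ hT
  have hhπ : h ≫ (shiftFunctor D (1 : ℤ)).map π = 0 := comp_distTriang_mor_zero₃₁ _ hT
  suffices hZ : IsZero Z from (Triangle.isZero₃_iff_isIso₁ _ hT).1 hZ
  -- morphisms from the shifts of the `E i` to `Z` vanish
  have key : ∀ (i : ι) (m : ℤ) (ψ : (shiftFunctor D m).obj (E i) ⟶ Z), ψ = 0 := by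
    intro i m ψ
    have h1 : ψ ≫ h = 0 := by
      apply eq_zero_of_comp_shift_map_eq_zero π _ _ (by rw [Category.assoc, hhπ, comp_zero])
      intro α hα
      rw [← cancel_epi ((shiftFunctorAdd' D m (-1) (m + -1) rfl).app (E i)).hom, comp_zero]
      apply hinj
      rw [Category.assoc, hα, comp_zero]
    obtain ⟨ξ, rfl⟩ := Triangle.coyoneda_exact₃ _ hT ψ h1
    obtain ⟨α, rfl⟩ := hsurj i m ξ
    change (α ≫ π) ≫ g = 0
    rw [Category.assoc, hπg, comp_zero]
  apply hE
  intro i n f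
  apply (shiftFunctor D (-n)).map_injective
  rw [Functor.map_zero, ← cancel_mono ((shiftShiftNeg Z n).hom), zero_comp]
  exact key _ _ _

section

variable {K : ℕ → D} {f : ∀ n, K n ⟶ K (n + 1)} [HasCoproduct K] {L : D} {i : ∀ n, K n ⟶ L}

lemma ι_shiftMap (n : ℕ) : Sigma.ι K n ≫ DerLim.shiftMap K f = f n ≫ Sigma.ι K (n + 1) := by
  simp [DerLim.shiftMap]

lemma shiftMap_π_zero : DerLim.shiftMap K f ≫ Sigma.π K 0 = 0 := by
  apply Sigma.hom_ext
  intro n
  rw [← Category.assoc, ι_shiftMap, Category.assoc, Sigma.ι_π_of_ne _ (by omega), comp_zero,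
    comp_zero]

lemma shiftMap_π_succ (n : ℕ) :
    DerLim.shiftMap K f ≫ Sigma.π K (n + 1) = Sigma.π K n ≫ f n := by
  apply Sigma.hom_ext
  intro m
  rw [← Category.assoc, ι_shiftMap, Category.assoc, ← Category.assoc (Sigma.ι K m)]
  by_cases h : m = n
  · subst h
    rw [Sigma.ι_π_eq_id, Sigma.ι_π_eq_id, Category.id_comp, Category.comp_id]
  · rw [Sigma.ι_π_of_ne _ (by omega), Sigma.ι_π_of_ne _ h, comp_zero, zero_comp]

/-- For a compact object `C`, the map `Hom(C, ∐ K) → Hom(C, ∐ K)` given by `1 - shift` is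
injective. -/
lemma eq_zero_of_comp_one_sub_shiftMap [HasCoproducts.{v} D] {C : D}
    (hC : CohDer.IsCompactObject C) (α : C ⟶ ∐ K) (hα : α ≫ (𝟙 (∐ K) - DerLim.shiftMap K f) = 0) :
    α = 0 := by
  rw [Preadditive.comp_sub, Category.comp_id, sub_eq_zero] at hα
  apply eq_zero_of_comp_π hC
  intro n
  induction n with
  | zero => rw [hα, Category.assoc, shiftMap_π_zero, comp_zero]
  | succ n ih => rw [hα, Category.assoc, shiftMap_π_succ, ← Category.assoc, ih, zero_comp]

lemma isHocolim_w (hL : DerLim.IsHocolim K f L i) (n : ℕ) : f n ≫ i (n + 1) = i n := by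
  obtain ⟨c, hc⟩ := hL
  have h : (𝟙 (∐ K) - DerLim.shiftMap K f) ≫ Sigma.desc i = 0 := comp_distTriang_mor_zero₁₂ _ hc
  have := Sigma.ι K n ≫= h
  rw [← Category.assoc, Preadditive.comp_sub, ι_shiftMap, Category.comp_id,
    Preadditive.sub_comp, Category.assoc, Sigma.ι_desc, Sigma.ι_desc, comp_zero,
    sub_eq_zero] at this
  exact this.symm

/-- compatible maps out of the terms of the system extend to the homotopy colimit -/
lemma exists_desc_of_isHocolim (hL : DerLim.IsHocolim K f L i) {X : D} (p : ∀ n, K n ⟶ X)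
    (hp : ∀ n, f n ≫ p (n + 1) = p n) : ∃ π : L ⟶ X, ∀ n, i n ≫ π = p n := by
  obtain ⟨c, hc⟩ := hL
  obtain ⟨π, hπ⟩ : ∃ π : L ⟶ X, Sigma.desc p = Sigma.desc i ≫ π :=
    Triangle.yoneda_exact₂ _ hc (Sigma.desc p) (by
    change (𝟙 (∐ K) - DerLim.shiftMap K f) ≫ Sigma.desc p = 0
    apply Sigma.hom_ext
    intro n
    rw [← Category.assoc, Preadditive.comp_sub, ι_shiftMap, Category.comp_id,
      Preadditive.sub_comp, Category.assoc, Sigma.ι_desc, Sigma.ι_desc, comp_zero,
      sub_eq_zero, hp])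
  refine ⟨π, fun n => ?_⟩
  have h1 := Sigma.ι K n ≫= hπ
  rw [← Category.assoc, Sigma.ι_desc, Sigma.ι_desc] at h1
  exact h1.symm

/-- a morphism from a compact object to a homotopy colimit lifts to the direct sum -/
lemma exists_lift_coprod_of_isHocolim [HasCoproducts.{v} D] (hL : DerLim.IsHocolim K f L i)
    {C : D} (hC : CohDer.IsCompactObject C) (α : C ⟶ L) :
    ∃ γ : C ⟶ ∐ K, γ ≫ Sigma.desc i = α := by
  obtain ⟨c, hc⟩ := hL
  have h1 : α ≫ c = 0 := by
    apply eq_zero_of_comp_shift_map_eq_zero (𝟙 (∐ K) - DerLim.shiftMap K f)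
    · intro β hβ
      exact eq_zero_of_comp_one_sub_shiftMap (isCompactObject_shift hC _) β hβ
    · have h2 : c ≫ (shiftFunctor D (1 : ℤ)).map (𝟙 (∐ K) - DerLim.shiftMap K f) = 0 :=
        comp_distTriang_mor_zero₃₁ _ hc
      rw [Category.assoc, h2, comp_zero]
  obtain ⟨γ, hγ⟩ := Triangle.coyoneda_exact₃ _ hc α h1
  exact ⟨γ, hγ.symm⟩

lemma exists_factor_of_le (hL : DerLim.IsHocolim K f L i) {C : D} {α : C ⟶ L} {n m : ℕ}
    (hnm : n ≤ m) (h : ∃ β : C ⟶ K n, β ≫ i n = α) : ∃ β : C ⟶ K m, β ≫ i m = α := by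
  induction m, hnm using Nat.le_induction with
  | base => exact h
  | succ m _ ih =>
    obtain ⟨β, hβ⟩ := ih
    exact ⟨β ≫ f m, by rw [Category.assoc, isHocolim_w hL, hβ]⟩

/-- A morphism from a compact object to a homotopy colimit factors through a finite stage. -/
lemma exists_factor_of_isHocolim [HasCoproducts.{v} D] (hL : DerLim.IsHocolim K f L i)
    {C : D} (hC : CohDer.IsCompactObject C) (α : C ⟶ L) :
    ∃ (n : ℕ) (β : C ⟶ K n), β ≫ i n = α := by
  obtain ⟨γ, rfl⟩ := exists_lift_coprod_of_isHocolim hL hC α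
  refine finSupp_induction (p := fun γ => ∃ (n : ℕ) (β : C ⟶ K n), β ≫ i n = γ ≫ Sigma.desc i)
    ?_ ?_ ?_ (mem_finSupp_of_isCompactObject hC K γ)
  · intro n y
    exact ⟨n, y, by rw [Category.assoc, Sigma.ι_desc]⟩
  · exact ⟨0, 0, by rw [zero_comp, zero_comp]⟩
  · rintro a b ⟨n, β, hβ⟩ ⟨n', β', hβ'⟩
    obtain ⟨x, hx⟩ := exists_factor_of_le hL (le_max_left n n') ⟨β, hβ⟩
    obtain ⟨y, hy⟩ := exists_factor_of_le hL (le_max_right n n') ⟨β', hβ'⟩
    exact ⟨max n n', x + y, by rw [Preadditive.add_comp, hx, hy, Preadditive.add_comp]⟩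

/-- Given a system with compatible maps to `X`, such that every morphism from a shift of an `E i`
to `X` lifts to the first term and every morphism to `K n` which dies in `X` dies in `K (n + 1)`,
the object `X` is the homotopy colimit of the system. -/
lemma isHocolim_of_generates [HasCoproducts.{v} D] {ι : Type*} (E : ι → D)
    (hE : CohDer.Generates E) (hc : ∀ j, CohDer.IsCompactObject (E j)) {X : D}
    (p : ∀ n, K n ⟶ X) (hp : ∀ n, f n ≫ p (n + 1) = p n)
    (hsurj : ∀ (j : ι) (m : ℤ) (β : (shiftFunctor D m).obj (E j) ⟶ X), ∃ α, α ≫ p 0 = β)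
    (hinj : ∀ (n : ℕ) (j : ι) (m : ℤ) (α : (shiftFunctor D m).obj (E j) ⟶ K n), α ≫ p n = 0 →
      α ≫ f n = 0) : DerLim.IsHocolim K f X p := by
  obtain ⟨L, q, c, hL⟩ := distinguished_cocone_triangle (𝟙 (∐ K) - DerLim.shiftMap K f)
  obtain ⟨i, rfl⟩ : ∃ i : ∀ n, K n ⟶ L, q = Sigma.desc i :=
    ⟨fun n => Sigma.ι K n ≫ q, by apply Sigma.hom_ext; intro n; rw [Sigma.ι_desc]⟩
  have hLc : DerLim.IsHocolim K f L i := ⟨c, hL⟩
  obtain ⟨π, hπ⟩ := exists_desc_of_isHocolim hLc p hp
  have : IsIso π := by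
    apply isIso_of_generates E hE
    · intro j m α hα
      obtain ⟨n, β, rfl⟩ := exists_factor_of_isHocolim hLc (isCompactObject_shift (hc j) m) α
      rw [Category.assoc, hπ] at hα
      rw [← isHocolim_w hLc n, ← Category.assoc, hinj n j m β hα, zero_comp]
    · intro j m β
      obtain ⟨α, hα⟩ := hsurj j m β
      exact ⟨α ≫ i 0, by rw [Category.assoc, hπ, hα]⟩
  refine ⟨inv π ≫ c, isomorphic_distinguished _ hL _ ?_⟩
  refine Triangle.isoMk _ _ (Iso.refl _) (Iso.refl _) (asIso π).symm ?_ ?_ ?_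
  · exact (Category.comp_id _).trans (Category.id_comp _).symm
  · change Sigma.desc p ≫ inv π = 𝟙 (∐ K) ≫ Sigma.desc i
    rw [IsIso.comp_inv_eq, Category.id_comp]
    apply Sigma.hom_ext
    intro n
    rw [Sigma.ι_desc, ← Category.assoc, Sigma.ι_desc, hπ]
  · change (inv π ≫ c) ≫ (shiftFunctor D (1 : ℤ)).map (𝟙 (∐ K)) = inv π ≫ c
    rw [CategoryTheory.Functor.map_id, Category.comp_id]

end

end

end Groth.Agent.Cohder.CompactHocolim
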