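import Mathlib.CategoryTheory.Localization.DerivabilityStructure.Constructor
import Mathlib.CategoryTheory.Localization.DerivabilityStructure.Derives
import Mathlib.CategoryTheory.Localization.CalculusOfFractions.Fractions

/-!
# Full subcategories as derivability structures

Let `W` be a class of morphisms of a category `C` with a left calculus of fractions and let `P` be a property of objects of `C` such that
every object `X` admits a morphism `X ⟶ J` in `W` with `P J`. Then the inclusion of the full
subcategory of objects satisfying `P` is a right derivability structure.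
In particular a functor inverting those morphisms in `W` that are between objects satisfying `P`
has a (pointwise) right derived functor, which is computed by objects satisfying `P`.
-/

set_option autoImplicit false

open CategoryTheory Category Localization

namespace Groth.Agent.Cohder.DerivCalc

variable {C : Type*} [Category* C] (W : MorphismProperty C) (P : ObjectProperty C)

/-- The inclusion of the full subcategory of objects satisfying `P` as a localizer morphism. -/
@[simps]
def incl : LocalizerMorphism (W.inverseImage P.ι) W where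
  functor := P.ι
  map := le_rfl

/-- Every object has a right resolution by an object satisfying `P`. -/
class HasRes : Prop where
  exists_res : ∀ X : C, ∃ (J : C) (w : X ⟶ J), P J ∧ W w

section

variable [hres : HasRes W P]

instance : (incl W P).HasRightResolutions := fun X => by
  obtain ⟨J, w, hJ, hw⟩ := hres.exists_res X
  exact ⟨{ X₁ := ⟨J, hJ⟩, w := w, hw := hw }⟩

variable [W.HasLeftCalculusOfFractions]

instance hasLeftCalculus : (W.inverseImage P.ι).HasLeftCalculusOfFractions where
  exists_leftFraction := by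
    rintro X Y ⟨s, hs, f⟩
    obtain ⟨ψ, hψ⟩ := MorphismProperty.RightFraction.exists_leftFraction
      (W := W) (MorphismProperty.RightFraction.mk s.hom hs f.hom)
    obtain ⟨J, w, hJ, hw⟩ := hres.exists_res ψ.Y'
    refine ⟨{ Y' := ⟨J, hJ⟩
              f := P.homMk (ψ.f ≫ w)
              s := P.homMk (ψ.s ≫ w)
              hs := W.comp_mem _ _ ψ.hs hw }, ?_⟩
    ext
    have := hψ =≫ w
    simpa using this
  ext := by
    intro X' X Y f₁ f₂ s hs h
    obtain ⟨Y', t, ht, h'⟩ := MorphismProperty.HasLeftCalculusOfFractions.ext (W := W)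
      f₁.hom f₂.hom s.hom hs (by
        have := congr_arg (fun f => f.hom) h
        simpa using this)
    obtain ⟨J, w, hJ, hw⟩ := hres.exists_res Y'
    refine ⟨⟨J, hJ⟩, P.homMk (t ≫ w), W.comp_mem _ _ ht hw, ?_⟩
    ext
    have := h' =≫ w
    simpa using this

instance isLocalizedEquivalence : (incl W P).IsLocalizedEquivalence := by
  let L₁ := (W.inverseImage P.ι).Q
  let L₂ := W.Q
  let F := (incl W P).localizedFunctor L₁ L₂
  let e : P.ι ⋙ L₂ ≅ L₁ ⋙ F := CatCommSq.iso (incl W P).functor L₁ L₂ F
  have : L₁.EssSurj := Localization.essSurj L₁ (W.inverseImage P.ι)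
  have hfull : F.Full := by
    refine F.full_of_comp_essSurj L₁ (fun X₁ X₂ φ ↦ ?_)
    obtain ⟨φ', hφ'⟩ : ∃ φ', φ = e.inv.app X₁ ≫ φ' ≫ e.hom.app X₂ :=
      ⟨e.hom.app X₁ ≫ φ ≫ e.inv.app X₂, by
        simp [dsimp% e.inv_hom_id_app_assoc, dsimp% e.inv_hom_id_app]⟩
    obtain ⟨f, hf⟩ := Localization.exists_leftFraction L₂ W φ'
    obtain ⟨J, w, hJ, hw⟩ := hres.exists_res f.Y'
    let g : (W.inverseImage P.ι).LeftFraction X₁ X₂ :=
      { Y' := ⟨J, hJ⟩
        f := P.homMk (f.f ≫ w)
        s := P.homMk (f.s ≫ w)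
        hs := W.comp_mem _ _ f.hs hw }
    have := Localization.inverts L₁ _ _ g.hs
    refine ⟨g.map L₁ (Localization.inverts _ _), ?_⟩
    rw [← cancel_mono (F.map (L₁.map g.s)), ← Functor.map_comp,
      MorphismProperty.LeftFraction.map_comp_map_s]
    have h1 : F.map (L₁.map g.f) = e.inv.app X₁ ≫ L₂.map (f.f ≫ w) ≫ e.hom.app ⟨J, hJ⟩ := by
      have := e.hom.naturality g.f
      dsimp at this
      rw [← dsimp% e.inv_hom_id_app_assoc X₁ (F.map (L₁.map g.f)), ← this]
      rfl
    have h2 : e.hom.app X₂ ≫ F.map (L₁.map g.s) = L₂.map (f.s ≫ w) ≫ e.hom.app ⟨J, hJ⟩ := by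
      have := e.hom.naturality g.s
      dsimp at this
      rw [← this]
      rfl
    rw [h1, hφ', assoc, assoc, h2, hf]
    simp
  have hfaithful : F.Faithful := by
    refine Functor.faithful_of_comp_of_hasLeftCalculusOfFractions L₁
      (W.inverseImage P.ι) F (fun X₁ X₂ f g hf ↦ ?_)
    replace hf : L₂.map f.hom = L₂.map g.hom := by
      have h1 := e.hom.naturality f
      have h2 := e.hom.naturality g
      dsimp at h1 h2
      rw [hf, ← h2] at h1
      exact (cancel_mono (e.hom.app X₂)).1 h1
    rw [MorphismProperty.map_eq_iff_postcomp L₂ W] at hf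
    obtain ⟨X₃, s, hs, fac⟩ := hf
    obtain ⟨J, w, hJ, hw⟩ := hres.exists_res X₃
    let t' : X₂ ⟶ ⟨J, hJ⟩ := P.homMk (s ≫ w)
    rw [MorphismProperty.map_eq_iff_postcomp L₁ (W.inverseImage P.ι)]
    refine ⟨⟨J, hJ⟩, t', W.comp_mem _ _ hs hw, ?_⟩
    ext
    have := fac =≫ w
    simpa [t'] using this
  have hess : F.EssSurj := by
    have := (incl W P).essSurj_of_hasRightResolutions L₂
    refine ⟨fun X => ?_⟩
    obtain ⟨Y, ⟨i⟩⟩ := Functor.EssSurj.mem_essImage (F := (incl W P).functor ⋙ L₂) X
    exact ⟨L₁.obj Y, ⟨(e.symm.app Y) ≪≫ i⟩⟩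
  have : F.IsEquivalence := { }
  exact LocalizerMorphism.IsLocalizedEquivalence.mk' (incl W P) L₁ L₂ F

instance (X : C) : IsConnected ((incl W P).RightResolution X) := by
  have : Nonempty ((incl W P).RightResolution X) := inferInstance
  refine zigzag_isConnected (fun R R' => ?_)
  obtain ⟨ψ, hψ⟩ := MorphismProperty.RightFraction.exists_leftFraction
      (W := W) (MorphismProperty.RightFraction.mk R.w R.hw R'.w)
  obtain ⟨J, w, hJ, hw⟩ := hres.exists_res ψ.Y'
  dsimp at hψ
  let R'' : (incl W P).RightResolution X :=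
    { X₁ := ⟨J, hJ⟩
      w := R'.w ≫ ψ.s ≫ w
      hw := W.comp_mem _ _ R'.hw (W.comp_mem _ _ ψ.hs hw) }
  let a : R ⟶ R'' :=
    { f := P.homMk (ψ.f ≫ w)
      comm := by
        change R.w ≫ (ψ.f ≫ w) = R'.w ≫ ψ.s ≫ w
        have := hψ =≫ w
        simpa using this.symm }
  let b : R' ⟶ R'' :=
    { f := P.homMk (ψ.s ≫ w)
      comm := by rfl }
  exact (Zigzag.of_hom a).trans (Zigzag.of_inv b)

instance : (incl W P).arrow.HasRightResolutions := fun f => by
  obtain ⟨J, w, hJ, hw⟩ := hres.exists_res f.left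
  obtain ⟨ψ, hψ⟩ := MorphismProperty.RightFraction.exists_leftFraction
      (W := W) (MorphismProperty.RightFraction.mk w hw f.hom)
  obtain ⟨J', w', hJ', hw'⟩ := hres.exists_res ψ.Y'
  dsimp at hψ
  let X₁ : P.FullSubcategory := ⟨J, hJ⟩
  let X₂ : P.FullSubcategory := ⟨J', hJ'⟩
  let g : X₁ ⟶ X₂ := P.homMk (ψ.f ≫ w')
  exact ⟨{
    X₁ := Arrow.mk g
    w := Arrow.homMk w (ψ.s ≫ w') (by
      change w ≫ (ψ.f ≫ w') = f.hom ≫ (ψ.s ≫ w')
      have := hψ =≫ w'
      simpa using this.symm)
    hw := ⟨hw, W.comp_mem _ _ ψ.hs hw'⟩ }⟩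

instance isRightDerivabilityStructure : (incl W P).IsRightDerivabilityStructure :=
  LocalizerMorphism.IsRightDerivabilityStructure.mk' _

variable {W P}

omit hres [W.HasLeftCalculusOfFractions] in
lemma derives {H : Type*} [Category* H] (F : C ⥤ H)
    (hF : ∀ (X Y : C) (f : X ⟶ Y), P X → P Y → W f → IsIso (F.map f)) :
    (incl W P).Derives F := by
  intro X Y f hf
  exact hF _ _ _ X.property Y.property hf

include hres in
variable (W P) in
/-- Existence of right derived functors. -/
lemma hasPointwiseRightDerivedFunctor {H : Type*} [Category* H] (F : C ⥤ H)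
    (hF : ∀ (X Y : C) (f : X ⟶ Y), P X → P Y → W f → IsIso (F.map f)) :
    F.HasPointwiseRightDerivedFunctor W :=
  (derives (W := W) (P := P) F hF).hasPointwiseRightDerivedFunctor

include hres in
variable (W P) in
/-- Right derived functors are computed by objects satisfying `P`. -/
lemma isIso_app {H D : Type*} [Category* H] [Category* D] (F : C ⥤ H)
    (hF : ∀ (X Y : C) (f : X ⟶ Y), P X → P Y → W f → IsIso (F.map f))
    {L : C ⥤ D} [L.IsLocalization W] {RF : D ⥤ H} (α : F ⟶ L ⋙ RF)
    [RF.IsRightDerivedFunctor α W] (X : C) (hX : P X) :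
    IsIso (α.app X) :=
  (derives (W := W) (P := P) F hF).isIso_of_isRightDerivedFunctor α ⟨X, hX⟩

end

end Groth.Agent.Cohder.DerivCalc
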