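import Mathlib.Algebra.Homology.DerivedCategory.ExactFunctor
import Mathlib.Algebra.Homology.DerivedCategory.Fractions

/-!
# Criteria for the full faithfulness of `F.mapDerivedCategory` on certain morphisms

Let `F : B ⥤ A` be an exact fully faithful functor between abelian categories.

* `bijective_of_left_resolutions`: if `R` is a class of complexes in `B` such that
  for any `M` in `R` and any quasi-isomorphism `K ⟶ F M`, there is a quasi-isomorphism
  `F M' ⟶ K` with `M'` in `R`, then `D(B) ⥤ D(A)` induces bijections on morphisms with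
  source (the image of) an object in `R`.
* `bijective_of_right_resolutions`: the dual statement.
-/

set_option autoImplicit false
universe w w' v v' u u'
open CategoryTheory CategoryTheory.Limits

namespace Groth.Agent.Cohder.DerivedFF

variable {A : Type u} [Category.{v} A] [Abelian A] [HasDerivedCategory.{w} A]
  {B : Type u'} [Category.{v'} B] [Abelian B] [HasDerivedCategory.{w'} B]
  (F : B ⥤ A) [F.Additive] [PreservesFiniteLimits F] [PreservesFiniteColimits F]

open DerivedCategory

lemma Q_map_eq_zero_iff_precomp {K L : CochainComplex A ℤ} (f : K ⟶ L) :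
    Q.map f = 0 ↔ ∃ (K' : CochainComplex A ℤ) (s : K' ⟶ K), QuasiIso s ∧
      Nonempty (Homotopy (s ≫ f) 0) := by
  have h1 : Q.map f = 0 ↔ Qh.map ((HomotopyCategory.quotient A (ComplexShape.up ℤ)).map f) =
      Qh.map ((HomotopyCategory.quotient A (ComplexShape.up ℤ)).map 0) := by
    rw [Functor.map_zero, Functor.map_zero]
    rfl
  rw [h1, MorphismProperty.map_eq_iff_precomp Qh (HomotopyCategory.quasiIso A (ComplexShape.up ℤ))]
  constructor
  · rintro ⟨X, s, hs, fac⟩
    obtain ⟨X, rfl⟩ := HomotopyCategory.quotient_obj_surjective X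
    obtain ⟨s, rfl⟩ := (HomotopyCategory.quotient _ _).map_surjective s
    rw [HomotopyCategory.quotient_map_mem_quasiIso_iff, HomologicalComplex.mem_quasiIso_iff] at hs
    rw [← Functor.map_comp, ← Functor.map_comp, comp_zero] at fac
    exact ⟨X, s, hs, ⟨HomotopyCategory.homotopyOfEq _ _ fac⟩⟩
  · rintro ⟨K', s, hs, ⟨h⟩⟩
    refine ⟨_, (HomotopyCategory.quotient _ _).map s, ?_, ?_⟩
    · rwa [HomotopyCategory.quotient_map_mem_quasiIso_iff, HomologicalComplex.mem_quasiIso_iff]
    · rw [← Functor.map_comp, HomotopyCategory.eq_of_homotopy _ _ h, Functor.map_zero,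
        Functor.map_zero, comp_zero]

lemma Q_map_eq_zero_iff_postcomp {K L : CochainComplex A ℤ} (f : K ⟶ L) :
    Q.map f = 0 ↔ ∃ (L' : CochainComplex A ℤ) (s : L ⟶ L'), QuasiIso s ∧
      Nonempty (Homotopy (f ≫ s) 0) := by
  have h1 : Q.map f = 0 ↔ Qh.map ((HomotopyCategory.quotient A (ComplexShape.up ℤ)).map f) =
      Qh.map ((HomotopyCategory.quotient A (ComplexShape.up ℤ)).map 0) := by
    rw [Functor.map_zero, Functor.map_zero]
    rfl
  rw [h1, MorphismProperty.map_eq_iff_postcomp Qh (HomotopyCategory.quasiIso A (ComplexShape.up ℤ))]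
  constructor
  · rintro ⟨X, s, hs, fac⟩
    obtain ⟨X, rfl⟩ := HomotopyCategory.quotient_obj_surjective X
    obtain ⟨s, rfl⟩ := (HomotopyCategory.quotient _ _).map_surjective s
    rw [HomotopyCategory.quotient_map_mem_quasiIso_iff, HomologicalComplex.mem_quasiIso_iff] at hs
    rw [← Functor.map_comp, ← Functor.map_comp, zero_comp] at fac
    exact ⟨X, s, hs, ⟨HomotopyCategory.homotopyOfEq _ _ fac⟩⟩
  · rintro ⟨K', s, hs, ⟨h⟩⟩
    refine ⟨_, (HomotopyCategory.quotient _ _).map s, ?_, ?_⟩
    · rwa [HomotopyCategory.quotient_map_mem_quasiIso_iff, HomologicalComplex.mem_quasiIso_iff]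
    · rw [← Functor.map_comp, HomotopyCategory.eq_of_homotopy _ _ h, Functor.map_zero,
        Functor.map_zero, zero_comp]

/-- if `F` is fully faithful, then a map of complexes is null homotopic if its image by `F` is -/
lemma nonempty_homotopyZero_of_map [F.Full] [F.Faithful] {K L : CochainComplex B ℤ} (f : K ⟶ L)
    (h : Nonempty (Homotopy ((F.mapHomologicalComplex _).map f) 0)) :
    Nonempty (Homotopy f 0) := by
  refine ⟨HomotopyCategory.homotopyOfEq _ _ ?_⟩
  apply (F.mapHomotopyCategory (ComplexShape.up ℤ)).map_injective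
  have := HomotopyCategory.eq_of_homotopy _ _ h.some
  rw [Functor.map_zero, Functor.map_zero] at *
  exact this

section

variable (R : ObjectProperty (CochainComplex B ℤ))
  (hR : ∀ (M : CochainComplex B ℤ), R M → ∀ (K : CochainComplex A ℤ)
    (s : K ⟶ (F.mapHomologicalComplex _).obj M), QuasiIso s →
      ∃ (M' : CochainComplex B ℤ) (t : (F.mapHomologicalComplex _).obj M' ⟶ K),
        R M' ∧ QuasiIso t)

include hR

lemma bijective_Q_of_left_resolutions [F.Full] [F.Faithful]
    (M N : CochainComplex B ℤ) (hM : R M) :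
    Function.Bijective (fun φ : Q.obj M ⟶ Q.obj N => F.mapDerivedCategory.map φ) := by
  have : F.PreservesHomology := inferInstance
  constructor
  · -- injectivity
    suffices ∀ (φ : Q.obj M ⟶ Q.obj N), F.mapDerivedCategory.map φ = 0 → φ = 0 by
      intro φ₁ φ₂ h
      rw [← sub_eq_zero]
      apply this
      rw [Functor.map_sub, sub_eq_zero]
      exact h
    intro φ hφ
    obtain ⟨M₁, s, hs, g, rfl⟩ := right_fac φ
    -- it suffices to show that `Q.map g = 0`
    suffices Q.map g = 0 by rw [this, comp_zero]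
    have h1 : Q.map ((F.mapHomologicalComplex _).map g) = 0 := by
      have : F.mapDerivedCategory.map (Q.map g) = 0 := by
        rw [← cancel_epi (F.mapDerivedCategory.map (inv (Q.map s))), ← Functor.map_comp, hφ,
          comp_zero]
      rw [← cancel_epi (F.mapDerivedCategoryFactors.hom.app M₁),
        ← F.mapDerivedCategoryFactors_hom_naturality, this, zero_comp, comp_zero]
    rw [Q_map_eq_zero_iff_precomp] at h1
    obtain ⟨K, u, hu, ⟨hug⟩⟩ := h1
    rw [isIso_Q_map_iff_quasiIso] at hs
    obtain ⟨M₂, t, hM₂, ht⟩ := hR M hM K (u ≫ (F.mapHomologicalComplex _).map s) inferInstance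
    obtain ⟨v, hv⟩ := (F.mapHomologicalComplex (ComplexShape.up ℤ)).map_surjective (t ≫ u)
    have hv' : QuasiIso v := by
      rw [← HomologicalComplex.quasiIso_map_iff_of_preservesHomology v F, hv]
      infer_instance
    rw [Q_map_eq_zero_iff_precomp]
    refine ⟨M₂, v, hv', nonempty_homotopyZero_of_map F _ ⟨?_⟩⟩
    rw [Functor.map_comp, hv, Category.assoc]
    exact (hug.compLeft t).trans (Homotopy.ofEq comp_zero)
  · -- surjectivity
    intro ψ
    obtain ⟨K, s, hs, g, hg⟩ := right_fac
      (F.mapDerivedCategoryFactors.inv.app M ≫ ψ ≫ F.mapDerivedCategoryFactors.hom.app N)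
    rw [isIso_Q_map_iff_quasiIso] at hs
    obtain ⟨M', t, hM', ht⟩ := hR M hM K s hs
    obtain ⟨v, hv⟩ := (F.mapHomologicalComplex (ComplexShape.up ℤ)).map_surjective (t ≫ s)
    obtain ⟨w, hw⟩ := (F.mapHomologicalComplex (ComplexShape.up ℤ)).map_surjective (t ≫ g)
    have hv' : QuasiIso v := by
      rw [← HomologicalComplex.quasiIso_map_iff_of_preservesHomology v F, hv]
      infer_instance
    refine ⟨inv (Q.map v) ≫ Q.map w, ?_⟩
    have h1 : Q.map s ≫ F.mapDerivedCategoryFactors.inv.app M ≫ ψ ≫
        F.mapDerivedCategoryFactors.hom.app N = Q.map g := by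
      rw [hg, IsIso.hom_inv_id_assoc]
    dsimp only
    rw [Functor.map_comp, Functor.map_inv, IsIso.inv_comp_eq,
      ← cancel_mono (F.mapDerivedCategoryFactors.hom.app N), Category.assoc,
      F.mapDerivedCategoryFactors_hom_naturality, hw, Functor.map_comp, ← h1,
      ← Q.map_comp_assoc, ← hv, ← F.mapDerivedCategoryFactors_hom_naturality_assoc,
      Iso.hom_inv_id_app_assoc]

/-- Let `F : B ⥤ A` be an exact fully faithful functor, and `R` a class of complexes in `B`
such that for any `M` in `R` and any quasi-isomorphism `K ⟶ F M`, there is a quasi-isomorphism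
`F M' ⟶ K` with `M'` in `R`. Then `D(B) ⥤ D(A)` induces bijections on morphisms with source
an object of `D(B)` isomorphic to (the image of) an object in `R`. -/
lemma bijective_of_left_resolutions [F.Full] [F.Faithful]
    (X Y : DerivedCategory B) (M : CochainComplex B ℤ) (hM : R M) (e : X ≅ Q.obj M) :
    Function.Bijective (fun φ : X ⟶ Y => F.mapDerivedCategory.map φ) := by
  obtain ⟨N, ⟨e'⟩⟩ : ∃ N, Nonempty (Y ≅ Q.obj N) := ⟨_, ⟨(Q.objObjPreimageIso Y).symm⟩⟩
  have h := bijective_Q_of_left_resolutions F R hR M N hM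
  have h2 := ((Iso.homCongr (F.mapDerivedCategory.mapIso e) (F.mapDerivedCategory.mapIso e')).symm
    |>.bijective.comp h).comp (Iso.homCongr e e').bijective
  convert! h2
  ext φ
  simp [Iso.homCongr, ← Functor.map_comp]

end

section

variable (R : ObjectProperty (CochainComplex B ℤ))
  (hR : ∀ (M : CochainComplex B ℤ), R M → ∀ (K : CochainComplex A ℤ)
    (s : (F.mapHomologicalComplex _).obj M ⟶ K), QuasiIso s →
      ∃ (M' : CochainComplex B ℤ) (t : K ⟶ (F.mapHomologicalComplex _).obj M'),
        R M' ∧ QuasiIso t)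

include hR

lemma bijective_Q_of_right_resolutions [F.Full] [F.Faithful]
    (M N : CochainComplex B ℤ) (hN : R N) :
    Function.Bijective (fun φ : Q.obj M ⟶ Q.obj N => F.mapDerivedCategory.map φ) := by
  have : F.PreservesHomology := inferInstance
  constructor
  · -- injectivity
    suffices ∀ (φ : Q.obj M ⟶ Q.obj N), F.mapDerivedCategory.map φ = 0 → φ = 0 by
      intro φ₁ φ₂ h
      rw [← sub_eq_zero]
      apply this
      rw [Functor.map_sub, sub_eq_zero]
      exact h
    intro φ hφ
    obtain ⟨N₁, g, s, hs, rfl⟩ := left_fac φ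
    suffices Q.map g = 0 by rw [this, zero_comp]
    have h1 : Q.map ((F.mapHomologicalComplex _).map g) = 0 := by
      have : F.mapDerivedCategory.map (Q.map g) = 0 := by
        rw [← cancel_mono (F.mapDerivedCategory.map (inv (Q.map s))), ← Functor.map_comp, hφ,
          zero_comp]
      rw [← cancel_epi (F.mapDerivedCategoryFactors.hom.app M),
        ← F.mapDerivedCategoryFactors_hom_naturality, this, zero_comp, comp_zero]
    rw [Q_map_eq_zero_iff_postcomp] at h1
    obtain ⟨K, u, hu, ⟨hug⟩⟩ := h1
    rw [isIso_Q_map_iff_quasiIso] at hs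
    obtain ⟨N₂, t, hN₂, ht⟩ := hR N hN K ((F.mapHomologicalComplex _).map s ≫ u) inferInstance
    obtain ⟨v, hv⟩ := (F.mapHomologicalComplex (ComplexShape.up ℤ)).map_surjective (u ≫ t)
    have hv' : QuasiIso v := by
      rw [← HomologicalComplex.quasiIso_map_iff_of_preservesHomology v F, hv]
      infer_instance
    rw [Q_map_eq_zero_iff_postcomp]
    refine ⟨N₂, v, hv', nonempty_homotopyZero_of_map F _ ⟨?_⟩⟩
    rw [Functor.map_comp, hv, ← Category.assoc]
    exact (hug.compRight t).trans (Homotopy.ofEq zero_comp)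
  · -- surjectivity
    intro ψ
    obtain ⟨K, g, s, hs, hg⟩ := left_fac
      (F.mapDerivedCategoryFactors.inv.app M ≫ ψ ≫ F.mapDerivedCategoryFactors.hom.app N)
    rw [isIso_Q_map_iff_quasiIso] at hs
    obtain ⟨N', t, hN', ht⟩ := hR N hN K s hs
    obtain ⟨v, hv⟩ := (F.mapHomologicalComplex (ComplexShape.up ℤ)).map_surjective (s ≫ t)
    obtain ⟨w, hw⟩ := (F.mapHomologicalComplex (ComplexShape.up ℤ)).map_surjective (g ≫ t)
    have hv' : QuasiIso v := by
      rw [← HomologicalComplex.quasiIso_map_iff_of_preservesHomology v F, hv]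
      infer_instance
    refine ⟨Q.map w ≫ inv (Q.map v), ?_⟩
    have h1 : F.mapDerivedCategoryFactors.inv.app M ≫ ψ ≫
        F.mapDerivedCategoryFactors.hom.app N ≫ Q.map s = Q.map g := by
      have := hg =≫ Q.map s
      rwa [Category.assoc, Category.assoc, Category.assoc, IsIso.inv_hom_id, Category.comp_id]
        at this
    dsimp only
    rw [Functor.map_comp, Functor.map_inv, IsIso.comp_inv_eq,
      ← cancel_mono (F.mapDerivedCategoryFactors.hom.app N'), Category.assoc,
      F.mapDerivedCategoryFactors_hom_naturality, hw, F.mapDerivedCategoryFactors_hom_naturality,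
      hv, Functor.map_comp, Functor.map_comp, ← h1]
    simp

/-- Let `F : B ⥤ A` be an exact fully faithful functor, and `R` a class of complexes in `B`
such that for any `M` in `R` and any quasi-isomorphism `F M ⟶ K`, there is a quasi-isomorphism
`K ⟶ F M'` with `M'` in `R`. Then `D(B) ⥤ D(A)` induces bijections on morphisms with target
an object of `D(B)` isomorphic to (the image of) an object in `R`. -/
lemma bijective_of_right_resolutions [F.Full] [F.Faithful]
    (X Y : DerivedCategory B) (N : CochainComplex B ℤ) (hN : R N) (e : Y ≅ Q.obj N) :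
    Function.Bijective (fun φ : X ⟶ Y => F.mapDerivedCategory.map φ) := by
  obtain ⟨M, ⟨e'⟩⟩ : ∃ M, Nonempty (X ≅ Q.obj M) := ⟨_, ⟨(Q.objObjPreimageIso X).symm⟩⟩
  have h := bijective_Q_of_right_resolutions F R hR M N hN
  have h2 := ((Iso.homCongr (F.mapDerivedCategory.mapIso e') (F.mapDerivedCategory.mapIso e)).symm
    |>.bijective.comp h).comp (Iso.homCongr e' e).bijective
  convert! h2
  ext φ
  simp [Iso.homCongr, ← Functor.map_comp]

end

end Groth.Agent.Cohder.DerivedFF
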