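import Groth.Agent.Cohder.ExtSemi

/-!
Transfer of finite-dimensionality along comparison maps of Ext groups (abstract nonsense kept
separate for the sake of fast type checking).
-/

set_option autoImplicit false
universe w₀ w₁ w₂ v₀ v₁ v₂ u₀ u₁ u₂

open CategoryTheory CategoryTheory.Limits CategoryTheory.Abelian

namespace Groth.Agent.Cohder.ExtTransfer

variable {A₀ : Type u₀} [Category.{v₀} A₀] [Abelian A₀] [HasExt.{w₀} A₀]
  {A₁ : Type u₁} [Category.{v₁} A₁] [Abelian A₁] [HasExt.{w₁} A₁]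
  {A₂ : Type u₂} [Category.{v₂} A₂] [Abelian A₂] [HasExt.{w₂} A₂]

/-- An additive map between Ext groups compatible with all pairs of endomorphisms in a relation. -/
structure Tr (P₀ O₀ : A₀) (P₂ O₂ : A₂) (n : ℕ) (R : (O₀ ⟶ O₀) → (O₂ ⟶ O₂) → Prop) where
  map : Ext.{w₀} P₀ O₀ n →+ Ext.{w₂} P₂ O₂ n
  bij : Function.Bijective map
  nat : ∀ e₀ e₂, R e₀ e₂ → ∀ x : Ext.{w₀} P₀ O₀ n,
    map (x.comp (Ext.mk₀ e₀) (add_zero n)) = (map x).comp (Ext.mk₀ e₂) (add_zero n)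

/-- Composition of comparison maps. -/
noncomputable def Tr.comp {P₀ O₀ : A₀} {P₁ O₁ : A₁} {P₂ O₂ : A₂} {n : ℕ}
    {R : (O₀ ⟶ O₀) → (O₁ ⟶ O₁) → Prop} {S : (O₁ ⟶ O₁) → (O₂ ⟶ O₂) → Prop}
    (s : Tr.{w₀, w₁} P₀ O₀ P₁ O₁ n R) (t : Tr.{w₁, w₂} P₁ O₁ P₂ O₂ n S) :
    Tr.{w₀, w₂} P₀ O₀ P₂ O₂ n (fun e₀ e₂ => ∃ e₁, R e₀ e₁ ∧ S e₁ e₂) where
  map := t.map.comp s.map
  bij := t.bij.comp s.bij
  nat := by
    rintro e₀ e₂ ⟨e₁, h₁, h₂⟩ x
    change t.map (s.map _) = _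
    rw [s.nat e₀ e₁ h₁, t.nat e₁ e₂ h₂]
    rfl

/-- The comparison map given by an isomorphism of the target. -/
noncomputable def Tr.ofIso {P O O' : A₀} (i : O ≅ O') (n : ℕ) :
    Tr.{w₀, w₀} P O P O' n (fun e e' => e ≫ i.hom = i.hom ≫ e') where
  map := (Ext.mk₀ i.hom).postcomp P (add_zero n)
  bij := by
    refine Function.bijective_iff_has_inverse.2
      ⟨(Ext.mk₀ i.inv).postcomp P (add_zero n), fun x => ?_, fun x => ?_⟩
    · change (x.comp (Ext.mk₀ i.hom) (add_zero n)).comp (Ext.mk₀ i.inv) (add_zero n) = x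
      rw [Ext.comp_assoc_of_third_deg_zero, Ext.mk₀_comp_mk₀, Iso.hom_inv_id, Ext.comp_mk₀_id]
    · change (x.comp (Ext.mk₀ i.inv) (add_zero n)).comp (Ext.mk₀ i.hom) (add_zero n) = x
      rw [Ext.comp_assoc_of_third_deg_zero, Ext.mk₀_comp_mk₀, Iso.inv_hom_id, Ext.comp_mk₀_id]
  nat e₀ e₂ h x := by
    change (x.comp (Ext.mk₀ e₀) (add_zero n)).comp (Ext.mk₀ i.hom) (add_zero n) =
      (x.comp (Ext.mk₀ i.hom) (add_zero n)).comp (Ext.mk₀ e₂) (add_zero n)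
    rw [Ext.comp_assoc_of_third_deg_zero, Ext.comp_assoc_of_third_deg_zero, Ext.mk₀_comp_mk₀,
      Ext.mk₀_comp_mk₀, h]

variable {P₀ O₀ : A₀} {P₂ O₂ : A₂} {n : ℕ} {R : (O₀ ⟶ O₀) → (O₂ ⟶ O₂) → Prop}
  (t : Tr.{w₀, w₂} P₀ O₀ P₂ O₂ n R)

include t in
theorem Tr.subsingleton (h : Subsingleton (Ext.{w₀} P₀ O₀ n)) : Subsingleton (Ext.{w₂} P₂ O₂ n) :=
  t.bij.2.subsingleton

include t in
/-- Transfer of finite-dimensionality. -/
theorem Tr.finite {k : Type*} [CommRing k] (ρ₀ : ExtSemi.Action k O₀) (ρ₂ : ExtSemi.Action k O₂)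
    (hR : ∀ a, R (ρ₀.act a) (ρ₂.act a))
    (hfd : letI := ρ₀.module P₀ n; Module.Finite k (Ext.{w₀} P₀ O₀ n)) :
    letI := ρ₂.module P₂ n; Module.Finite k (Ext.{w₂} P₂ O₂ n) := by
  let _ := ρ₀.module P₀ n
  let _ := ρ₂.module P₂ n
  have : Module.Finite k (Ext.{w₀} P₀ O₀ n) := hfd
  exact Module.Finite.of_surjective
    ({ t.map with map_smul' := fun a x => t.nat _ _ (hR a) x } :
      Ext.{w₀} P₀ O₀ n →ₗ[k] Ext.{w₂} P₂ O₂ n) t.bij.2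

end Groth.Agent.Cohder.ExtTransfer
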