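import Groth.Prelude.Def_EtZar
import Groth.Prelude.Def_EtGm
import Groth.Prelude.Def_Coh
import Groth.Agent.Cohder.ZarUlift

/-!
Shortcut instances (theorem constants) for `HasSheafify` and `HasExt` on the usual categories of
abelian sheaves.  Without them every mention of `Sheaf.H`, `Coh.HH`, `EtCoh.H`, `Ext` costs
1.5-3 seconds of kernel time, since the instance terms are type checked again each time.
Use with `open scoped Groth.Agent.Cohder.FastInst`.
-/

set_option autoImplicit false
universe u

open CategoryTheory CategoryTheory.Limits AlgebraicGeometry TopologicalSpace CategoryTheory.Abelian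

namespace Groth.Agent.Cohder.FastInst

section small

variable {C : Type u} [SmallCategory C] (J : GrothendieckTopology C)

theorem hasSheafify : HasSheafify J AddCommGrpCat.{u} := inferInstance

theorem hasSheafify_succ : HasSheafify J AddCommGrpCat.{u + 1} := ZarUlift.hasSheafify_succ J

scoped[Groth.Agent.Cohder.FastInst] attribute [instance 100000] hasSheafify hasSheafify_succ

theorem hasExt : HasExt.{u} (Sheaf J AddCommGrpCat.{u}) := inferInstance

theorem hasExt_succ : HasExt.{u + 1} (Sheaf J AddCommGrpCat.{u + 1}) := by
  have := ZarUlift.isGrothendieckAbelian_succ J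
  infer_instance

theorem isGrothendieckAbelian_succ :
    IsGrothendieckAbelian.{u + 1} (Sheaf J AddCommGrpCat.{u + 1}) :=
  ZarUlift.isGrothendieckAbelian_succ J

scoped[Groth.Agent.Cohder.FastInst] attribute [instance 100000] hasExt hasExt_succ
scoped[Groth.Agent.Cohder.FastInst] attribute [instance] isGrothendieckAbelian_succ

end small

section etale

variable (X : Scheme.{u})

theorem hasSheafify_et : HasSheafify X.smallEtaleTopology AddCommGrpCat.{u + 1} := inferInstance

scoped[Groth.Agent.Cohder.FastInst] attribute [instance 100000] hasSheafify_et

theorem hasExt_et : HasExt.{u + 1} (Sheaf X.smallEtaleTopology AddCommGrpCat.{u + 1}) :=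
  (inferInstance : HasExt.{u + 1} (EtCoh.Ab X))

scoped[Groth.Agent.Cohder.FastInst] attribute [instance 100000] hasExt_et

end etale

end Groth.Agent.Cohder.FastInst
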