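import Mathlib.CategoryTheory.Abelian.Refinements
import Mathlib.CategoryTheory.Triangulated.HomologicalFunctor

/-!
# Four lemmas for the long exact sequence of a homological functor

For a morphism `φ : T ⟶ T'` of distinguished triangles and a homological functor `F` with a shift
sequence: criteria for `(F.shift n).map φ.hom₃` to be an epimorphism / a monomorphism.
-/

set_option autoImplicit false
set_option linter.unusedSectionVars false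
open CategoryTheory CategoryTheory.Limits Pretriangulated

namespace Groth.Agent.Cohder.FourLemma

section

variable {A : Type*} [Category* A] [Abelian A]

/-- four lemma (epi version) for four composable morphisms. -/
lemma four_epi {X₁ X₂ X₃ X₄ Y₁ Y₂ Y₃ Y₄ : A} {f₁ : X₁ ⟶ X₂} {f₂ : X₂ ⟶ X₃} {f₃ : X₃ ⟶ X₄}
    {g₁ : Y₁ ⟶ Y₂} {g₂ : Y₂ ⟶ Y₃} {g₃ : Y₃ ⟶ Y₄} {w₁₂ : f₂ ≫ f₃ = 0} {v₁₂ : g₁ ≫ g₂ = 0}
    {v₂₃ : g₂ ≫ g₃ = 0}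
    (hf : (ShortComplex.mk f₂ f₃ w₁₂).Exact) (hg : (ShortComplex.mk g₁ g₂ v₁₂).Exact)
    (a₁ : X₁ ⟶ Y₁) (a₂ : X₂ ⟶ Y₂) (a₃ : X₃ ⟶ Y₃) (a₄ : X₄ ⟶ Y₄)
    (c₁ : f₁ ≫ a₂ = a₁ ≫ g₁) (c₂ : f₂ ≫ a₃ = a₂ ≫ g₂) (c₃ : f₃ ≫ a₄ = a₃ ≫ g₃)
    (h₁ : Epi a₁) (h₃ : Epi a₃) (h₄ : Mono a₄) : Epi a₂ := by
  rw [epi_iff_surjective_up_to_refinements]
  intro T y
  obtain ⟨T₁, π₁, _, x₃, hx₃⟩ := surjective_up_to_refinements_of_epi a₃ (y ≫ g₂)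
  have h0 : x₃ ≫ f₃ = 0 := by
    rw [← cancel_mono a₄, Category.assoc, c₃, ← Category.assoc, ← hx₃, Category.assoc,
      Category.assoc, v₂₃, comp_zero, comp_zero, zero_comp]
  obtain ⟨T₂, π₂, _, x₂, hx₂⟩ := hf.exact_up_to_refinements x₃ h0
  change π₂ ≫ x₃ = x₂ ≫ f₂ at hx₂
  have h0' : (π₂ ≫ π₁ ≫ y - x₂ ≫ a₂) ≫ g₂ = 0 := by
    rw [Preadditive.sub_comp, Category.assoc, Category.assoc, Category.assoc, hx₃, ← c₂,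
      reassoc_of% hx₂, sub_self]
  obtain ⟨T₃, π₃, _, y₁, hy₁⟩ := hg.exact_up_to_refinements _ h0'
  change π₃ ≫ (π₂ ≫ π₁ ≫ y - x₂ ≫ a₂) = y₁ ≫ g₁ at hy₁
  obtain ⟨T₄, π₄, _, x₁, hx₁⟩ := surjective_up_to_refinements_of_epi a₁ y₁
  refine ⟨T₄, π₄ ≫ π₃ ≫ π₂ ≫ π₁, inferInstance, x₁ ≫ f₁ + π₄ ≫ π₃ ≫ x₂, ?_⟩
  have e1 : (x₁ ≫ f₁) ≫ a₂ = π₄ ≫ π₃ ≫ (π₂ ≫ π₁ ≫ y - x₂ ≫ a₂) := by
    rw [hy₁, Category.assoc, c₁, ← reassoc_of% hx₁]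
  rw [Preadditive.add_comp, e1, Preadditive.comp_sub, Preadditive.comp_sub]
  simp only [Category.assoc]
  abel

/-- four lemma (mono version) for four composable morphisms. -/
lemma four_mono {X₁ X₂ X₃ X₄ Y₁ Y₂ Y₃ Y₄ : A} {f₁ : X₁ ⟶ X₂} {f₂ : X₂ ⟶ X₃} {f₃ : X₃ ⟶ X₄}
    {g₁ : Y₁ ⟶ Y₂} {g₂ : Y₂ ⟶ Y₃} {g₃ : Y₃ ⟶ Y₄} {w₁₂ : f₁ ≫ f₂ = 0} {w₂₃ : f₂ ≫ f₃ = 0}
    {v₁₂ : g₁ ≫ g₂ = 0}
    (hf : (ShortComplex.mk f₂ f₃ w₂₃).Exact) (hg : (ShortComplex.mk g₁ g₂ v₁₂).Exact)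
    (a₁ : X₁ ⟶ Y₁) (a₂ : X₂ ⟶ Y₂) (a₃ : X₃ ⟶ Y₃) (a₄ : X₄ ⟶ Y₄)
    (c₁ : f₁ ≫ a₂ = a₁ ≫ g₁) (c₂ : f₂ ≫ a₃ = a₂ ≫ g₂) (c₃ : f₃ ≫ a₄ = a₃ ≫ g₃)
    (h₁ : Epi a₁) (h₂ : Mono a₂) (h₄ : Mono a₄) : Mono a₃ := by
  apply Preadditive.mono_of_cancel_zero
  intro T x hx
  have h0 : x ≫ f₃ = 0 := by
    rw [← cancel_mono a₄, Category.assoc, c₃, ← Category.assoc, hx, zero_comp, zero_comp]
  obtain ⟨T₁, π₁, _, x₂, hx₂⟩ := hf.exact_up_to_refinements x h0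
  change π₁ ≫ x = x₂ ≫ f₂ at hx₂
  have h0' : (x₂ ≫ a₂) ≫ g₂ = 0 := by
    rw [Category.assoc, ← c₂, ← reassoc_of% hx₂, hx, comp_zero]
  obtain ⟨T₂, π₂, _, y₁, hy₁⟩ := hg.exact_up_to_refinements _ h0'
  change π₂ ≫ x₂ ≫ a₂ = y₁ ≫ g₁ at hy₁
  obtain ⟨T₃, π₃, _, x₁, hx₁⟩ := surjective_up_to_refinements_of_epi a₁ y₁
  have h2 : π₃ ≫ π₂ ≫ x₂ = x₁ ≫ f₁ := by
    rw [← cancel_mono a₂, Category.assoc, Category.assoc, hy₁, Category.assoc, c₁,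
      reassoc_of% hx₁]
  rw [← cancel_epi π₁, hx₂, ← cancel_epi π₂, ← cancel_epi π₃, reassoc_of% h2, w₁₂,
    comp_zero, comp_zero, comp_zero, comp_zero]

end

variable {T A : Type*} [Category* T] [Category* A] [HasShift T ℤ] [HasZeroObject T] [Preadditive T]
  [∀ n : ℤ, (shiftFunctor T n).Additive] [Pretriangulated T] [Abelian A]
  (F : T ⥤ A) [F.IsHomological] [F.ShiftSequence ℤ]

/-- epimorphism on the third vertex -/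
lemma epi_hom₃ {S S' : Triangle T} (φ : S ⟶ S') (hS : S ∈ distTriang T) (hS' : S' ∈ distTriang T)
    (n₀ n₁ : ℤ) (h : n₀ + 1 = n₁) (h₂ : Epi ((F.shift n₀).map φ.hom₂))
    (h₁ : Epi ((F.shift n₁).map φ.hom₁)) (h₂' : Mono ((F.shift n₁).map φ.hom₂)) :
    Epi ((F.shift n₀).map φ.hom₃) :=
  four_epi (f₁ := (F.shift n₀).map S.mor₂) (g₁ := (F.shift n₀).map S'.mor₂)
    (v₂₃ := F.homologySequenceδ_comp S' hS' n₀ n₁ h)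
    (F.homologySequence_exact₁ S hS n₀ n₁ h) (F.homologySequence_exact₃ S' hS' n₀ n₁ h)
    ((F.shift n₀).map φ.hom₂) ((F.shift n₀).map φ.hom₃) ((F.shift n₁).map φ.hom₁)
    ((F.shift n₁).map φ.hom₂)
    (by rw [← Functor.map_comp, ← Functor.map_comp, φ.comm₂])
    (F.homologySequenceδ_naturality S S' φ n₀ n₁ h).symm
    (by rw [← Functor.map_comp, ← Functor.map_comp, φ.comm₁]) h₂ h₁ h₂'

/-- monomorphism on the third vertex -/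
lemma mono_hom₃ {S S' : Triangle T} (φ : S ⟶ S') (hS : S ∈ distTriang T) (hS' : S' ∈ distTriang T)
    (n₀ n₁ : ℤ) (h : n₀ + 1 = n₁) (h₁ : Epi ((F.shift n₀).map φ.hom₁))
    (h₂ : Mono ((F.shift n₀).map φ.hom₂)) (h₁' : Mono ((F.shift n₁).map φ.hom₁)) :
    Mono ((F.shift n₀).map φ.hom₃) :=
  four_mono (f₁ := (F.shift n₀).map S.mor₁)
    (w₁₂ := F.homologySequence_comp S hS n₀)
    (F.homologySequence_exact₃ S hS n₀ n₁ h) (F.homologySequence_exact₂ S' hS' n₀)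
    ((F.shift n₀).map φ.hom₁) ((F.shift n₀).map φ.hom₂) ((F.shift n₀).map φ.hom₃)
    ((F.shift n₁).map φ.hom₁)
    (by rw [← Functor.map_comp, ← Functor.map_comp, φ.comm₁])
    (by rw [← Functor.map_comp, ← Functor.map_comp, φ.comm₂])
    (F.homologySequenceδ_naturality S S' φ n₀ n₁ h).symm h₁ h₂ h₁'

end Groth.Agent.Cohder.FourLemma
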