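import Groth.Agent.Cohder.FastInst
import Groth.Agent.Cohder.ExtTransfer

/-!
The comparison of cohomology along the universe lift, as a `Tr`.
-/

set_option autoImplicit false
universe u

open CategoryTheory CategoryTheory.Limits CategoryTheory.Abelian

namespace Groth.Agent.Cohder.ULTransfer

open ZarUlift ExtTransfer

variable {C : Type u} [SmallCategory C] (J : GrothendieckTopology C)

open scoped Groth.Agent.Cohder.FastInst

/-- The universe lift comparison on Ext groups. -/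
noncomputable def ulTr {A₀ : Sheaf J AddCommGrpCat.{u}} {A : Sheaf J AddCommGrpCat.{u + 1}}
    (c : A ⟶ (UL J).obj A₀) [IsIso c] (F : Sheaf J AddCommGrpCat.{u}) (n : ℕ) :
    Tr.{u, u + 1} A₀ F A ((UL J).obj F) n (fun e₀ e₁ => e₁ = (UL J).map e₀) where
  map := ulExt c F n
  bij := ulExt_bijective c F n
  nat := by
    rintro e₀ e₁ rfl x
    exact ulExt_naturality c e₀ n x

/-- The universe lift comparison in sheaf cohomology. -/
noncomputable def hTr (F : Sheaf J AddCommGrpCat.{u}) (n : ℕ) :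
    Tr.{u, u + 1} ((constantSheaf J AddCommGrpCat.{u}).obj (AddCommGrpCat.of (ULift.{u} ℤ))) F
      ((constantSheaf J AddCommGrpCat.{u + 1}).obj (AddCommGrpCat.of (ULift.{u + 1} ℤ)))
      ((UL J).obj F) n (fun e₀ e₁ => e₁ = (UL J).map e₀) :=
  ulTr J (constHom J ℤ) F n

universe v₂ u₂

/-- The comparison `H^n(J, F) → Ext^n(P₂, O₂)` obtained from the universe lift, an isomorphism
`UL F ≅ G` and a comparison `H^n(J, G) → Ext^n(P₂, O₂)`. -/
noncomputable def totTr {A₂ : Type u₂} [Category.{v₂} A₂] [Abelian A₂] [HasExt.{u + 1} A₂]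
    (F : Sheaf J AddCommGrpCat.{u}) (G : Sheaf J AddCommGrpCat.{u + 1}) (i : (UL J).obj F ≅ G)
    (P₂ O₂ : A₂) (n : ℕ) (S : (G ⟶ G) → (O₂ ⟶ O₂) → Prop)
    (t : Tr.{u + 1, u + 1}
      ((constantSheaf J AddCommGrpCat.{u + 1}).obj (AddCommGrpCat.of (ULift.{u + 1} ℤ))) G
      P₂ O₂ n S) :
    Tr.{u, u + 1} ((constantSheaf J AddCommGrpCat.{u}).obj (AddCommGrpCat.of (ULift.{u} ℤ))) F
      P₂ O₂ n (fun e₀ e₂ => ∃ e₁ : G ⟶ G, (UL J).map e₀ ≫ i.hom = i.hom ≫ e₁ ∧ S e₁ e₂) where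
  map := (((hTr J F n).comp (Tr.ofIso i n)).comp t).map
  bij := (((hTr J F n).comp (Tr.ofIso i n)).comp t).bij
  nat := by
    rintro e₀ e₂ ⟨e₁, h₁, h₂⟩ x
    exact (((hTr J F n).comp (Tr.ofIso i n)).comp t).nat e₀ e₂ ⟨e₁, ⟨_, rfl, h₁⟩, h₂⟩ x

theorem finite_of_tr {A₂ : Type u₂} [Category.{v₂} A₂] [Abelian A₂] [HasExt.{u + 1} A₂]
    (F : Sheaf J AddCommGrpCat.{u}) (G : Sheaf J AddCommGrpCat.{u + 1}) (i : (UL J).obj F ≅ G)
    (P₂ O₂ : A₂) (n : ℕ) (S : (G ⟶ G) → (O₂ ⟶ O₂) → Prop)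
    (t : Tr.{u + 1, u + 1}
      ((constantSheaf J AddCommGrpCat.{u + 1}).obj (AddCommGrpCat.of (ULift.{u + 1} ℤ))) G
      P₂ O₂ n S)
    {k : Type u} [CommRing k] (ρ₀ : ExtSemi.Action k F) (ρ₂ : ExtSemi.Action k O₂)
    (h : ∀ a, ∃ e₁ : G ⟶ G, (UL J).map (ρ₀.act a) ≫ i.hom = i.hom ≫ e₁ ∧ S e₁ (ρ₂.act a))
    [inst : Module k (Sheaf.H F n)]
    (hinst : ∀ (a : k) (x : Sheaf.H F n), a • x = Sheaf.H.map (ρ₀.act a) n x)
    (hfd : Module.Finite k (Sheaf.H F n)) :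
    letI := ρ₂.module P₂ n; Module.Finite k (Ext.{u + 1} P₂ O₂ n) := by
  refine (totTr J F G i P₂ O₂ n S t).finite ρ₀ ρ₂ h ?_
  have : inst = ρ₀.module _ n := by
    refine Module.ext' _ _ fun a x => ?_
    exact hinst a x
  rw [this] at hfd
  exact hfd

theorem subsingleton_of_tr {A₂ : Type u₂} [Category.{v₂} A₂] [Abelian A₂] [HasExt.{u + 1} A₂]
    (F : Sheaf J AddCommGrpCat.{u}) (G : Sheaf J AddCommGrpCat.{u + 1}) (i : (UL J).obj F ≅ G)
    (P₂ O₂ : A₂) (n : ℕ) (S : (G ⟶ G) → (O₂ ⟶ O₂) → Prop)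
    (t : Tr.{u + 1, u + 1}
      ((constantSheaf J AddCommGrpCat.{u + 1}).obj (AddCommGrpCat.of (ULift.{u + 1} ℤ))) G
      P₂ O₂ n S) (h : Subsingleton (Sheaf.H F n)) : Subsingleton (Ext.{u + 1} P₂ O₂ n) :=
  (totTr J F G i P₂ O₂ n S t).subsingleton h

end Groth.Agent.Cohder.ULTransfer
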