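import Groth.Agent.Cohder.GaZar
import Groth.Agent.Cohder.ASFinite
import Groth.Agent.Cohder.ULTransfer

/-!
Finite-dimensionality and vanishing of étale cohomology of `Ga` from the coherent cohomology of
the structure sheaf and the comparison between Zariski and étale cohomology of `Ga`.
-/

set_option autoImplicit false
universe u

open CategoryTheory CategoryTheory.Limits AlgebraicGeometry Opposite TopologicalSpace
open CategoryTheory.Abelian

namespace Groth.Agent.Cohder.GaFin

open ZarUlift GaScalar GaZar ExtTransfer ULTransfer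
open scoped Groth.Agent.Cohder.FastInst

/-- The comparison between Zariski and étale cohomology of `Ga` used below. -/
abbrev ZarEtCmp (X : Scheme.{u}) [EtZar.ZarCont X] (n : ℕ) :=
  Tr.{u + 1, u + 1}
    (A₀ := Sheaf (Opens.grothendieckTopology X) AddCommGrpCat.{u + 1})
    (A₂ := Sheaf X.smallEtaleTopology AddCommGrpCat.{u + 1})
    ((constantSheaf (Opens.grothendieckTopology X) AddCommGrpCat.{u + 1}).obj
      (AddCommGrpCat.of (ULift.{u + 1} ℤ)))
    ((EtZar.resZar X).obj (EtCoh.Ga X))
    ((constantSheaf X.smallEtaleTopology AddCommGrpCat.{u + 1}).obj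
      (AddCommGrpCat.of (ULift.{u + 1} ℤ))) (EtCoh.Ga X) n
    (fun e₁ e₂ => e₁ = (EtZar.resZar X).map e₂)

/-- The action of the ground ring on the structure sheaf. -/
noncomputable def zarAction {X : Scheme.{u}} {k : Type u} [CommRing k]
    (f : X ⟶ Spec (CommRingCat.of k)) :
    ExtSemi.Action (C := Sheaf (Opens.grothendieckTopology X) AddCommGrpCat.{u}) k (OX X) where
  act c := Coh.smulAb (Coh.structureModule X) (Coh.toGlobal f c)
  act_one := by rw [map_one, Coh.smulAb_one]
  act_mul a b := by rw [map_mul, Coh.smulAb_mul]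
  act_add a b := by rw [map_add, Coh.smulAb_add]

/-- The action of the ground ring on `Ga`. -/
noncomputable def etAction {X : Scheme.{u}} {k : Type u} [CommRing k]
    (f : X ⟶ Spec (CommRingCat.of k)) :
    ExtSemi.Action (C := Sheaf X.smallEtaleTopology AddCommGrpCat.{u + 1}) k (EtCoh.Ga X) where
  act c := smulGa X (str f c)
  act_one := by rw [map_one, smulGa_one]
  act_mul a b := by rw [map_mul, smulGa_mul]
  act_add a b := by rw [map_add, smulGa_add]

/-- the constant étale sheaf `ℤ` -/
noncomputable abbrev Z2 (X : Scheme.{u}) : Sheaf X.smallEtaleTopology AddCommGrpCat.{u + 1} :=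
  (constantSheaf X.smallEtaleTopology AddCommGrpCat.{u + 1}).obj
    (AddCommGrpCat.of (ULift.{u + 1} ℤ))

variable {X : Scheme.{u}} [EtZar.ZarCont X]

/-- Finite-dimensionality of étale cohomology of `Ga`. -/
theorem finite_ga {k : Type u} [CommRing k] [X.Over (Spec (CommRingCat.of k))]
    (n : ℕ) (t : ZarEtCmp X n) (hfd : Module.Finite k (Coh.HH X (Coh.structureModule X) n)) :
    letI := (etAction (X ↘ Spec (CommRingCat.of k))).module (Z2 X) n
    Module.Finite k (Ext.{u + 1} (Z2 X) (EtCoh.Ga X) n) := by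
  have h := finite_of_tr (Opens.grothendieckTopology X) (OX X)
    ((EtZar.resZar X).obj (EtCoh.Ga X)) (gaIso X) (Z2 X) (EtCoh.Ga X) n _ t
    (zarAction (X ↘ Spec (CommRingCat.of k))) (etAction (X ↘ Spec (CommRingCat.of k)))
    (fun a => ⟨_, gaIso_smul X _, rfl⟩) (inst := Coh.moduleOver k X (Coh.structureModule X) n)
    (fun a x => rfl) hfd
  exact h

/-- Vanishing of étale cohomology of `Ga`. -/
theorem subsingleton_ga (n : ℕ) (t : ZarEtCmp X n)
    (h : Subsingleton (Coh.HH X (Coh.structureModule X) n)) :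
    Subsingleton (Ext.{u + 1} (Z2 X) (EtCoh.Ga X) n) :=
  subsingleton_of_tr (Opens.grothendieckTopology X) (OX X)
    ((EtZar.resZar X).obj (EtCoh.Ga X)) (gaIso X) (Z2 X) (EtCoh.Ga X) n _ t h

/-- Finiteness of étale cohomology of `ℤ/p`. -/
theorem finite_const {k : Type u} [Field k] [IsSepClosed k] (p : ℕ) [Fact p.Prime] [CharP k p]
    (f : X ⟶ Spec (CommRingCat.of k)) (t : ∀ n, ZarEtCmp X n)
    (hfd : ∀ n, letI : X.Over (Spec (CommRingCat.of k)) := ⟨f⟩
      Module.Finite k (Coh.HH X (Coh.structureModule X) n)) (n : ℕ) :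
    Finite (EtCoh.H X (EtCoh.const X (ZMod p)) n) := by
  let _ : X.Over (Spec (CommRingCat.of k)) := ⟨f⟩
  exact ASFinite.finite_ext_const p f (Z2 X) (fun m => finite_ga m (t m) (hfd m)) n

/-- Vanishing of étale cohomology of `ℤ/p`. -/
theorem subsingleton_const {k : Type u} [Field k] [IsSepClosed k] (p : ℕ) [Fact p.Prime]
    [CharP k p] (f : X ⟶ Spec (CommRingCat.of k)) (t : ∀ n, ZarEtCmp X n) (d : ℕ)
    (hfd : letI : X.Over (Spec (CommRingCat.of k)) := ⟨f⟩
      Module.Finite k (Coh.HH X (Coh.structureModule X) d))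
    (hv : ∀ n, d < n → Subsingleton (Coh.HH X (Coh.structureModule X) n))
    (n : ℕ) (hn : d ≤ n) :
    Subsingleton (EtCoh.H X (EtCoh.const X (ZMod p)) (n + 1)) := by
  let _ : X.Over (Spec (CommRingCat.of k)) := ⟨f⟩
  refine ASFinite.subsingleton_ext_const p (ASFinite.cast_eq_zero p f) (Z2 X) n ?_
    (subsingleton_ga (n + 1) (t (n + 1)) (hv (n + 1) (by omega)))
  rcases Nat.eq_or_lt_of_le hn with h | h
  · subst h
    exact ASFinite.surjective_post p f (Z2 X) d (finite_ga d (t d) hfd)
  · have := subsingleton_ga n (t n) (hv n h)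
    exact fun x => ⟨0, Subsingleton.elim _ _⟩

end Groth.Agent.Cohder.GaFin
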