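import Mathlib.FieldTheory.Finite.Basic
import Mathlib.FieldTheory.PrimitiveElement
import Mathlib.FieldTheory.IsAlgClosed.Basic
import Mathlib.FieldTheory.Perfect
import Mathlib.Tactic

/-!
# Frobenius orbits of embeddings of finite fields
-/

set_option autoImplicit false

namespace Groth.Agent.Cohder.HWFrob

variable (k κ Ω : Type*) [Field k] [Field κ] [Field Ω] [Algebra k κ] [Algebra k Ω] [Finite k]
  [FiniteDimensional k κ] [IsAlgClosed Ω]

omit [IsAlgClosed Ω] in
theorem frob_injective (φ : κ →ₐ[k] Ω) : Function.Injective fun j : Fin (Module.finrank k κ) =>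
    fun x : κ => φ x ^ (Nat.card k ^ j.1) := by
  let _ := Fintype.ofFinite k
  have : Finite κ := Module.finite_of_finite k
  intro i j hij
  apply (FiniteField.bijective_frobeniusAlgEquivOfAlgebraic_pow k κ).1
  ext x
  apply φ.injective
  have h1 := congrFun hij x
  simp only at h1
  simp only [AlgEquiv.coe_pow, FiniteField.coe_frobeniusAlgEquivOfAlgebraic_iterate, map_pow]
  rw [← Nat.card_eq_fintype_card]
  exact h1

/-- Frobenius is transitive on embeddings. -/
theorem exists_pow_eq (φ ψ : κ →ₐ[k] Ω) : ∃ j : ℕ, ∀ x, ψ x = φ x ^ (Nat.card k ^ j) := by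
  let _ := Fintype.ofFinite k
  have : Finite κ := Module.finite_of_finite k
  let f : Fin (Module.finrank k κ) → (κ →ₐ[k] Ω) := fun j =>
    φ.comp (FiniteField.frobeniusAlgEquivOfAlgebraic k κ ^ j.1 : κ ≃ₐ[k] κ).toAlgHom
  have hf : ∀ j x, f j x = φ x ^ (Nat.card k ^ j.1) := by
    intro j x
    change φ ((FiniteField.frobeniusAlgEquivOfAlgebraic k κ ^ j.1) x) = _
    simp only [AlgEquiv.coe_pow, FiniteField.coe_frobeniusAlgEquivOfAlgebraic_iterate, map_pow]
    rw [← Nat.card_eq_fintype_card]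
  have hinj : Function.Injective f := by
    intro i j hij
    apply frob_injective k κ Ω φ
    funext x
    simp only
    rw [← hf, ← hf, hij]
  have hcard : Fintype.card (Fin (Module.finrank k κ)) = Fintype.card (κ →ₐ[k] Ω) := by
    rw [Fintype.card_fin, AlgHom.card]
  obtain ⟨j, hj⟩ := ((Fintype.bijective_iff_injective_and_card f).2 ⟨hinj, hcard⟩).2 ψ
  exact ⟨j.1, fun x => by rw [← hj, hf]⟩

omit [IsAlgClosed Ω] in
theorem pow_eq_iff (φ : κ →ₐ[k] Ω) (n : ℕ) :
    (∀ x, φ x ^ (Nat.card k ^ n) = φ x) ↔ Module.finrank k κ ∣ n := by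
  let _ := Fintype.ofFinite k
  have : Finite κ := Module.finite_of_finite k
  rw [← FiniteField.orderOf_frobeniusAlgEquivOfAlgebraic k κ, orderOf_dvd_iff_pow_eq_one]
  constructor
  · intro h
    ext x
    apply φ.injective
    simp only [AlgEquiv.coe_pow, FiniteField.coe_frobeniusAlgEquivOfAlgebraic_iterate, map_pow]
    rw [← Nat.card_eq_fintype_card]
    exact h x
  · intro h x
    have h1 := congrArg φ (DFunLike.congr_fun h x)
    simp only [AlgEquiv.coe_pow, FiniteField.coe_frobeniusAlgEquivOfAlgebraic_iterate,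
      map_pow] at h1
    rw [← Nat.card_eq_fintype_card] at h1
    exact h1

/-- The number of embeddings fixed by the `n`-th power of Frobenius. -/
theorem card_fixed (n : ℕ) :
    Nat.card {φ : κ →ₐ[k] Ω // ∀ x, φ x ^ (Nat.card k ^ n) = φ x} =
      if Module.finrank k κ ∣ n then Module.finrank k κ else 0 := by
  have : Finite κ := Module.finite_of_finite k
  split_ifs with h
  · have h1 : ∀ φ : κ →ₐ[k] Ω, (∀ x, φ x ^ (Nat.card k ^ n) = φ x) ↔ True := fun φ => by
      rw [pow_eq_iff, iff_true]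
      exact h
    rw [Nat.card_congr ((Equiv.subtypeEquivRight h1).trans (Equiv.subtypeUnivEquiv fun _ => trivial)),
      Nat.card_eq_fintype_card, AlgHom.card]
  · have h1 : IsEmpty {φ : κ →ₐ[k] Ω // ∀ x, φ x ^ (Nat.card k ^ n) = φ x} :=
      ⟨fun φ => h ((pow_eq_iff k κ Ω φ.1 n).1 φ.2)⟩
    exact Nat.card_of_isEmpty

end Groth.Agent.Cohder.HWFrob
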