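import Groth.Agent.Cohder.HWKbar
import Groth.Agent.Cohder.HWFrob
import Groth.Agent.MiscA.ZetaAbsCount

/-!
# Places of a constant field extension

`F / k` a function field over a finite field, `L = F E` with `E` an algebraic closure of `k`.
-/

set_option autoImplicit false

namespace Groth.Agent.Cohder.HWCover

open Groth.Agent.MiscA.WCPlace Groth.Agent.MiscA.WCPlaceGal Groth.Agent.MiscA.WCPlaceCrv
  Groth.Agent.MiscA.WCPlaceRes HWTrick HWLine WithZero Polynomial

universe u v w z

variable {k : Type u} {F : Type v} {E : Type w} {L : Type z} [Field k] [Field F] [Field E]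
  [Field L] [Algebra k F] [Algebra k E] [Algebra F L] [Algebra E L] [Algebra k L]
  [IsScalarTower k F L] [IsScalarTower k E L]

/-- Restriction of places. -/
def rest (k : Type u) (F : Type v) [Field k] [Field F] [Algebra k F] [Algebra k E] [Algebra F L]
    [Algebra k L] [IsScalarTower k F L] [IsScalarTower k E L] [Algebra.IsAlgebraic F L]
    (P : Place E L) : Place k F :=
  ⟨P.1.comap (algebraMap F L), by
    intro htop
    apply P.2.1
    rw [eq_top_iff]
    intro x _
    refine mem_of_isIntegral (R := F) P.1 (fun r => ?_) (Algebra.IsIntegral.isIntegral x)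
    have : r ∈ P.1.comap (algebraMap F L) := by
      rw [htop]
      exact ValuationSubring.mem_top _
    exact this, by
    intro a
    rw [ValuationSubring.mem_comap, ← IsScalarTower.algebraMap_apply,
      IsScalarTower.algebraMap_apply k E L]
    exact P.2.2 _⟩

theorem mem_rest [Algebra.IsAlgebraic F L] (P : Place E L) (x : F) :
    x ∈ (rest k F P).1 ↔ algebraMap F L x ∈ P.1 := Iff.rfl

/-- `ψ` is the residue embedding of the place `P`. -/
def Rel [Algebra.IsAlgebraic F L] (p : Place k F) (ψ : IsLocalRing.ResidueField p.1 →ₐ[k] E)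
    (P : Place E L) : Prop :=
  rest k F P = p ∧ ∀ x : p.1,
    P.val (algebraMap F L x - algebraMap E L (ψ (IsLocalRing.residue p.1 x))) < 1

theorem eq_of_val_lt {t : L} (h : IsSep E L t) (P : Place E L) {a b : E} {x : L}
    (ha : P.val (x - algebraMap E L a) < 1) (hb : P.val (x - algebraMap E L b) < 1) : a = b := by
  by_contra hab
  have h1 := P.val.map_sub_lt hb ha
  rw [sub_sub_sub_cancel_left, ← map_sub, val_algebraMap h P (sub_ne_zero.2 hab)] at h1
  exact lt_irrefl _ h1

section exists_psi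

variable [Algebra.IsAlgebraic F L] [IsAlgClosed E]

/-- The residue embedding exists. -/
theorem exists_psi {tF : F} (hF : IsSep k F tF) {t : L} (h : IsSep E L t) (P : Place E L)
    (p : Place k F) (hp : rest k F P = p) : ∃ ψ : IsLocalRing.ResidueField p.1 →ₐ[k] E, Rel p ψ P := by
  have hfin := finite_residueField ⟨t, h⟩ P
  have hbij : Function.Bijective (algebraMap E (IsLocalRing.ResidueField P.1)) :=
    IsAlgClosed.algebraMap_bijective_of_isIntegral
  let ev : P.1 →+* E := ((RingEquiv.ofBijective (algebraMap E (IsLocalRing.ResidueField P.1))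
    hbij).symm : IsLocalRing.ResidueField P.1 →+* E).comp (IsLocalRing.residue P.1)
  have hev : ∀ x : P.1, P.val ((x : L) - algebraMap E L (ev x)) < 1 := by
    intro x
    have h1 : x - algebraMap E P.1 (ev x) ∈ IsLocalRing.maximalIdeal P.1 := by
      rw [← IsLocalRing.residue_eq_zero_iff, map_sub, sub_eq_zero]
      exact ((RingEquiv.ofBijective (algebraMap E (IsLocalRing.ResidueField P.1))
        hbij).apply_symm_apply (IsLocalRing.residue P.1 x)).symm
    exact (mem_maximalIdeal_iff h P _).1 h1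
  have hmem : ∀ x : p.1, algebraMap F L x ∈ P.1 := by
    intro x
    rw [← mem_rest (k := k), hp]
    exact x.2
  let f : p.1 →+* P.1 := ((algebraMap F L).comp p.1.subtype).codRestrict P.1 hmem
  have hloc : IsLocalHom (ev.comp f) := by
    constructor
    intro x hx
    by_contra hxu
    have h1 : x ∈ IsLocalRing.maximalIdeal p.1 := (IsLocalRing.mem_maximalIdeal _).2 hxu
    have h2 : P.val (algebraMap F L x) < 1 := by
      by_cases hx0 : (x : F) = 0
      · rw [hx0, map_zero, map_zero]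
        exact zero_lt_one
      · rw [val_lt_one_iff h P (by simpa using hx0), ← map_inv₀, ← mem_rest (k := k), hp,
          ← val_lt_one_iff hF p hx0]
        exact (mem_maximalIdeal_iff hF p x).1 h1
    have h3 := eq_of_val_lt h P (x := algebraMap F L x) (a := 0) (b := ev (f x))
      (by rw [map_zero, sub_zero]; exact h2) (hev (f x))
    rw [RingHom.comp_apply, ← h3] at hx
    exact not_isUnit_zero hx
  let ψ₀ : IsLocalRing.ResidueField p.1 →+* E := IsLocalRing.ResidueField.lift (ev.comp f)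
  have hψ₀ : ∀ x : p.1, ψ₀ (IsLocalRing.residue p.1 x) = ev (f x) := fun x => rfl
  have hψ₁ : ∀ x : p.1,
      P.val (algebraMap F L x - algebraMap E L (ψ₀ (IsLocalRing.residue p.1 x))) < 1 := by
    intro x
    rw [hψ₀]
    exact hev (f x)
  refine ⟨{ toRingHom := ψ₀, commutes' := ?_ }, hp, hψ₁⟩
  intro a
  refine eq_of_val_lt h P (x := algebraMap F L (algebraMap k F a)) (hψ₁ (algebraMap k p.1 a)) ?_
  rw [← IsScalarTower.algebraMap_apply, IsScalarTower.algebraMap_apply k E L, sub_self, map_zero]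
  exact zero_lt_one

end exists_psi

section unique_place

theorem le_exp_of_lt_one {x : ℤᵐ⁰} (hx : x < 1) : x ≤ exp (-1 : ℤ) := by
  by_cases h0 : x = 0
  · simp [h0]
  · rw [← exp_log h0, ← exp_zero, exp_lt_exp] at hx
    rw [← exp_log h0, exp_le_exp]
    omega

variable [Algebra.IsAlgebraic F L]

/-- the subring generated by the constants and a place below -/
def RR (E : Type w) (L : Type z) [Field E] [Field L] [Algebra F L] [Algebra E L] (p : Place k F) :
    Subalgebra E L := Algebra.adjoin E (algebraMap F L '' {x | x ∈ p.1})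

omit [Algebra k E] [Algebra k L] [IsScalarTower k F L] [IsScalarTower k E L]
  [Algebra.IsAlgebraic F L] in
theorem mem_RR {p : Place k F} (x : p.1) : algebraMap F L x ∈ RR E L p :=
  Algebra.subset_adjoin ⟨x, x.2, rfl⟩

theorem RR_le {p : Place k F} {P : Place E L} (hp : rest k F P = p) {r : L} (hr : r ∈ RR E L p) :
    r ∈ P.1 := by
  have : RR E L p ≤ (⟨P.1.toSubring.toSubsemiring, P.2.2⟩ : Subalgebra E L) := by
    refine Algebra.adjoin_le ?_
    rintro _ ⟨x, hx, rfl⟩
    have hx' : x ∈ p.1 := hx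
    rw [← hp] at hx'
    exact hx'
  exact this hr

theorem eval_sub {t : L} (h : IsSep E L t) (P : Place E L) {x : L} {a : E} (hx : x ∈ P.1)
    (ha : P.val (x - algebraMap E L a) < 1) (g : E[X]) :
    P.val (aeval x g - algebraMap E L (g.eval a)) < 1 := by
  obtain ⟨q, hq⟩ : (X - C a) ∣ g - C (g.eval a) := X_sub_C_dvd_sub_C_eval
  have h1 : aeval x g - algebraMap E L (g.eval a) = (x - algebraMap E L a) * aeval x q := by
    have := congrArg (aeval x) hq
    simpa using this
  rw [h1, map_mul]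
  refine mul_lt_one_of_lt_of_le ha ?_
  rw [h.val_le_one_iff]
  exact adjoin_le_of_mem P hx ⟨_, aeval_mem_adjoin_singleton E x⟩

omit [Algebra.IsAlgebraic F L] in
/-- every element of `RR` is a polynomial in a lift of a primitive element, modulo a uniformizer. -/
theorem exists_eq_aeval_add {p : Place k F} {tF : F} (hF : IsSep k F tF) (b : p.1)
    (hb : ∀ y : IsLocalRing.ResidueField p.1, ∃ g : k[X], aeval (IsLocalRing.residue p.1 b) g = y)
    {π : F} (hπ : p.val π = exp (-1 : ℤ)) {r : L} (hr : r ∈ RR E L p) :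
    ∃ h : E[X], ∃ r' ∈ RR E L p, r = aeval (algebraMap F L b) h + algebraMap F L π * r' := by
  have hπ1 : π ∈ p.1 := by
    rw [← hF.val_le_one_iff, hπ, ← exp_zero, exp_le_exp]
    omega
  have hπR : algebraMap F L π ∈ RR E L p := mem_RR (⟨π, hπ1⟩ : p.1)
  have hbR : ∀ g : E[X], aeval (algebraMap F L b) g ∈ RR E L p := fun g =>
    (Algebra.adjoin_le (Set.singleton_subset_iff.2 (mem_RR b)) :
      Algebra.adjoin E {algebraMap F L (b : F)} ≤ RR E L p)
      (aeval_mem_adjoin_singleton E (algebraMap F L (b : F)))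
  induction hr using Algebra.adjoin_induction with
  | mem x hx =>
    obtain ⟨x, hx, rfl⟩ := hx
    obtain ⟨g, hg⟩ := hb (IsLocalRing.residue p.1 ⟨x, hx⟩)
    have h1 : (⟨x, hx⟩ : p.1) - aeval b g ∈ IsLocalRing.maximalIdeal p.1 := by
      rw [← IsLocalRing.residue_eq_zero_iff, map_sub, ← hg, sub_eq_zero,
        ← IsLocalRing.ResidueField.algebraMap_eq, aeval_algebraMap_apply]
    rw [mem_maximalIdeal_iff hF] at h1
    have h2 := le_exp_of_lt_one h1
    have hπ0 : π ≠ 0 := by
      rintro rfl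
      rw [map_zero] at hπ
      exact absurd hπ.symm exp_ne_zero
    have h3 : (((⟨x, hx⟩ : p.1) - aeval b g : p.1) : F) / π ∈ p.1 := by
      rw [← hF.val_le_one_iff, map_div₀, hπ]
      exact div_le_one_of_le₀ h2 zero_le
    refine ⟨g.map (algebraMap k E), algebraMap F L ((((⟨x, hx⟩ : p.1) - aeval b g : p.1) : F) / π),
      mem_RR (⟨_, h3⟩ : p.1), ?_⟩
    rw [aeval_map_algebraMap, aeval_algebraMap_apply, ← map_mul, mul_div_cancel₀ _ hπ0, ← map_add]
    congr 1
    have h4 : aeval (b : F) g = ((aeval b g : p.1) : F) := aeval_algebraMap_apply F b g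
    rw [h4]
    simp
  | algebraMap a =>
    refine ⟨C a, 0, zero_mem _, ?_⟩
    rw [aeval_C, mul_zero, add_zero]
  | add x y hx hy ihx ihy =>
    obtain ⟨h1, r1, hr1, e1⟩ := ihx
    obtain ⟨h2, r2, hr2, e2⟩ := ihy
    refine ⟨h1 + h2, r1 + r2, add_mem hr1 hr2, ?_⟩
    rw [map_add]
    conv_lhs => rw [e1, e2]
    ring
  | mul x y hx hy ihx ihy =>
    obtain ⟨h1, r1, hr1, e1⟩ := ihx
    obtain ⟨h2, r2, hr2, e2⟩ := ihy
    refine ⟨h1 * h2, aeval (algebraMap F L b) h1 * r2 + aeval (algebraMap F L b) h2 * r1 +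
      algebraMap F L π * (r1 * r2), ?_, ?_⟩
    · exact add_mem (add_mem (mul_mem (hbR _) hr2) (mul_mem (hbR _) hr1))
        (mul_mem hπR (mul_mem hr1 hr2))
    · rw [map_mul]
      conv_lhs => rw [e1, e2]
      ring

/-- data shared by the places with the same residue embedding -/
theorem exists_s {p : Place k F} {tF : F} (hF : IsSep k F tF) [PerfectField k]
    [Module.Finite k (IsLocalRing.ResidueField p.1)] {t : L} (h : IsSep E L t)
    (ψ : IsLocalRing.ResidueField p.1 →ₐ[k] E) {π : F} (hπ : p.val π = exp (-1 : ℤ)) :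
    ∃ s ∈ RR E L p, ∃ D : Set L, (∀ P : Place E L, Rel p ψ P → P.val s = 1) ∧
      (∀ P : Place E L, Rel p ψ P → ∀ r ∈ RR E L p, (P.val r < 1 ↔ r ∈ D)) ∧
      ∀ r ∈ RR E L p, r ∈ D → ∃ r' ∈ RR E L p, s * r = algebraMap F L π * r' := by
  obtain ⟨β, hβ⟩ := Field.exists_primitive_element k (IsLocalRing.ResidueField p.1)
  obtain ⟨b, rfl⟩ := IsLocalRing.residue_surjective β
  set β := IsLocalRing.residue p.1 b with hβdef
  have hβint : IsIntegral k β := Algebra.IsIntegral.isIntegral β
  have hb : ∀ y : IsLocalRing.ResidueField p.1, ∃ g : k[X], aeval β g = y := by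
    intro y
    have h1 : y ∈ IntermediateField.adjoin k {β} := by
      rw [hβ]
      exact IntermediateField.mem_top
    rw [← IntermediateField.mem_toSubalgebra,
      IntermediateField.adjoin_simple_toSubalgebra_of_isAlgebraic hβint.isAlgebraic,
      Algebra.adjoin_singleton_eq_range_aeval] at h1
    exact h1
  have hsepβ : (minpoly k β).Separable :=
    PerfectField.separable_of_irreducible (minpoly.irreducible hβint)
  have hroot : ((minpoly k β).map (algebraMap k E)).IsRoot (ψ β) := by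
    rw [IsRoot.def, eval_map_algebraMap, aeval_algHom_apply, minpoly.aeval, map_zero]
  obtain ⟨g₁, hg₁⟩ := dvd_iff_isRoot.2 hroot
  have hg₁0 : g₁.eval (ψ β) ≠ 0 := by
    intro h0
    refine (hsepβ.map (f := algebraMap k E)).eval₂_derivative_ne_zero (RingHom.id E) (x := ψ β) ?_ ?_
    · rw [eval₂_id]
      exact hroot
    · rw [eval₂_id, hg₁]
      simp [h0]
  have hbL : ∀ g : E[X], aeval (algebraMap F L b) g ∈ RR E L p := fun g =>
    (Algebra.adjoin_le (Set.singleton_subset_iff.2 (mem_RR b)) :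
      Algebra.adjoin E {algebraMap F L (b : F)} ≤ RR E L p)
      (aeval_mem_adjoin_singleton E (algebraMap F L (b : F)))
  have hπ1 : π ∈ p.1 := by
    rw [← hF.val_le_one_iff, hπ, ← exp_zero, exp_le_exp]
    omega
  have hπ0 : π ≠ 0 := by
    rintro rfl
    rw [map_zero] at hπ
    exact absurd hπ.symm exp_ne_zero
  have hπP : ∀ P : Place E L, Rel p ψ P → P.val (algebraMap F L π) < 1 := by
    intro P hP
    have h1 := hP.2 ⟨π, hπ1⟩
    have h2 : IsLocalRing.residue p.1 ⟨π, hπ1⟩ = 0 := by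
      rw [IsLocalRing.residue_eq_zero_iff, mem_maximalIdeal_iff hF]
      change p.val π < 1
      rw [hπ, ← exp_zero, exp_lt_exp]
      omega
    rwa [h2, map_zero, map_zero, sub_zero] at h1
  have hR1 : ∀ P : Place E L, Rel p ψ P → ∀ r ∈ RR E L p, P.val r ≤ 1 := fun P hP r hr =>
    (h.val_le_one_iff P r).2 (RR_le hP.1 hr)
  -- evaluation at the lift
  have hev : ∀ P : Place E L, Rel p ψ P → ∀ g : E[X],
      P.val (aeval (algebraMap F L b) g - algebraMap E L (g.eval (ψ β))) < 1 := fun P hP g =>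
    eval_sub h P (RR_le hP.1 (mem_RR b)) (hP.2 b) g
  have hev0 : ∀ P : Place E L, Rel p ψ P → ∀ g : E[X],
      (P.val (aeval (algebraMap F L b) g) < 1 ↔ g.eval (ψ β) = 0) := by
    intro P hP g
    constructor
    · intro h1
      by_contra h2
      have h3 := P.val.map_sub_lt h1 (hev P hP g)
      rw [sub_sub_cancel, val_algebraMap h P h2] at h3
      exact lt_irrefl _ h3
    · intro h1
      have := hev P hP g
      rwa [h1, map_zero, sub_zero] at this
  refine ⟨aeval (algebraMap F L b) g₁, hbL g₁,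
    {r | ∃ g : E[X], ∃ r' ∈ RR E L p, r = aeval (algebraMap F L b) g + algebraMap F L π * r' ∧
      g.eval (ψ β) = 0}, ?_, ?_, ?_⟩
  · intro P hP
    apply le_antisymm (hR1 P hP _ (hbL g₁))
    rw [← not_lt, hev0 P hP]
    exact hg₁0
  · intro P hP r hr
    have hπr : ∀ r' ∈ RR E L p, P.val (algebraMap F L π * r') < 1 := by
      intro r' hr'
      rw [map_mul]
      exact mul_lt_one_of_lt_of_le (hπP P hP) (hR1 P hP r' hr')
    constructor
    · intro h1
      obtain ⟨g, r', hr', e⟩ := exists_eq_aeval_add hF b hb hπ hr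
      refine ⟨g, r', hr', e, ?_⟩
      rw [← hev0 P hP]
      have h2 := P.val.map_sub_lt h1 (hπr r' hr')
      rwa [e, add_sub_cancel_right] at h2
    · rintro ⟨g, r', hr', e, hg⟩
      rw [e]
      exact P.val.map_add_lt ((hev0 P hP g).2 hg) (hπr r' hr')
  · rintro r hr ⟨g, r', hr', e, hg⟩
    obtain ⟨g', hg'⟩ := dvd_iff_isRoot.2 (show g.IsRoot (ψ β) from hg)
    have h1 : aeval b (minpoly k β) ∈ IsLocalRing.maximalIdeal p.1 := by
      rw [← IsLocalRing.residue_eq_zero_iff, ← IsLocalRing.ResidueField.algebraMap_eq,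
        ← aeval_algebraMap_apply, IsLocalRing.ResidueField.algebraMap_eq]
      exact minpoly.aeval k β
    rw [mem_maximalIdeal_iff hF] at h1
    have h2 := le_exp_of_lt_one h1
    have h3 : ((aeval b (minpoly k β) : p.1) : F) / π ∈ p.1 := by
      rw [← hF.val_le_one_iff, map_div₀, hπ]
      exact div_le_one_of_le₀ h2 zero_le
    refine ⟨algebraMap F L (((aeval b (minpoly k β) : p.1) : F) / π) * aeval (algebraMap F L b) g' +
      aeval (algebraMap F L b) g₁ * r', add_mem (mul_mem (mem_RR ⟨_, h3⟩) (hbL g'))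
        (mul_mem (hbL g₁) hr'), ?_⟩
    have h4 : algebraMap F L π * algebraMap F L (((aeval b (minpoly k β) : p.1) : F) / π) =
        (algebraMap F L b - algebraMap E L (ψ β)) * aeval (algebraMap F L b) g₁ := by
      rw [← map_mul, mul_div_cancel₀ _ hπ0]
      have h5 : ((aeval b (minpoly k β) : p.1) : F) = aeval (b : F) (minpoly k β) :=
        (aeval_algebraMap_apply F b _).symm
      rw [h5, ← aeval_algebraMap_apply, ← aeval_map_algebraMap E, hg₁]
      simp
    rw [e, hg', map_mul, mul_add, mul_add, ← mul_assoc (algebraMap F L π), h4]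
    simp
    ring

omit [Algebra k E] [IsScalarTower k E L] [Algebra.IsAlgebraic F L] [Algebra k L]
  [IsScalarTower k F L] in
/-- every element of `L` is a fraction -/
theorem exists_pow_mul_mem {p : Place k F} {tF : F} (hF : IsSep k F tF)
    (hgen : Algebra.adjoin F (Set.range (algebraMap E L)) = ⊤) {π : F}
    (hπ : p.val π = exp (-1 : ℤ)) (y : L) : ∃ n : ℕ, algebraMap F L π ^ n * y ∈ RR E L p := by
  have hπ1 : π ∈ p.1 := by
    rw [← hF.val_le_one_iff, hπ, ← exp_zero, exp_le_exp]
    omega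
  have hπR : algebraMap F L π ∈ RR E L p := mem_RR (⟨π, hπ1⟩ : p.1)
  have hy : y ∈ Algebra.adjoin F (Set.range (algebraMap E L)) := by
    rw [hgen]
    exact Algebra.mem_top
  induction hy using Algebra.adjoin_induction with
  | mem x hx =>
    obtain ⟨a, rfl⟩ := hx
    exact ⟨0, by rw [pow_zero, one_mul]; exact algebraMap_mem _ _⟩
  | algebraMap z =>
    by_cases hz : z = 0
    · exact ⟨0, by rw [hz, map_zero, mul_zero]; exact zero_mem _⟩
    have hz0 : p.val z ≠ 0 := (Valuation.ne_zero_iff _).2 hz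
    refine ⟨(log (p.val z)).toNat, ?_⟩
    rw [← map_pow, ← map_mul]
    have h1 : π ^ (log (p.val z)).toNat * z ∈ p.1 := by
      rw [← hF.val_le_one_iff, map_mul, map_pow, hπ, ← exp_log hz0, ← exp_nsmul, ← exp_add,
        ← exp_zero, exp_le_exp]
      simp
    exact mem_RR (⟨_, h1⟩ : p.1)
  | add x y hx hy ihx ihy =>
    obtain ⟨n, hn⟩ := ihx
    obtain ⟨m, hm⟩ := ihy
    refine ⟨n + m, ?_⟩
    have : algebraMap F L π ^ (n + m) * (x + y) = algebraMap F L π ^ m * (algebraMap F L π ^ n * x) +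
        algebraMap F L π ^ n * (algebraMap F L π ^ m * y) := by ring
    rw [this]
    exact add_mem (mul_mem (pow_mem hπR _) hn) (mul_mem (pow_mem hπR _) hm)
  | mul x y hx hy ihx ihy =>
    obtain ⟨n, hn⟩ := ihx
    obtain ⟨m, hm⟩ := ihy
    refine ⟨n + m, ?_⟩
    have : algebraMap F L π ^ (n + m) * (x * y) = (algebraMap F L π ^ n * x) *
        (algebraMap F L π ^ m * y) := by ring
    rw [this]
    exact mul_mem hn hm

/-- A place is determined by its residue embedding. -/
theorem place_unique {p : Place k F} {tF : F} (hF : IsSep k F tF) [PerfectField k]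
    {t : L} (h : IsSep E L t) (hgen : Algebra.adjoin F (Set.range (algebraMap E L)) = ⊤)
    (ψ : IsLocalRing.ResidueField p.1 →ₐ[k] E) (P Q : Place E L) (hP : Rel p ψ P)
    (hQ : Rel p ψ Q) : P = Q := by
  have := finite_residueField ⟨tF, hF⟩ p
  obtain ⟨π, hπ⟩ := (hF.val_spec p).1
  obtain ⟨s, hs, D, hD1, hD2, hD3⟩ := exists_s hF h ψ hπ
  have hπ1 : π ∈ p.1 := by
    rw [← hF.val_le_one_iff, hπ, ← exp_zero, exp_le_exp]
    omega
  have hπ0 : π ≠ 0 := by
    rintro rfl
    rw [map_zero] at hπ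
    exact absurd hπ.symm exp_ne_zero
  have hπL : algebraMap F L π ≠ 0 := by simpa using hπ0
  have hs0 : s ≠ 0 := by
    rintro rfl
    have := hD1 P hP
    rw [map_zero] at this
    exact zero_ne_one this
  have hR1 : ∀ P : Place E L, Rel p ψ P → ∀ r ∈ RR E L p, P.val r ≤ 1 := fun P hP r hr =>
    (h.val_le_one_iff P r).2 (RR_le hP.1 hr)
  have hπP : ∀ P : Place E L, Rel p ψ P → P.val (algebraMap F L π) < 1 := by
    intro P hP
    have h1 := hP.2 ⟨π, hπ1⟩
    have h2 : IsLocalRing.residue p.1 ⟨π, hπ1⟩ = 0 := by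
      rw [IsLocalRing.residue_eq_zero_iff, mem_maximalIdeal_iff hF]
      change p.val π < 1
      rw [hπ, ← exp_zero, exp_lt_exp]
      omega
    rwa [h2, map_zero, map_zero, sub_zero] at h1
  -- decomposition
  have hdec : ∀ x ∈ RR E L p, x ≠ 0 → ∃ N : ℕ, ∃ u ∈ RR E L p, u ∉ D ∧
      s ^ N * x = algebraMap F L π ^ N * u := by
    intro x hx hx0
    have step : ∀ N : ℕ, (∃ r ∈ RR E L p, s ^ N * x = algebraMap F L π ^ N * r) ∨
        ∃ M : ℕ, ∃ u ∈ RR E L p, u ∉ D ∧ s ^ M * x = algebraMap F L π ^ M * u := by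
      intro N
      induction N with
      | zero => exact Or.inl ⟨x, hx, by simp⟩
      | succ N ih =>
        rcases ih with ⟨r, hr, e⟩ | ih
        · by_cases hrD : r ∈ D
          · obtain ⟨r', hr', e'⟩ := hD3 r hr hrD
            refine Or.inl ⟨r', hr', ?_⟩
            rw [pow_succ, pow_succ, mul_right_comm, e, mul_assoc _ r s, mul_comm r s, e', mul_assoc]
          · exact Or.inr ⟨N, r, hr, hrD, e⟩
        · exact Or.inr ih
    by_contra hcon
    have hall : ∀ N : ℕ, P.val x ≤ exp (-(N : ℤ)) := by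
      intro N
      rcases step N with ⟨r, hr, e⟩ | h2
      · have h3 := congrArg P.val e
        rw [map_mul, map_mul, map_pow, map_pow, hD1 P hP, one_pow, one_mul] at h3
        rw [h3]
        have h4 : P.val (algebraMap F L π) ^ N ≤ exp (-(N : ℤ)) := by
          have := pow_le_pow_left₀ zero_le (le_exp_of_lt_one (hπP P hP)) N
          rwa [← exp_nsmul, nsmul_eq_mul, mul_neg, mul_one] at this
        calc P.val (algebraMap F L π) ^ N * P.val r ≤ exp (-(N : ℤ)) * 1 := by
              gcongr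
              exact hR1 P hP r hr
          _ = _ := mul_one _
      · exact absurd h2 hcon
    have hx1 : P.val x ≠ 0 := (Valuation.ne_zero_iff _).2 hx0
    have h5 := hall ((1 - log (P.val x)).toNat)
    rw [← exp_log hx1, exp_le_exp, log_exp] at h5
    omega
  -- valuations
  have hval : ∀ y : L, y ≠ 0 → ∃ m : ℤ, P.val y = P.val (algebraMap F L π) ^ m ∧
      Q.val y = Q.val (algebraMap F L π) ^ m := by
    intro y hy
    obtain ⟨n, hn⟩ := exists_pow_mul_mem hF hgen hπ y
    obtain ⟨N, u, hu, huD, e⟩ := hdec _ hn (mul_ne_zero (pow_ne_zero _ hπL) hy)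
    refine ⟨(N : ℤ) - n, ?_⟩
    have key : ∀ W : Place E L, Rel p ψ W → W.val y = W.val (algebraMap F L π) ^ ((N : ℤ) - n) := by
      intro W hW
      have h1 := congrArg W.val e
      have hu1 : W.val u = 1 := by
        apply le_antisymm (hR1 W hW u hu)
        rw [← not_lt, hD2 W hW u hu]
        exact huD
      rw [map_mul, map_mul, map_mul, map_pow, map_pow, map_pow, hD1 W hW, one_pow, one_mul, hu1,
        mul_one] at h1
      have hW0 : W.val (algebraMap F L π) ≠ 0 := (Valuation.ne_zero_iff _).2 hπL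
      rw [zpow_sub₀ hW0, zpow_natCast, zpow_natCast, ← h1, mul_div_cancel_left₀]
      exact pow_ne_zero _ hW0
    exact ⟨key P hP, key Q hQ⟩
  apply Place.ext
  ext y
  by_cases hy : y = 0
  · rw [hy]
    exact ⟨fun _ => Q.1.zero_mem, fun _ => P.1.zero_mem⟩
  obtain ⟨m, h1, h2⟩ := hval y hy
  rw [← h.val_le_one_iff, ← h.val_le_one_iff, h1, h2,
    zpow_le_one_iff_right_of_lt_one₀ (zero_lt_iff.2 ((Valuation.ne_zero_iff _).2 hπL)) (hπP P hP),
    zpow_le_one_iff_right_of_lt_one₀ (zero_lt_iff.2 ((Valuation.ne_zero_iff _).2 hπL)) (hπP Q hQ)]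

end unique_place

section exists_place

variable [Algebra.IsAlgebraic F L]

/-- There is a place over a given one. -/
theorem exists_rest_eq [Algebra.IsAlgebraic k E] {tF : F} (hF : IsSep k F tF) (p : Place k F) :
    ∃ P : Place E L, rest k F P = p := by
  let A : Subring L := p.1.toSubring.map (algebraMap F L)
  let f : p.1.toSubring ≃+* A := p.1.toSubring.equivMapOfInjective (algebraMap F L)
    (algebraMap F L).injective
  have : IsLocalRing p.1.toSubring := inferInstanceAs (IsLocalRing p.1)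
  let I : Ideal A := (IsLocalRing.maximalIdeal p.1.toSubring).map (f : p.1.toSubring →+* A)
  have hI : I ≠ ⊤ := by
    intro h1
    have h5 : Ideal.comap (f : p.1.toSubring →+* A) (Ideal.map (f : p.1.toSubring →+* A)
        (IsLocalRing.maximalIdeal p.1.toSubring)) = IsLocalRing.maximalIdeal p.1.toSubring :=
      Ideal.comap_map_of_bijective _ f.bijective
    rw [show Ideal.map (f : p.1.toSubring →+* A) (IsLocalRing.maximalIdeal p.1.toSubring) = ⊤ from h1,
      Ideal.comap_top] at h5
    exact (IsLocalRing.maximalIdeal.isMaximal p.1.toSubring).ne_top h5.symm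
  obtain ⟨B, hAB, hIB⟩ := Ideal.image_subset_nonunits_valuationSubring I hI
  have h1 : ∀ x : F, x ∈ p.1 → algebraMap F L x ∈ B := by
    intro x hx
    exact hAB ⟨x, hx, rfl⟩
  have h2 : ∀ x : F, x ∉ p.1 → algebraMap F L x ∉ B := by
    intro x hx hxB
    have hx0 : x ≠ 0 := by
      rintro rfl
      exact hx p.1.zero_mem
    have hx' : x⁻¹ ∈ p.1 := (p.1.mem_or_inv_mem x).resolve_left hx
    have hx'' : (⟨x⁻¹, hx'⟩ : p.1) ∈ IsLocalRing.maximalIdeal p.1 := by
      rw [mem_maximalIdeal_iff hF, val_lt_one_iff hF p (inv_ne_zero hx0), inv_inv]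
      exact hx
    have h3 : algebraMap F L x⁻¹ ∈ B.nonunits := by
      apply hIB
      exact ⟨f ⟨x⁻¹, hx'⟩, Ideal.mem_map_of_mem _ hx'', rfl⟩
    rw [map_inv₀, B.inv_mem_nonunits_iff] at h3
    rcases h3 with h3 | h3
    · exact hx0 (by simpa using h3)
    · exact h3 hxB
  have h3 : ∀ a : E, algebraMap E L a ∈ B := by
    intro a
    refine mem_of_isIntegral (R := k) B ?_ ?_
    · intro c
      rw [IsScalarTower.algebraMap_apply k F L]
      exact h1 _ (p.2.2 c)
    · exact (Algebra.IsIntegral.isIntegral (R := k) a).map (IsScalarTower.toAlgHom k E L)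
  refine ⟨⟨B, ?_, h3⟩, ?_⟩
  · rintro rfl
    apply p.2.1
    rw [eq_top_iff]
    intro x _
    by_contra hx
    exact h2 x hx (ValuationSubring.mem_top _)
  · apply Place.ext
    ext x
    change algebraMap F L x ∈ B ↔ x ∈ p.1
    constructor
    · intro hx
      by_contra hx'
      exact h2 x hx' hx
    · exact h1 x

end exists_place

section count

variable [Algebra.IsAlgebraic F L] [IsAlgClosed E] [Algebra.IsAlgebraic k E] [Finite k]

/-- The Frobenius of `E` as a ring isomorphism. -/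
noncomputable def frob (k : Type u) (E : Type w) [Field k] [Field E] [Algebra k E]
    [Algebra.IsAlgebraic k E] [Finite k] : E ≃+* E :=
  let _ := Fintype.ofFinite k
  (FiniteField.frobeniusAlgEquivOfAlgebraic k E).toRingEquiv

omit [IsAlgClosed E] in
theorem frob_apply (a : E) : frob k E a = a ^ Nat.card k := by
  let _ := Fintype.ofFinite k
  have h1 : frob k E a = a ^ Fintype.card k := rfl
  rw [h1, Nat.card_eq_fintype_card]

omit [IsAlgClosed E] in
theorem frob_pow_apply (n : ℕ) (a : E) : (frob k E ^ n) a = a ^ (Nat.card k ^ n) := by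
  induction n generalizing a with
  | zero => simp
  | succ n ih =>
    rw [pow_succ]
    change (frob k E ^ n) (frob k E a) = _
    rw [ih, frob_apply, ← pow_mul, pow_succ, mul_comm]

theorem exists_place {tF : F} (hF : IsSep k F tF) {t : L} (h : IsSep E L t) (θ : L ≃+* L)
    (hθF : ∀ x : F, θ (algebraMap F L x) = algebraMap F L x)
    (hθE : ∀ a : E, θ (algebraMap E L a) = algebraMap E L (a ^ Nat.card k)) (p : Place k F)
    (ψ : IsLocalRing.ResidueField p.1 →ₐ[k] E) : ∃ P : Place E L, Rel p ψ P := by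
  have := finite_residueField ⟨tF, hF⟩ p
  obtain ⟨P₀, hP₀⟩ := exists_rest_eq (E := E) (L := L) hF p
  obtain ⟨ψ₀, hψ₀⟩ := exists_psi hF h P₀ p hP₀
  obtain ⟨j, hj⟩ := HWFrob.exists_pow_eq k (IsLocalRing.ResidueField p.1) E ψ₀ ψ
  have hθE' : ∀ a : E, (θ ^ j) (algebraMap E L a) = algebraMap E L ((frob k E ^ j) a) :=
    HWKbar.pow_compat (frob k E) θ (fun a => by rw [hθE, frob_apply]) j
  have hθF' : ∀ x : F, (θ ^ j) (algebraMap F L x) = algebraMap F L x := by
    intro x
    have := HWKbar.pow_compat (RingEquiv.refl F) θ (fun a => hθF a) j x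
    rw [this]
    congr 1
    clear hj hθE' this
    induction j with
    | zero => rfl
    | succ j ih =>
      rw [pow_succ]
      exact ih
  have hθE'' : ∀ a : E, (θ ^ j).symm (algebraMap E L a) =
      algebraMap E L ((frob k E ^ j).symm a) := by
    intro a
    rw [RingEquiv.symm_apply_eq, hθE', RingEquiv.apply_symm_apply]
  refine ⟨comapEquiv (θ ^ j).symm (frob k E ^ j).symm hθE'' P₀, ?_, ?_⟩
  · rw [← hP₀]
    apply Place.ext
    ext x
    change (θ ^ j).symm (algebraMap F L x) ∈ P₀.1 ↔ algebraMap F L x ∈ P₀.1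
    have : (θ ^ j).symm (algebraMap F L x) = algebraMap F L x := by
      rw [RingEquiv.symm_apply_eq, hθF']
    rw [this]
  · intro x
    have h1 := h.val_apply_of_comap_eq P₀
      (comapEquiv (θ ^ j).symm (frob k E ^ j).symm hθE'' P₀) (θ ^ j) (by
        ext y
        change (θ ^ j).symm ((θ ^ j) y) ∈ P₀.1 ↔ _
        rw [RingEquiv.symm_apply_apply])
      (algebraMap F L x - algebraMap E L (ψ₀ (IsLocalRing.residue p.1 x)))
    rw [map_sub, hθF', hθE', frob_pow_apply, ← hj] at h1
    rw [h1]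
    exact hψ₀.2 x

omit [IsAlgClosed E] in
theorem fix_iff {tF : F} (hF : IsSep k F tF) {t : L} (h : IsSep E L t)
    (hgen : Algebra.adjoin F (Set.range (algebraMap E L)) = ⊤) (θ : L ≃+* L)
    (hθF : ∀ x : F, θ (algebraMap F L x) = algebraMap F L x)
    (hθE : ∀ a : E, θ (algebraMap E L a) = algebraMap E L (a ^ Nat.card k)) (p : Place k F)
    (ψ : IsLocalRing.ResidueField p.1 →ₐ[k] E) (P : Place E L) (hP : Rel p ψ P) (n : ℕ) :
    P.1.comap ((θ ^ n : L ≃+* L) : L →+* L) = P.1 ↔ ∀ y, ψ y ^ (Nat.card k ^ n) = ψ y := by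
  have hθE' : ∀ a : E, (θ ^ n) (algebraMap E L a) = algebraMap E L ((frob k E ^ n) a) :=
    HWKbar.pow_compat (frob k E) θ (fun a => by rw [hθE, frob_apply]) n
  have hθF' : ∀ x : F, (θ ^ n) (algebraMap F L x) = algebraMap F L x := by
    intro x
    have := HWKbar.pow_compat (RingEquiv.refl F) θ (fun a => hθF a) n x
    rw [this]
    congr 1
    clear hθE' this
    induction n with
    | zero => rfl
    | succ j ih =>
      rw [pow_succ]
      exact ih
  have hval : ∀ (W : Place E L) (_ : P.1.comap ((θ ^ n : L ≃+* L) : L →+* L) = W.1) (x : p.1),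
      P.val (algebraMap F L x - algebraMap E L (ψ (IsLocalRing.residue p.1 x) ^ (Nat.card k ^ n))) =
        W.val (algebraMap F L x - algebraMap E L (ψ (IsLocalRing.residue p.1 x))) := by
    intro W hW x
    rw [← h.val_apply_of_comap_eq W P (θ ^ n) hW, map_sub (θ ^ n), hθF', hθE', frob_pow_apply]
  constructor
  · intro hfix y
    obtain ⟨x, rfl⟩ := IsLocalRing.residue_surjective y
    refine eq_of_val_lt h P (x := algebraMap F L x) ?_ (hP.2 x)
    rw [hval P hfix x]
    exact hP.2 x
  · intro hy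
    let P' : Place E L := comapEquiv (θ ^ n) (frob k E ^ n) hθE' P
    have hP' : Rel p ψ P' := by
      refine ⟨?_, ?_⟩
      · rw [← hP.1]
        apply Place.ext
        ext x
        change (θ ^ n) (algebraMap F L x) ∈ P.1 ↔ algebraMap F L x ∈ P.1
        rw [hθF']
      · intro x
        rw [← hval P' rfl x, hy]
        exact hP.2 x
    exact congrArg Subtype.val (place_unique hF h hgen ψ P' P hP' hP)

/-- Fixed places of the constant field extension. -/
theorem nonempty_equiv {tF : F} (hF : IsSep k F tF) {t : L} (h : IsSep E L t)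
    (hgen : Algebra.adjoin F (Set.range (algebraMap E L)) = ⊤) (θ : L ≃+* L)
    (hθF : ∀ x : F, θ (algebraMap F L x) = algebraMap F L x)
    (hθE : ∀ a : E, θ (algebraMap E L a) = algebraMap E L (a ^ Nat.card k)) (n : ℕ) :
    Nonempty ((Σ p : Place k F, {ψ : IsLocalRing.ResidueField p.1 →ₐ[k] E //
      ∀ y, ψ y ^ (Nat.card k ^ n) = ψ y}) ≃ Fix E (θ ^ n)) := by
  have hex := exists_place hF h θ hθF hθE
  choose f hf using hex
  let g : (Σ p : Place k F, {ψ : IsLocalRing.ResidueField p.1 →ₐ[k] E //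
      ∀ y, ψ y ^ (Nat.card k ^ n) = ψ y}) → Fix E (θ ^ n) := fun s =>
    ⟨f s.1 s.2.1, (fix_iff hF h hgen θ hθF hθE s.1 s.2.1 _ (hf s.1 s.2.1) n).2 s.2.2⟩
  refine ⟨Equiv.ofBijective g ⟨?_, ?_⟩⟩
  · rintro ⟨p, ψ, hψ⟩ ⟨p', ψ', hψ'⟩ hg
    have h1 : f p ψ = f p' ψ' := congrArg Subtype.val hg
    have h2 := hf p ψ
    have h3 := hf p' ψ'
    rw [← h1] at h3
    obtain rfl : p = p' := h2.1.symm.trans h3.1
    obtain rfl : ψ = ψ' := by
      ext y
      obtain ⟨x, rfl⟩ := IsLocalRing.residue_surjective y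
      exact eq_of_val_lt h _ (h2.2 x) (h3.2 x)
    rfl
  · rintro ⟨P, hP⟩
    obtain ⟨ψ, hψ⟩ := exists_psi hF h P (rest k F P) rfl
    refine ⟨⟨rest k F P, ψ, (fix_iff hF h hgen θ hθF hθE _ ψ P hψ n).1 hP⟩, ?_⟩
    apply Subtype.ext
    exact place_unique hF h hgen ψ _ P (hf _ ψ) hψ

/-- The number of fixed places. -/
theorem card_fix {tF : F} (hF : IsSep k F tF) {t : L} (h : IsSep E L t)
    (hgen : Algebra.adjoin F (Set.range (algebraMap E L)) = ⊤) (θ : L ≃+* L)
    (hθF : ∀ x : F, θ (algebraMap F L x) = algebraMap F L x)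
    (hθE : ∀ a : E, θ (algebraMap E L a) = algebraMap E L (a ^ Nat.card k)) (n : ℕ) (hn : 1 ≤ n)
    [Finite (Fix E (θ ^ n))] :
    Groth.Agent.MiscA.ZetaAbsCount.N (crv ⟨tF, hF⟩).dg0 n = Nat.card (Fix E (θ ^ n)) := by
  classical
  obtain ⟨e⟩ := nonempty_equiv hF h hgen θ hθF hθE n
  have hfr := fun p : Place k F => finite_residueField ⟨tF, hF⟩ p
  let S := Σ p : Place k F, {ψ : IsLocalRing.ResidueField p.1 →ₐ[k] E //
      ∀ y, ψ y ^ (Nat.card k ^ n) = ψ y}
  have hS : Finite S := Finite.of_equiv _ e.symm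
  have hdg : ∀ p : Place k F, (crv ⟨tF, hF⟩).dg0 p = Module.finrank k (IsLocalRing.ResidueField p.1) :=
    fun p => dg0_eq_finrank ⟨tF, hF⟩ p
  have hdvd : ∀ s : S, (crv ⟨tF, hF⟩).dg0 s.1 ∈ n.divisors := by
    rintro ⟨p, ψ, hψ⟩
    rw [Nat.mem_divisors, hdg]
    exact ⟨(HWFrob.pow_eq_iff k (IsLocalRing.ResidueField p.1) E ψ n).1 hψ, by omega⟩
  let e1 : (Σ d : n.divisors, {s : S // (⟨_, hdvd s⟩ : n.divisors) = d}) ≃ S :=
    Equiv.sigmaFiberEquiv (fun s : S => (⟨_, hdvd s⟩ : n.divisors))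
  rw [← Nat.card_congr (e1.trans e), Nat.card_sigma]
  unfold Groth.Agent.MiscA.ZetaAbsCount.N
  rw [← Finset.sum_coe_sort n.divisors]
  refine Finset.sum_congr rfl fun d _ => ?_
  have hd : d.1 ∣ n := (Nat.mem_divisors.1 d.2).1
  have hcard : ∀ p : Place k F, (crv ⟨tF, hF⟩).dg0 p = d.1 →
      Nat.card {ψ : IsLocalRing.ResidueField p.1 →ₐ[k] E // ∀ y, ψ y ^ (Nat.card k ^ n) = ψ y} =
        d.1 := by
    intro p hp
    rw [HWFrob.card_fixed, ← hdg, hp, if_pos hd]
  have hd0 : d.1 ≠ 0 := (Nat.pos_of_mem_divisors d.2).ne'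
  have hfinp : ∀ p : Place k F, (crv ⟨tF, hF⟩).dg0 p = d.1 →
      Finite {ψ : IsLocalRing.ResidueField p.1 →ₐ[k] E // ∀ y, ψ y ^ (Nat.card k ^ n) = ψ y} := by
    intro p hp
    apply Nat.finite_of_card_ne_zero
    rw [hcard p hp]
    exact hd0
  let e2 : {s : S // (⟨_, hdvd s⟩ : n.divisors) = d} ≃
      Σ p : {p : Place k F // (crv ⟨tF, hF⟩).dg0 p = d.1},
        {ψ : IsLocalRing.ResidueField p.1.1 →ₐ[k] E // ∀ y, ψ y ^ (Nat.card k ^ n) = ψ y} :=
    { toFun := fun s => ⟨⟨s.1.1, congrArg Subtype.val s.2⟩, s.1.2⟩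
      invFun := fun s => ⟨⟨s.1.1, s.2⟩, Subtype.ext s.1.2⟩
      left_inv := fun _ => rfl
      right_inv := fun _ => rfl }
  let e3 : (Σ p : {p : Place k F // (crv ⟨tF, hF⟩).dg0 p = d.1},
        {ψ : IsLocalRing.ResidueField p.1.1 →ₐ[k] E // ∀ y, ψ y ^ (Nat.card k ^ n) = ψ y}) ≃
      (Σ _ : {p : Place k F // (crv ⟨tF, hF⟩).dg0 p = d.1}, Fin d.1) :=
    Equiv.sigmaCongrRight fun p => by
      have := hfinp p.1 p.2
      exact (Finite.equivFinOfCardEq (hcard p.1 p.2))
  rw [Nat.card_congr (e2.trans (e3.trans (Equiv.sigmaEquivProd _ _))), Nat.card_prod,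
    Nat.card_eq_fintype_card (α := Fin d.1), Fintype.card_fin, mul_comm]

end count

end Groth.Agent.Cohder.HWCover
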