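import Groth.Agent.Cohder.HWLinAlg
import Mathlib.RingTheory.DedekindDomain.Factorization

/-!
# Degrees of fractional ideals of a Dedekind domain over a field

`A` is a Dedekind domain which is an algebra over a field `k`, with fraction field `F`, all of whose
proper quotients are finite-dimensional over `k`.
-/

set_option autoImplicit false
set_option linter.unusedSectionVars false

namespace Groth.Agent.Cohder.HWDeg

open Module Submodule Groth.Agent.Cohder.HWLinAlg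
open scoped nonZeroDivisors

variable (k : Type*) [Field k] {F : Type*} [Field F] [Algebra k F]
  {A : Type*} [CommRing A] [IsDedekindDomain A] [Algebra A F] [IsFractionRing A F]
  [Algebra k A] [IsScalarTower k A F]

/-- The `k`-subspace of `F` underlying a fractional ideal. -/
def vs (I : FractionalIdeal A⁰ F) : Submodule k F := (I : Submodule A F).restrictScalars k

@[simp] theorem mem_vs {I : FractionalIdeal A⁰ F} {x : F} : x ∈ vs k I ↔ x ∈ I := Iff.rfl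

theorem vs_mono {I J : FractionalIdeal A⁰ F} (h : I ≤ J) : vs k I ≤ vs k J := fun _ hx => h hx

/-- `I/J ≅ A/𝔞` if `J = 𝔞 I`. -/
theorem nonempty_equiv (I J : FractionalIdeal A⁰ F) (hI : I ≠ 0) (𝔞 : Ideal A) (h𝔞 : 𝔞 ≠ ⊥)
    (hJ : J = 𝔞 * I) : Nonempty (Q (vs k J) (vs k I) ≃ₗ[k] A ⧸ 𝔞) := by
  have hJI : J ≤ I := by
    rw [hJ]
    calc (𝔞 : FractionalIdeal A⁰ F) * I ≤ 1 * I := by
          gcongr
          exact FractionalIdeal.coeIdeal_le_one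
      _ = I := one_mul I
  have h𝔞' : (𝔞 : FractionalIdeal A⁰ F) ≠ 0 := FractionalIdeal.coeIdeal_ne_zero.2 h𝔞
  have e1 := FractionalIdeal.quotientEquiv I J 1 (𝔞 : FractionalIdeal A⁰ F)
    (by rw [hJ, one_mul, mul_comm]) hJI FractionalIdeal.coeIdeal_le_one h𝔞' hI
  let f : A →ₗ[A] ↥((1 : FractionalIdeal A⁰ F) : Submodule A F) :=
    { toFun := fun a => ⟨algebraMap A F a, FractionalIdeal.coe_mem_one _ a⟩
      map_add' := fun a b => Subtype.ext (map_add _ _ _)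
      map_smul' := fun a b => Subtype.ext (by
        simp [Algebra.smul_def]) }
  have hf : Function.Bijective f := by
    constructor
    · intro a b hab
      exact IsFractionRing.injective A F (congrArg Subtype.val hab)
    · rintro ⟨x, hx⟩
      obtain ⟨a, ha⟩ := (FractionalIdeal.mem_one_iff _).1 hx
      exact ⟨a, Subtype.ext ha⟩
  let e2 := Submodule.Quotient.equiv 𝔞
    (((𝔞 : FractionalIdeal A⁰ F) : Submodule A F).comap
      ((1 : FractionalIdeal A⁰ F) : Submodule A F).subtype) (LinearEquiv.ofBijective f hf) (by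
      ext ⟨x, hx⟩
      simp only [Submodule.mem_map, Submodule.mem_comap, Submodule.subtype_apply]
      constructor
      · rintro ⟨a, ha, hax⟩
        have : algebraMap A F a = x := congrArg Subtype.val hax
        exact (FractionalIdeal.mem_coeIdeal _).2 ⟨a, ha, this⟩
      · intro hx'
        obtain ⟨a, ha, hax⟩ := (FractionalIdeal.mem_coeIdeal _).1 hx'
        exact ⟨a, ha, Subtype.ext hax⟩)
  let P : Submodule A ↥(I : Submodule A F) := (J : Submodule A F).comap (I : Submodule A F).subtype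
  let e3 : (↥(I : Submodule A F) ⧸ P) ≃ₗ[A] A ⧸ 𝔞 := e1.trans e2.symm
  let e4 : (↥(I : Submodule A F) ⧸ P) ≃ₗ[k] A ⧸ 𝔞 := e3.restrictScalars k
  let e5 : (↥(I : Submodule A F) ⧸ P.restrictScalars k) ≃ₗ[k] (↥(I : Submodule A F) ⧸ P) :=
    Submodule.Quotient.restrictScalarsEquiv k P
  exact ⟨e5.trans e4⟩

theorem exists_ideal {I J : FractionalIdeal A⁰ F} (hJ : J ≠ 0) (h : J ≤ I) :
    ∃ 𝔞 : Ideal A, 𝔞 ≠ ⊥ ∧ J = 𝔞 * I := by
  have hI : I ≠ 0 := by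
    rintro rfl
    exact hJ (le_antisymm h (FractionalIdeal.zero_le _))
  obtain ⟨𝔞, h𝔞⟩ := FractionalIdeal.le_one_iff_exists_coeIdeal.1
    (show J * I⁻¹ ≤ 1 by
      calc J * I⁻¹ ≤ I * I⁻¹ := by gcongr
        _ = 1 := mul_inv_cancel₀ hI)
  have hJ' : J = 𝔞 * I := by
    rw [h𝔞, mul_assoc, inv_mul_cancel₀ hI, mul_one]
  refine ⟨𝔞, ?_, hJ'⟩
  rintro rfl
  apply hJ
  rw [hJ']
  simp

/-- Degree of an ideal: the dimension of the quotient. -/
noncomputable def dI (𝔞 : Ideal A) : ℕ := finrank k (A ⧸ 𝔞)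

/-- Proper quotients of `A` are finite-dimensional over `k`. -/
class FinQuot (k A : Type*) [Field k] [CommRing A] [Algebra k A] : Prop where
  out : ∀ 𝔞 : Ideal A, 𝔞 ≠ ⊥ → FiniteDimensional k (A ⧸ 𝔞)

theorem finite_Q [FinQuot k A] {I J : FractionalIdeal A⁰ F} (hJ : J ≠ 0) (h : J ≤ I) :
    FiniteDimensional k (Q (vs k J) (vs k I)) := by
  have hI : I ≠ 0 := by
    rintro rfl
    exact hJ (le_antisymm h (FractionalIdeal.zero_le _))
  obtain ⟨𝔞, h𝔞, hJ'⟩ := exists_ideal hJ h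
  obtain ⟨e⟩ := nonempty_equiv k I J hI 𝔞 h𝔞 hJ'
  have := FinQuot.out (k := k) 𝔞 h𝔞
  exact Module.Finite.equiv e.symm

theorem finrank_Q {I J : FractionalIdeal A⁰ F} (hI : I ≠ 0) (𝔞 : Ideal A) (h𝔞 : 𝔞 ≠ ⊥)
    (hJ : J = 𝔞 * I) : finrank k (Q (vs k J) (vs k I)) = dI k 𝔞 := by
  obtain ⟨e⟩ := nonempty_equiv k I J hI 𝔞 h𝔞 hJ
  exact e.finrank_eq

/-- Chain additivity of relative dimensions. -/
theorem finrank_chain {V : Type*} [AddCommGroup V] [Module k V] {U₁ U₂ U₃ : Submodule k V}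
    (h₁ : U₁ ≤ U₂) (h₂ : U₂ ≤ U₃) [FiniteDimensional k (Q U₁ U₃)] :
    finrank k (Q U₁ U₃) = finrank k (Q U₁ U₂) + finrank k (Q U₂ U₃) := by
  let f : Q U₁ U₃ →ₗ[k] Q U₂ U₃ := Submodule.mapQ _ _ LinearMap.id (by
    rw [Submodule.comap_id]
    exact Submodule.comap_mono h₁)
  have hf : Function.Surjective f := by
    intro x
    obtain ⟨x, rfl⟩ := Submodule.Quotient.mk_surjective _ x
    exact ⟨Submodule.Quotient.mk x, rfl⟩
  let g : Q U₁ U₂ →ₗ[k] Q U₁ U₃ := Submodule.mapQ _ _ (Submodule.inclusion h₂) (by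
    rintro ⟨x, hx⟩ hx'
    exact hx')
  have hg : Function.Injective g := by
    rw [← LinearMap.ker_eq_bot, LinearMap.ker_eq_bot']
    intro x hx
    obtain ⟨⟨x, hx'⟩, rfl⟩ := Submodule.Quotient.mk_surjective _ x
    change (Submodule.Quotient.mk (⟨x, h₂ hx'⟩ : U₃) : Q U₁ U₃) = 0 at hx
    rw [Submodule.Quotient.mk_eq_zero] at hx ⊢
    exact hx
  have hker : LinearMap.ker f = LinearMap.range g := by
    ext x
    obtain ⟨⟨x, hx'⟩, rfl⟩ := Submodule.Quotient.mk_surjective _ x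
    rw [LinearMap.mem_ker, LinearMap.mem_range]
    change (Submodule.Quotient.mk (⟨x, hx'⟩ : U₃) : Q U₂ U₃) = 0 ↔ _
    rw [Submodule.Quotient.mk_eq_zero]
    constructor
    · intro hx
      exact ⟨Submodule.Quotient.mk ⟨x, hx⟩, rfl⟩
    · rintro ⟨y, hy⟩
      obtain ⟨⟨y, hy'⟩, rfl⟩ := Submodule.Quotient.mk_surjective _ y
      change (Submodule.Quotient.mk (⟨y, h₂ hy'⟩ : U₃) : Q U₁ U₃) = Submodule.Quotient.mk _ at hy
      rw [Submodule.Quotient.eq] at hy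
      change y - x ∈ U₁ at hy
      change x ∈ U₂
      have : x = y - (y - x) := by abel
      rw [this]
      exact U₂.sub_mem hy' (h₁ hy)
  have e1 := f.finrank_range_add_finrank_ker
  rw [hker, LinearMap.finrank_range_of_inj hg, LinearMap.range_eq_top.2 hf, finrank_top] at e1
  omega

variable {k} in
theorem dI_mul [FinQuot k A] {𝔞 𝔟 : Ideal A} (h𝔞 : 𝔞 ≠ ⊥) (h𝔟 : 𝔟 ≠ ⊥) :
    dI k (𝔞 * 𝔟) = dI k 𝔞 + dI k 𝔟 := by
  let F := FractionRing A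

  have h1 : (1 : FractionalIdeal A⁰ F) ≠ 0 := one_ne_zero
  have hb : (𝔟 : FractionalIdeal A⁰ F) ≠ 0 := FractionalIdeal.coeIdeal_ne_zero.2 h𝔟
  have ha : (𝔞 : FractionalIdeal A⁰ F) ≠ 0 := FractionalIdeal.coeIdeal_ne_zero.2 h𝔞
  have hab : 𝔞 * 𝔟 ≠ ⊥ := mul_ne_zero h𝔞 h𝔟
  have e1 := finrank_Q k (I := (𝔟 : FractionalIdeal A⁰ F)) (J := ((𝔞 * 𝔟 : Ideal A) : FractionalIdeal A⁰ F))
    hb 𝔞 h𝔞 (by simp)
  have e2 := finrank_Q k (I := (1 : FractionalIdeal A⁰ F)) (J := (𝔟 : FractionalIdeal A⁰ F))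
    h1 𝔟 h𝔟 (by simp)
  have e3 := finrank_Q k (I := (1 : FractionalIdeal A⁰ F)) (J := ((𝔞 * 𝔟 : Ideal A) : FractionalIdeal A⁰ F))
    h1 (𝔞 * 𝔟) hab (by simp)
  have l1 : ((𝔞 * 𝔟 : Ideal A) : FractionalIdeal A⁰ F) ≤ (𝔟 : FractionalIdeal A⁰ F) := by
    rw [FractionalIdeal.coeIdeal_le_coeIdeal]
    exact Ideal.mul_le_right (I := 𝔞) (J := 𝔟)
  have l2 : (𝔟 : FractionalIdeal A⁰ F) ≤ 1 := FractionalIdeal.coeIdeal_le_one
  have := finite_Q k (A := A) (F := F) (I := 1) (J := ((𝔞 * 𝔟 : Ideal A) : FractionalIdeal A⁰ F))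
    (FractionalIdeal.coeIdeal_ne_zero.2 hab) (l1.trans l2)
  have := finrank_chain k (vs_mono k l1) (vs_mono k l2)
  omega

@[simp] theorem dI_top : dI k (⊤ : Ideal A) = 0 := by
  have : Subsingleton (A ⧸ (⊤ : Ideal A)) := Ideal.Quotient.subsingleton_iff.2 rfl
  exact finrank_zero_of_subsingleton

/-- Degree of a fractional ideal (increasing in `I`; `deg 𝔞 = -dim A/𝔞`). -/
noncomputable def deg (I : FractionalIdeal A⁰ F) : ℤ :=
  (dI k (Ideal.span {(I.den : A)}) : ℤ) - dI k I.num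

theorem deg_eq [FinQuot k A] {I : FractionalIdeal A⁰ F} (hI : I ≠ 0) {𝔞 𝔟 : Ideal A} (h𝔟 : 𝔟 ≠ ⊥)
    (h : (𝔟 : FractionalIdeal A⁰ F) * I = 𝔞) : deg k I = (dI k 𝔟 : ℤ) - dI k 𝔞 := by
  have h𝔞 : 𝔞 ≠ ⊥ := by
    rintro rfl
    rw [FractionalIdeal.coeIdeal_bot, mul_eq_zero] at h
    rcases h with h | h
    · exact FractionalIdeal.coeIdeal_ne_zero.2 h𝔟 h
    · exact hI h
  have hd : (Ideal.span {(I.den : A)} : Ideal A) ≠ ⊥ := by
    simp
  have hn : I.num ≠ ⊥ := by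
    intro h0
    exact hI (FractionalIdeal.num_eq_zero_iff.1 (by simpa using h0))
  have e1 : ((Ideal.span {(I.den : A)} : Ideal A) : FractionalIdeal A⁰ F) * I = I.num := by
    rw [FractionalIdeal.coeIdeal_span_singleton]
    exact FractionalIdeal.den_mul_self_eq_num' _ _ I
  have e2 : (Ideal.span {(I.den : A)} : Ideal A) * 𝔞 = 𝔟 * I.num := by
    apply FractionalIdeal.coeIdeal_injective (K := F)
    change (((Ideal.span {(I.den : A)} : Ideal A) * 𝔞 : Ideal A) : FractionalIdeal A⁰ F) =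
      ((𝔟 * I.num : Ideal A) : FractionalIdeal A⁰ F)
    rw [FractionalIdeal.coeIdeal_mul, FractionalIdeal.coeIdeal_mul, ← h, ← e1]
    ring
  have e3 := dI_mul (k := k) hd h𝔞
  have e4 := dI_mul (k := k) h𝔟 hn
  rw [e2] at e3
  unfold deg
  omega

theorem exists_frac {I : FractionalIdeal A⁰ F} (hI : I ≠ 0) :
    ∃ 𝔞 𝔟 : Ideal A, 𝔞 ≠ ⊥ ∧ 𝔟 ≠ ⊥ ∧ (𝔟 : FractionalIdeal A⁰ F) * I = 𝔞 := by
  refine ⟨I.num, Ideal.span {(I.den : A)}, ?_, by simp, ?_⟩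
  · intro h0
    exact hI (FractionalIdeal.num_eq_zero_iff.1 (by simpa using h0))
  · rw [FractionalIdeal.coeIdeal_span_singleton]
    exact FractionalIdeal.den_mul_self_eq_num' _ _ I

theorem deg_mul [FinQuot k A] {I J : FractionalIdeal A⁰ F} (hI : I ≠ 0) (hJ : J ≠ 0) :
    deg k (I * J) = deg k I + deg k J := by
  obtain ⟨𝔞, 𝔟, h𝔞, h𝔟, h⟩ := exists_frac hI
  obtain ⟨𝔞', 𝔟', h𝔞', h𝔟', h'⟩ := exists_frac hJ
  rw [deg_eq k hI h𝔟 h, deg_eq k hJ h𝔟' h',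
    deg_eq k (𝔞 := 𝔞 * 𝔞') (𝔟 := 𝔟 * 𝔟') (mul_ne_zero hI hJ) (mul_ne_zero h𝔟 h𝔟') (by
      rw [FractionalIdeal.coeIdeal_mul, FractionalIdeal.coeIdeal_mul, ← h, ← h']
      ring), dI_mul h𝔟 h𝔟', dI_mul h𝔞 h𝔞']
  push_cast
  ring

@[simp] theorem deg_coeIdeal [FinQuot k A] {𝔞 : Ideal A} (h𝔞 : 𝔞 ≠ ⊥) :
    deg k (𝔞 : FractionalIdeal A⁰ F) = -(dI k 𝔞 : ℤ) := by
  rw [deg_eq k (𝔞 := 𝔞) (𝔟 := ⊤) (FractionalIdeal.coeIdeal_ne_zero.2 h𝔞) top_ne_bot (by simp)]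
  simp

@[simp] theorem deg_one [FinQuot k A] : deg k (1 : FractionalIdeal A⁰ F) = 0 := by
  have h1 : (1 : FractionalIdeal A⁰ F) ≠ 0 := one_ne_zero
  have h2 : (⊤ : Ideal A) ≠ ⊥ := top_ne_bot
  rw [deg_eq k (𝔞 := ⊤) (𝔟 := ⊤) h1 h2 (by simp)]
  simp

theorem deg_inv [FinQuot k A] {I : FractionalIdeal A⁰ F} (hI : I ≠ 0) :
    deg k I⁻¹ = -deg k I := by
  have := deg_mul k hI (inv_ne_zero hI)
  rw [mul_inv_cancel₀ hI, deg_one] at this
  omega

/-- `dim I/J = deg I - deg J`. -/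
theorem finrank_Q_eq [FinQuot k A] {I J : FractionalIdeal A⁰ F} (hJ : J ≠ 0) (h : J ≤ I) :
    (finrank k (Q (vs k J) (vs k I)) : ℤ) = deg k I - deg k J := by
  have hI : I ≠ 0 := by
    rintro rfl
    exact hJ (le_antisymm h (FractionalIdeal.zero_le _))
  obtain ⟨𝔞, h𝔞, hJ'⟩ := exists_ideal hJ h
  rw [finrank_Q k hI 𝔞 h𝔞 hJ', hJ', deg_mul k (FractionalIdeal.coeIdeal_ne_zero.2 h𝔞) hI,
    deg_coeIdeal k h𝔞]
  ring

theorem dI_pos [FinQuot k A] {𝔞 : Ideal A} (h𝔞 : 𝔞 ≠ ⊥) (h : 𝔞 ≠ ⊤) : 0 < dI k 𝔞 := by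
  have := FinQuot.out (k := k) 𝔞 h𝔞
  have : Nontrivial (A ⧸ 𝔞) := Ideal.Quotient.nontrivial_iff.2 h
  exact finrank_pos

theorem deg_mono [FinQuot k A] {I J : FractionalIdeal A⁰ F} (hJ : J ≠ 0) (h : J ≤ I) :
    deg k J ≤ deg k I := by
  have := finrank_Q_eq k hJ h
  omega

theorem eq_of_deg_eq [FinQuot k A] {I J : FractionalIdeal A⁰ F} (hJ : J ≠ 0) (h : J ≤ I)
    (hd : deg k J = deg k I) : J = I := by
  have hI : I ≠ 0 := by
    rintro rfl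
    exact hJ (le_antisymm h (FractionalIdeal.zero_le _))
  obtain ⟨𝔞, h𝔞, hJ'⟩ := exists_ideal hJ h
  by_cases h1 : 𝔞 = ⊤
  · rw [hJ', h1]
    simp
  · exfalso
    have h2 := dI_pos k h𝔞 h1
    have h3 := finrank_Q_eq k hJ h
    rw [finrank_Q k hI 𝔞 h𝔞 hJ'] at h3
    omega

end Groth.Agent.Cohder.HWDeg
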