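import Groth.Agent.Cohder.HWPair
import Mathlib.LinearAlgebra.Dual.Lemmas

/-!
# Duality for a pair of Dedekind domains (Weil)

`Ω(I, J)` is the space of `k`-linear functionals on `F` which vanish on `I` and `J`; it is dual to
`H¹(I, J)`.  The union of all the `Ω(I, J)` is a one-dimensional `F`-vector space, which gives a canonical
divisor `W` with `h¹(D) = h⁰(W - D)` for all `D`.
-/

set_option autoImplicit false
set_option linter.unusedSectionVars false

namespace Groth.Agent.Cohder.HWDual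

open Module Submodule Groth.Agent.Cohder.HWLinAlg Groth.Agent.Cohder.HWDeg
  Groth.Agent.Cohder.HWPair
open scoped nonZeroDivisors

variable (k : Type*) [Field k] {F : Type*} [Field F] [Algebra k F]
  {A : Type*} [CommRing A] [IsDedekindDomain A] [Algebra A F] [IsFractionRing A F]
  [Algebra k A] [IsScalarTower k A F]
  {B : Type*} [CommRing B] [IsDedekindDomain B] [Algebra B F] [IsFractionRing B F]
  [Algebra k B] [IsScalarTower k B F]

/-- Functionals vanishing on `I` and `J`. -/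
def Om (I : FractionalIdeal A⁰ F) (J : FractionalIdeal B⁰ F) : Submodule k (Dual k F) :=
  (vs k I ⊔ vs k J).dualAnnihilator

variable {k} in
theorem mem_Om {I : FractionalIdeal A⁰ F} {J : FractionalIdeal B⁰ F} {φ : Dual k F} :
    φ ∈ Om k I J ↔ (∀ x ∈ I, φ x = 0) ∧ ∀ x ∈ J, φ x = 0 := by
  unfold Om
  rw [Submodule.mem_dualAnnihilator]
  constructor
  · intro h
    exact ⟨fun x hx => h x (Submodule.mem_sup_left hx), fun x hx => h x (Submodule.mem_sup_right hx)⟩
  · rintro ⟨h1, h2⟩ w hw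
    obtain ⟨x, hx, y, hy, rfl⟩ := Submodule.mem_sup.1 hw
    rw [map_add, h1 x hx, h2 y hy, add_zero]

theorem Om_anti {I I' : FractionalIdeal A⁰ F} {J J' : FractionalIdeal B⁰ F} (h : I ≤ I') (h' : J ≤ J') :
    Om k I' J' ≤ Om k I J := by
  intro φ hφ
  rw [mem_Om] at hφ ⊢
  exact ⟨fun x hx => hφ.1 x (h hx), fun x hx => hφ.2 x (h' hx)⟩

theorem finrank_Om [hP : ProperPair k F A B] {I : FractionalIdeal A⁰ F} {J : FractionalIdeal B⁰ F}
    (hI : I ≠ 0) (hJ : J ≠ 0) : finrank k (Om k I J) = h1 k I J := by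
  have := fin1 k hI hJ
  have e := (vs k I ⊔ vs k J).dualQuotEquivDualAnnihilator
  unfold Om h1
  rw [← e.finrank_eq, Subspace.dual_finrank_eq]

theorem finite_Om [hP : ProperPair k F A B] {I : FractionalIdeal A⁰ F} {J : FractionalIdeal B⁰ F}
    (hI : I ≠ 0) (hJ : J ≠ 0) : FiniteDimensional k (Om k I J) := by
  have := fin1 k hI hJ
  have e := (vs k I ⊔ vs k J).dualQuotEquivDualAnnihilator
  unfold Om
  exact Module.Finite.equiv e

/-- The functional `x • φ`, `(x • φ)(y) = φ(x y)`. -/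
noncomputable def act (x : F) (φ : Dual k F) : Dual k F := φ ∘ₗ LinearMap.mulLeft k x

@[simp] theorem act_apply (x : F) (φ : Dual k F) (y : F) : act k x φ y = φ (x * y) := rfl

theorem act_act (x y : F) (φ : Dual k F) : act k x (act k y φ) = act k (x * y) φ := by
  ext z
  simp only [act_apply]
  congr 1
  ring

theorem act_one (φ : Dual k F) : act k 1 φ = φ := by
  ext z
  simp

theorem act_eq_zero {x : F} (hx : x ≠ 0) {φ : Dual k F} (h : act k x φ = 0) : φ = 0 := by
  rw [← act_one k φ, ← inv_mul_cancel₀ hx, ← act_act, h]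
  ext z
  simp [act]

section Aux

variable {R : Type*} [CommRing R] [IsDedekindDomain R] [Algebra R F] [IsFractionRing R F]

omit [Algebra k F] in
theorem inf_ne_zero {a b : FractionalIdeal R⁰ F} (ha : a ≠ 0) (hb : b ≠ 0) : a ⊓ b ≠ 0 := by
  intro hab
  have := FractionalIdeal.sup_mul_inf a b
  rw [hab] at this
  exact mul_ne_zero ha hb (this.symm.trans (by simp))

omit [Algebra k F] in
theorem mul_mem_of_mem_inv {a b : FractionalIdeal R⁰ F} (hb : b ≠ 0) {x z : F}
    (hx : x ∈ b) (hz : z ∈ a * b⁻¹) : x * z ∈ a := by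
  have : x * z ∈ b * (a * b⁻¹) := FractionalIdeal.mul_mem_mul hx hz
  rwa [mul_comm a, mul_inv_cancel_left₀ hb] at this

omit [Algebra k F] in
theorem mul_mem_of_mem_inv' {a b : FractionalIdeal R⁰ F} (hb : b ≠ 0) {x z : F}
    (hx : x ∈ a * b⁻¹) (hz : z ∈ b) : x * z ∈ a := by
  rw [mul_comm]
  exact mul_mem_of_mem_inv hb hz hx

omit [Algebra k F] in
theorem mem_mul_inv_of_le {a b : FractionalIdeal R⁰ F} (hb : b ≠ 0) {x : F}
    (h : pA R x * b ≤ a) : x ∈ a * b⁻¹ := by
  rw [← pA_le_iff]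
  calc pA R x = (pA R x * b) * b⁻¹ := by rw [mul_assoc, mul_inv_cancel₀ hb, mul_one]
    _ ≤ a * b⁻¹ := by gcongr

end Aux

variable [hP : ProperPair k F A B]

/-- `Ω = ⋃ Ω(I, J)`. -/
def IsDiff (A B : Type*) [CommRing A] [IsDedekindDomain A] [Algebra A F] [IsFractionRing A F]
    [Algebra k A] [IsScalarTower k A F] [CommRing B] [IsDedekindDomain B] [Algebra B F]
    [IsFractionRing B F] [Algebra k B] [IsScalarTower k B F] (φ : Dual k F) : Prop :=
  ∃ (I : FractionalIdeal A⁰ F) (J : FractionalIdeal B⁰ F), I ≠ 0 ∧ J ≠ 0 ∧ φ ∈ Om k I J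

theorem exists_common {φ ψ : Dual k F} (hφ : IsDiff k A B φ) (hψ : IsDiff k A B ψ) :
    ∃ (I : FractionalIdeal A⁰ F) (J : FractionalIdeal B⁰ F), I ≠ 0 ∧ J ≠ 0 ∧ φ ∈ Om k I J ∧
      ψ ∈ Om k I J := by
  obtain ⟨I, J, hI, hJ, h⟩ := hφ
  obtain ⟨I', J', hI', hJ', h'⟩ := hψ
  exact ⟨I ⊓ I', J ⊓ J', inf_ne_zero hI hI', inf_ne_zero hJ hJ', Om_anti k inf_le_left inf_le_left h,
    Om_anti k inf_le_right inf_le_right h'⟩

/-- Two nonzero differentials are proportional over `F`. -/
theorem exists_act_eq (hbig : ∀ n : ℤ, ∃ (I : FractionalIdeal A⁰ F) (J : FractionalIdeal B⁰ F),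
      I ≠ 0 ∧ J ≠ 0 ∧ n ≤ deg k I + deg k J) {φ ψ : Dual k F}
    (hφ : IsDiff k A B φ) (hψ : IsDiff k A B ψ) (hφ0 : φ ≠ 0) : ∃ x : F, ψ = act k x φ := by
  have := hP.finA
  have := hP.finB
  by_contra hcon
  push Not at hcon
  obtain ⟨I, J, hI, hJ, h1', h2'⟩ := exists_common (A := A) (B := B) k hφ hψ
  -- independence
  have hind : ∀ x y : F, act k x φ + act k y ψ = 0 → x = 0 ∧ y = 0 := by
    intro x y hxy
    by_cases hy : y = 0
    · subst hy
      refine ⟨?_, rfl⟩
      by_contra hx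
      apply hφ0
      apply act_eq_zero k hx
      rw [← hxy]
      ext z
      simp
    · exfalso
      apply hcon (-(y⁻¹ * x))
      ext z
      have := congrArg (fun f : Dual k F => f (y⁻¹ * z)) hxy
      simp only [LinearMap.add_apply, act_apply, LinearMap.zero_apply] at this
      rw [mul_inv_cancel_left₀ hy] at this
      rw [act_apply, neg_mul, map_neg, eq_neg_iff_add_eq_zero, add_comm, ← this]
      congr 2
      ring
  obtain ⟨I', J', hI', hJ', hn⟩ := hbig
    (|deg k I| + |deg k J| + 3 * |chi1 k F A B| + 1)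
  -- the map
  let E := H0 k I' J'
  let f : (E × E) →ₗ[k] Om k (I * I'⁻¹) (J * J'⁻¹) :=
    { toFun := fun p => ⟨act k (p.1 : F) φ + act k (p.2 : F) ψ, by
        rw [mem_Om] at h1' h2' ⊢
        constructor
        · intro z hz
          simp only [LinearMap.add_apply, act_apply]
          rw [h1'.1 _ (mul_mem_of_mem_inv hI' p.1.2.1 hz), h2'.1 _ (mul_mem_of_mem_inv hI' p.2.2.1 hz), add_zero]
        · intro z hz
          simp only [LinearMap.add_apply, act_apply]
          rw [h1'.2 _ (mul_mem_of_mem_inv hJ' p.1.2.2 hz), h2'.2 _ (mul_mem_of_mem_inv hJ' p.2.2.2 hz), add_zero]⟩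
      map_add' := by
        intro p q
        ext z
        simp only [Prod.fst_add, Prod.snd_add, Submodule.coe_add, LinearMap.add_apply, act_apply,
          add_mul, map_add]
        ring
      map_smul' := by
        intro c p
        ext z
        simp only [Prod.smul_fst, Prod.smul_snd, Submodule.coe_smul, LinearMap.add_apply,
          act_apply, Algebra.smul_mul_assoc, map_smul, LinearMap.smul_apply, smul_add,
          RingHom.id_apply] }
  have hf : Function.Injective f := by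
    refine (injective_iff_map_eq_zero f).2 ?_
    rintro ⟨x, y⟩ hxy
    obtain ⟨hx, hy⟩ := hind (x : F) (y : F) (congrArg Subtype.val hxy)
    ext
    · exact hx
    · exact hy
  have hI2 : I * I'⁻¹ ≠ 0 := mul_ne_zero hI (inv_ne_zero hI')
  have hJ2 : J * J'⁻¹ ≠ 0 := mul_ne_zero hJ (inv_ne_zero hJ')
  have := finite_Om k hI2 hJ2
  have := fin0 k hI' hJ'
  have e1 := LinearMap.finrank_le_finrank_of_injective hf
  rw [finrank_Om k hI2 hJ2, Module.finrank_prod] at e1
  have e2 := rr k hI2 hJ2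
  have e3 := riemann k hI' hJ'
  rw [deg_mul k hI (inv_ne_zero hI'), deg_mul k hJ (inv_ne_zero hJ'), deg_inv k hI', deg_inv k hJ'] at e2
  have e4 : h0 k (I * I'⁻¹) (J * J'⁻¹) = 0 := by
    apply h0_eq_zero_of_neg k
    rw [deg_mul k hI (inv_ne_zero hI'), deg_mul k hJ (inv_ne_zero hJ'), deg_inv k hI', deg_inv k hJ']
    have := le_abs_self (deg k I)
    have := le_abs_self (deg k J)
    have := abs_nonneg (chi1 k F A B)
    omega
  rw [e4] at e2
  change h0 k I' J' + h0 k I' J' ≤ h1 k (I * I'⁻¹) (J * J'⁻¹) at e1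
  have a1 := neg_abs_le (deg k I)
  have a2 := neg_abs_le (deg k J)
  have a3 := neg_abs_le (chi1 k F A B)
  have a4 := le_abs_self (chi1 k F A B)
  push_cast at e2
  omega

/-- Existence of a canonical divisor. -/
theorem exists_canonical (hbig : ∀ n : ℤ, ∃ (I : FractionalIdeal A⁰ F) (J : FractionalIdeal B⁰ F),
      I ≠ 0 ∧ J ≠ 0 ∧ n ≤ deg k I + deg k J) :
    ∃ (W : FractionalIdeal A⁰ F) (W' : FractionalIdeal B⁰ F), W ≠ 0 ∧ W' ≠ 0 ∧
      ∀ (I : FractionalIdeal A⁰ F) (J : FractionalIdeal B⁰ F), I ≠ 0 → J ≠ 0 →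
        h1 k I J = h0 k (W * I⁻¹) (W' * J⁻¹) := by
  have := hP.finA
  have := hP.finB
  -- a nonzero differential
  obtain ⟨φ, hφ0, hφ⟩ : ∃ φ : Dual k F, φ ≠ 0 ∧ IsDiff k A B φ := by
    obtain ⟨I', J', hI', hJ', hn⟩ := hbig (|chi1 k F A B| + 1)
    have e1 := rr k (inv_ne_zero hI') (inv_ne_zero hJ')
    rw [deg_inv k hI', deg_inv k hJ'] at e1
    have e2 : h1 k I'⁻¹ J'⁻¹ ≠ 0 := by
      have a4 := le_abs_self (chi1 k F A B)
      omega
    rw [← finrank_Om k (inv_ne_zero hI') (inv_ne_zero hJ')] at e2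
    have : Om k I'⁻¹ J'⁻¹ ≠ ⊥ := by
      intro h
      rw [h, finrank_bot] at e2
      exact e2 rfl
    obtain ⟨φ, hφ, hφ0⟩ := Submodule.exists_mem_ne_zero_of_ne_bot this
    exact ⟨φ, hφ0, _, _, inv_ne_zero hI', inv_ne_zero hJ', hφ⟩
  -- degree bound
  obtain ⟨c, hc⟩ := exists_bound (F := F) (A := A) (B := B) k
  have hlt : ∀ (I : FractionalIdeal A⁰ F) (J : FractionalIdeal B⁰ F), I ≠ 0 → J ≠ 0 →
      φ ∈ Om k I J → deg k I + deg k J < c := by
    intro I J hI hJ h
    by_contra hcon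
    push Not at hcon
    have e1 := hc I J hI hJ hcon
    rw [← finrank_Om k hI hJ] at e1
    have := finite_Om k hI hJ
    have e2 : Om k I J = ⊥ := Submodule.finrank_eq_zero.1 e1
    rw [e2] at h
    exact hφ0 h
  -- maximal degree
  obtain ⟨W, W', hW, hW', hWφ, hmax⟩ : ∃ (W : FractionalIdeal A⁰ F) (W' : FractionalIdeal B⁰ F),
      W ≠ 0 ∧ W' ≠ 0 ∧ φ ∈ Om k W W' ∧ ∀ (I : FractionalIdeal A⁰ F) (J : FractionalIdeal B⁰ F),
        I ≠ 0 → J ≠ 0 → φ ∈ Om k I J → deg k I + deg k J ≤ deg k W + deg k W' := by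
    let S : Set ℤ := {n | ∃ (I : FractionalIdeal A⁰ F) (J : FractionalIdeal B⁰ F),
      I ≠ 0 ∧ J ≠ 0 ∧ φ ∈ Om k I J ∧ n = deg k I + deg k J}
    have hne : S.Nonempty := by
      obtain ⟨I, J, hI, hJ, h⟩ := hφ
      exact ⟨_, I, J, hI, hJ, h, rfl⟩
    have hbdd : ∀ n ∈ S, n ≤ c := by
      rintro n ⟨I, J, hI, hJ, h, rfl⟩
      exact (hlt I J hI hJ h).le
    obtain ⟨m, hm, hm'⟩ := Int.exists_greatest_of_bdd (P := fun n => n ∈ S) ⟨c, hbdd⟩ hne
    obtain ⟨W, W', hW, hW', h, rfl⟩ := hm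
    exact ⟨W, W', hW, hW', h, fun I J hI hJ h' => hm' _ ⟨I, J, hI, hJ, h', rfl⟩⟩
  -- characterization
  have hchar : ∀ (I : FractionalIdeal A⁰ F) (J : FractionalIdeal B⁰ F), I ≠ 0 → J ≠ 0 →
      φ ∈ Om k I J → I ≤ W ∧ J ≤ W' := by
    intro I J hI hJ h
    have hsup : φ ∈ Om k (W ⊔ I) (W' ⊔ J) := by
      rw [mem_Om] at hWφ h ⊢
      constructor
      · intro x hx
        rw [FractionalIdeal.sup_eq_add, ← FractionalIdeal.mem_coe, FractionalIdeal.coe_add] at hx
        obtain ⟨a, ha, b, hb, rfl⟩ := Submodule.mem_sup.1 hx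
        rw [map_add, hWφ.1 a ha, h.1 b hb, add_zero]
      · intro x hx
        rw [FractionalIdeal.sup_eq_add, ← FractionalIdeal.mem_coe, FractionalIdeal.coe_add] at hx
        obtain ⟨a, ha, b, hb, rfl⟩ := Submodule.mem_sup.1 hx
        rw [map_add, hWφ.2 a ha, h.2 b hb, add_zero]
    have hne1 : W ⊔ I ≠ 0 := by
      intro h'
      have : W ≤ 0 := h' ▸ le_sup_left
      exact hW (le_antisymm this (FractionalIdeal.zero_le _))
    have hne2 : W' ⊔ J ≠ 0 := by
      intro h'
      have : W' ≤ 0 := h' ▸ le_sup_left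
      exact hW' (le_antisymm this (FractionalIdeal.zero_le _))
    have e1 := hmax _ _ hne1 hne2 hsup
    have e2 := deg_mono k hW (le_sup_left : W ≤ W ⊔ I)
    have e3 := deg_mono k hW' (le_sup_left : W' ≤ W' ⊔ J)
    have e4 := eq_of_deg_eq k hW (le_sup_left : W ≤ W ⊔ I) (by omega)
    have e5 := eq_of_deg_eq k hW' (le_sup_left : W' ≤ W' ⊔ J) (by omega)
    exact ⟨e4 ▸ le_sup_right, e5 ▸ le_sup_right⟩
  refine ⟨W, W', hW, hW', fun I J hI hJ => ?_⟩
  rw [← finrank_Om k hI hJ]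
  unfold h0
  let g : H0 k (W * I⁻¹) (W' * J⁻¹) →ₗ[k] Om k I J :=
    { toFun := fun x => ⟨act k (x : F) φ, by
        rw [mem_Om] at hWφ ⊢
        exact ⟨fun z hz => hWφ.1 _ (mul_mem_of_mem_inv' hI x.2.1 hz), fun z hz => hWφ.2 _ (mul_mem_of_mem_inv' hJ x.2.2 hz)⟩⟩
      map_add' := by
        intro p q
        ext z
        simp only [Submodule.coe_add, LinearMap.add_apply, act_apply, add_mul, map_add]
      map_smul' := by
        intro c p
        ext z
        simp only [Submodule.coe_smul, act_apply, Algebra.smul_mul_assoc, map_smul,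
          LinearMap.smul_apply, RingHom.id_apply] }
  have hg : Function.Bijective g := by
    constructor
    · refine (injective_iff_map_eq_zero g).2 ?_
      intro x hx
      by_contra hx0
      apply hφ0
      apply act_eq_zero k (x := (x : F)) (fun h => hx0 (Subtype.ext h))
      exact congrArg Subtype.val hx
    · rintro ⟨ψ, hψ⟩
      obtain ⟨x, rfl⟩ := exists_act_eq (A := A) (B := B) k hbig hφ ⟨I, J, hI, hJ, hψ⟩ hφ0
      by_cases hx : x = 0
      · subst hx
        refine ⟨0, ?_⟩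
        ext z
        simp
      · rw [mem_Om] at hψ
        have h3 : φ ∈ Om k (pA A x * I) (pA B x * J) := by
          rw [mem_Om]
          constructor
          · intro z hz
            rw [mem_pA_mul hx] at hz
            have := hψ.1 _ hz
            rwa [act_apply, mul_inv_cancel_left₀ hx] at this
          · intro z hz
            rw [mem_pA_mul hx] at hz
            have := hψ.2 _ hz
            rwa [act_apply, mul_inv_cancel_left₀ hx] at this
        obtain ⟨h4, h5⟩ := hchar _ _ (mul_ne_zero (pA_ne_zero hx) hI) (mul_ne_zero (pA_ne_zero hx) hJ) h3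
        exact ⟨⟨x, mem_mul_inv_of_le hI h4, mem_mul_inv_of_le hJ h5⟩, rfl⟩
  exact (LinearEquiv.ofBijective g hg).symm.finrank_eq

end Groth.Agent.Cohder.HWDual
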