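import Mathlib.FieldTheory.LinearDisjoint
import Mathlib.RingTheory.Polynomial.IsIntegral
import Mathlib.FieldTheory.PrimitiveElement
import Mathlib.FieldTheory.Perfect

/-!
# Linear disjointness

If `k` is perfect and algebraically closed in `F`, and `E / k` is algebraic, `F ⊗[k] E` is a field.
-/

set_option autoImplicit false

namespace Groth.Agent.Cohder.HWLD

open Polynomial Module TensorProduct

section

variable {k A Ω : Type*} [Field k] [Field A] [Field Ω] [Algebra k A] [Algebra k Ω] [Algebra A Ω]
  [IsScalarTower k A Ω]

/-- The degree of the minimal polynomial does not drop. -/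
theorem natDegree_minpoly_eq (hk : ∀ x : A, IsIntegral k x → x ∈ (algebraMap k A).range) {c : Ω}
    (hc : IsIntegral k c) : (minpoly A c).natDegree = (minpoly k c).natDegree := by
  have hcA : IsIntegral A c := hc.tower_top
  have hdvd : minpoly A c ∣ (minpoly k c).map (algebraMap k A) := minpoly.dvd_map_of_isScalarTower k A c
  have hcoef : ∀ i, (minpoly A c).coeff i ∈ (algebraMap k A).range := fun i =>
    hk _ (isIntegral_coeff_of_dvd (minpoly k c) (minpoly A c) (minpoly.monic hc)
      (minpoly.monic hcA) hdvd i)
  have hlift : minpoly A c ∈ lifts (algebraMap k A) := by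
    rw [lifts_iff_coeff_lifts]
    intro i
    exact hcoef i
  obtain ⟨g, hg, hgdeg, hgm⟩ := lifts_and_natDegree_eq_and_monic hlift (minpoly.monic hcA)
  have h1 : aeval c g = 0 := by
    rw [← aeval_map_algebraMap A, hg, minpoly.aeval]
  apply le_antisymm
  · have := natDegree_le_of_dvd hdvd (((minpoly.monic hc).map _).ne_zero)
    rwa [natDegree_map] at this
  · rw [← hgdeg]
    exact natDegree_le_of_dvd (minpoly.dvd k c h1) hgm.ne_zero

end

/-- Linear disjointness of an extension in which the perfect field `k` is algebraically closed and of an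
algebraic extension. -/
theorem linearDisjoint {k Ω : Type*} [Field k] [PerfectField k] [Field Ω] [Algebra k Ω]
    (A B : IntermediateField k Ω)
    (hk : ∀ x : A, IsIntegral k x → x ∈ (algebraMap k A).range) [hB : Algebra.IsAlgebraic k B] :
    A.LinearDisjoint B := by
  rw [IntermediateField.linearDisjoint_iff']
  have : Algebra.IsIntegral k B.toSubalgebra := Algebra.IsAlgebraic.isIntegral (K := k) (A := B)
  apply Subalgebra.LinearDisjoint.of_linearDisjoint_finite_right
  intro B' hB' hfin
  have hf : IsField B' := by
    have : Algebra.IsIntegral k B' := inferInstance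
    exact isField_of_isIntegral_of_isField' (R := k) (Field.toIsField k)
  let C : IntermediateField k Ω := B'.toIntermediateField' hf
  have hC : FiniteDimensional k C := hfin
  let pb := Field.powerBasisOfFiniteOfSeparable k C
  let b : Basis (Fin pb.dim) k B' := pb.basis
  apply Subalgebra.LinearDisjoint.of_basis_right _ _ b
  have hgen : IsIntegral k (pb.gen : Ω) := by
    have := Algebra.IsIntegral.isIntegral (R := k) pb.gen
    exact this.map C.val
  have hdeg : pb.dim = (minpoly A (pb.gen : Ω)).natDegree := by
    rw [natDegree_minpoly_eq hk hgen, ← pb.natDegree_minpoly]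
    congr 1
    exact (minpoly.algebraMap_eq (algebraMap C Ω).injective pb.gen).symm
  have h1 := linearIndependent_pow (K := A) (pb.gen : Ω)
  rw [← hdeg] at h1
  have h2 : (B'.val ∘ b) = fun i : Fin pb.dim => (pb.gen : Ω) ^ (i : ℕ) := by
    funext i
    change ((pb.basis i : C) : Ω) = _
    rw [PowerBasis.basis_eq_pow]
    rfl
  rw [h2]
  exact h1

theorem isField {k F E : Type*} [Field k] [PerfectField k] [Field F] [Field E] [Algebra k F]
    [Algebra k E] (hk : ∀ x : F, IsAlgebraic k x → x ∈ (algebraMap k F).range)
    [Algebra.IsAlgebraic k E] : IsField (F ⊗[k] E) := by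
  apply IntermediateField.LinearDisjoint.isField_of_forall
  intro Ω _ _ fa fb
  have : Algebra.IsAlgebraic k fb.fieldRange :=
    (AlgEquiv.ofInjectiveField fb).isAlgebraic
  apply linearDisjoint
  rintro ⟨_, ⟨x, rfl⟩⟩ hx
  have h1 : IsIntegral k (fa x) := hx.map fa.fieldRange.val
  have h2 : IsIntegral k x := (isIntegral_algHom_iff fa fa.injective).1 h1
  obtain ⟨a, rfl⟩ := hk x h2.isAlgebraic
  refine ⟨a, ?_⟩
  apply Subtype.ext
  exact (fa.commutes a).symm

end Groth.Agent.Cohder.HWLD
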