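import Mathlib.LinearAlgebra.Dimension.Finite
import Mathlib.LinearAlgebra.FiniteDimensional.Lemmas
import Mathlib.LinearAlgebra.Isomorphisms
import Mathlib.Tactic

/-!
# Linear algebra: Euler characteristic of a pair of subspaces

For subspaces `I ≤ I'` and `J` of a vector space `V` with `I'/I` finite-dimensional:
`dim (I' ⊓ J) - dim V/(I' ⊔ J) = dim (I ⊓ J) - dim V/(I ⊔ J) + dim I'/I`.
-/

set_option autoImplicit false

namespace Groth.Agent.Cohder.HWLinAlg

open Module Submodule

variable {k V : Type*} [Field k] [AddCommGroup V] [Module k V]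

/-- The quotient `I'/I`, with `I ≤ I'` subspaces of `V`. -/
abbrev Q (I I' : Submodule k V) : Type _ := I' ⧸ I.comap I'.subtype

/-- `I' ⊓ J → I'/I`. -/
noncomputable def phi (I I' J : Submodule k V) : ↥(I' ⊓ J) →ₗ[k] Q I I' :=
  (I.comap I'.subtype).mkQ ∘ₗ Submodule.inclusion inf_le_left

theorem ker_phi (I I' J : Submodule k V) (h : I ≤ I') :
    LinearMap.ker (phi I I' J) = (I ⊓ J).comap (I' ⊓ J).subtype := by
  ext ⟨x, hx⟩
  simp only [phi, LinearMap.mem_ker, LinearMap.comp_apply, Submodule.mkQ_apply,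
    Submodule.Quotient.mk_eq_zero, Submodule.mem_comap, Submodule.subtype_apply,
    Submodule.coe_inclusion, Submodule.mem_inf]
  exact ⟨fun hI => ⟨hI, hx.2⟩, fun hI => hI.1⟩

/-- `I'/I → V/(I ⊔ J)`. -/
noncomputable def psi (I I' J : Submodule k V) : Q I I' →ₗ[k] V ⧸ (I ⊔ J) :=
  Submodule.mapQ _ _ I'.subtype (Submodule.comap_mono le_sup_left)

theorem psi_mk (I I' J : Submodule k V) (x : I') :
    psi I I' J (Submodule.Quotient.mk x) = Submodule.Quotient.mk (x : V) := rfl

theorem ker_psi (I I' J : Submodule k V) (h : I ≤ I') :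
    LinearMap.ker (psi I I' J) = LinearMap.range (phi I I' J) := by
  ext x
  obtain ⟨⟨x, hx⟩, rfl⟩ := Submodule.Quotient.mk_surjective _ x
  rw [LinearMap.mem_ker, psi_mk, Submodule.Quotient.mk_eq_zero, LinearMap.mem_range]
  constructor
  · intro hx'
    obtain ⟨i, hi, j, hj, hij⟩ := Submodule.mem_sup.1 hx'
    change i + j = x at hij
    have hj' : j ∈ I' := by
      have : j = x - i := by rw [← hij]; abel
      rw [this]
      exact I'.sub_mem hx (h hi)
    refine ⟨⟨j, hj', hj⟩, ?_⟩
    change (Submodule.Quotient.mk _ : Q I I') = Submodule.Quotient.mk _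
    rw [Submodule.Quotient.eq]
    change j - x ∈ I
    have : j - x = -i := by rw [← hij]; abel
    rw [this]
    exact I.neg_mem hi
  · rintro ⟨⟨y, hy⟩, hyx⟩
    change (Submodule.Quotient.mk _ : Q I I') = Submodule.Quotient.mk _ at hyx
    rw [Submodule.Quotient.eq] at hyx
    change y - x ∈ I at hyx
    change x ∈ I ⊔ J
    have : x = -(y - x) + y := by abel
    rw [this]
    exact Submodule.add_mem_sup (I.neg_mem hyx) hy.2

/-- `V/(I ⊔ J) → V/(I' ⊔ J)`. -/
noncomputable def pr (I I' J : Submodule k V) (h : I ≤ I') : (V ⧸ (I ⊔ J)) →ₗ[k] V ⧸ (I' ⊔ J) :=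
  Submodule.mapQ _ _ LinearMap.id (by
    rw [Submodule.comap_id]
    exact sup_le_sup_right h J)

theorem pr_surjective (I I' J : Submodule k V) (h : I ≤ I') : Function.Surjective (pr I I' J h) := by
  intro x
  obtain ⟨x, rfl⟩ := Submodule.Quotient.mk_surjective _ x
  exact ⟨Submodule.Quotient.mk x, rfl⟩

theorem ker_pr (I I' J : Submodule k V) (h : I ≤ I') :
    LinearMap.ker (pr I I' J h) = LinearMap.range (psi I I' J) := by
  ext x
  obtain ⟨x, rfl⟩ := Submodule.Quotient.mk_surjective _ x
  rw [LinearMap.mem_ker, LinearMap.mem_range]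
  change (Submodule.Quotient.mk x : V ⧸ (I' ⊔ J)) = 0 ↔ _
  rw [Submodule.Quotient.mk_eq_zero]
  constructor
  · intro hx
    obtain ⟨i, hi, j, hj, hij⟩ := Submodule.mem_sup.1 hx
    refine ⟨Submodule.Quotient.mk ⟨i, hi⟩, ?_⟩
    rw [psi_mk, Submodule.Quotient.eq]
    have : (i : V) - x = -j := by rw [← hij]; abel
    change i - x ∈ I ⊔ J
    rw [this]
    exact Submodule.mem_sup_right (J.neg_mem hj)
  · rintro ⟨y, hy⟩
    obtain ⟨⟨y, hy'⟩, rfl⟩ := Submodule.Quotient.mk_surjective _ y
    rw [psi_mk, Submodule.Quotient.eq] at hy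
    change y - x ∈ I ⊔ J at hy
    have : x = y - (y - x) := by abel
    rw [this]
    exact Submodule.sub_mem _ (Submodule.mem_sup_left hy') (sup_le_sup_right h J hy)

/-- The kernel of `phi` is `I ⊓ J`. -/
noncomputable def kerPhiEquiv (I I' J : Submodule k V) (h : I ≤ I') :
    LinearMap.ker (phi I I' J) ≃ₗ[k] ↥(I ⊓ J) :=
  (LinearEquiv.ofEq _ _ (ker_phi I I' J h)).trans
    (Submodule.comapSubtypeEquivOfLe (inf_le_inf_right J h))

/-- The kernel of `pr` is the range of `psi`, i.e. `(I'/I)/ker`. -/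
theorem finite_of_ker_range {W W' : Type*} [AddCommGroup W] [Module k W] [AddCommGroup W'] [Module k W']
    (f : W →ₗ[k] W') (h1 : FiniteDimensional k (LinearMap.ker f))
    (h2 : FiniteDimensional k (LinearMap.range f)) : FiniteDimensional k W := by
  have : Module.Finite k (W ⧸ LinearMap.ker f) := Module.Finite.equiv f.quotKerEquivRange.symm
  exact Module.Finite.of_submodule_quotient (LinearMap.ker f)

section Finite

variable (I I' J : Submodule k V) (h : I ≤ I') [FiniteDimensional k (Q I I')]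

include h

theorem finite_inf_iff : FiniteDimensional k ↥(I ⊓ J) ↔ FiniteDimensional k ↥(I' ⊓ J) := by
  constructor
  · intro hIJ
    exact finite_of_ker_range (phi I I' J) (Module.Finite.equiv (kerPhiEquiv I I' J h).symm)
      inferInstance
  · intro hIJ
    exact Submodule.finiteDimensional_of_le (inf_le_inf_right J h)

theorem finite_quot_iff :
    FiniteDimensional k (V ⧸ (I ⊔ J)) ↔ FiniteDimensional k (V ⧸ (I' ⊔ J)) := by
  constructor
  · intro hIJ
    exact Module.Finite.of_surjective _ (pr_surjective I I' J h)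
  · intro hIJ
    refine finite_of_ker_range (pr I I' J h) ?_ inferInstance
    rw [ker_pr I I' J h]
    infer_instance

/-- The main formula. -/
theorem finrank_formula [FiniteDimensional k ↥(I' ⊓ J)] [FiniteDimensional k (V ⧸ (I ⊔ J))] :
    finrank k ↥(I' ⊓ J) + finrank k (V ⧸ (I ⊔ J)) =
      finrank k ↥(I ⊓ J) + finrank k (V ⧸ (I' ⊔ J)) + finrank k (Q I I') := by
  have e1 := (phi I I' J).finrank_range_add_finrank_ker
  rw [(kerPhiEquiv I I' J h).finrank_eq] at e1
  have e2 := (psi I I' J).finrank_range_add_finrank_ker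
  rw [ker_psi I I' J h] at e2
  have e3 := (pr I I' J h).finrank_range_add_finrank_ker
  rw [ker_pr I I' J h, LinearMap.range_eq_top.2 (pr_surjective I I' J h), finrank_top] at e3
  omega

end Finite

end Groth.Agent.Cohder.HWLinAlg
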