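import Groth.Agent.Cohder.HWCover
import Groth.Agent.Cohder.HWLD
import Mathlib.FieldTheory.IsAlgClosed.AlgebraicClosure

/-!
# The Hasse-Weil growth estimate for function fields over finite fields
-/

set_option autoImplicit false

namespace Groth.Agent.Cohder.HWMain

open Groth.Agent.MiscA.WCPlace Groth.Agent.MiscA.WCPlaceGal Groth.Agent.MiscA.WCPlaceCrv
  Groth.Agent.MiscA.WCPlaceRes HWTrick HWLine WithZero Polynomial TensorProduct

universe u v w z

section sep

variable {k : Type u} {F : Type v} {E : Type w} {L : Type z} [Field k] [Field F] [Field E]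
  [Field L] [Algebra k F] [Algebra k E] [Algebra F L] [Algebra E L] [Algebra k L]
  [IsScalarTower k F L] [IsScalarTower k E L]

omit [IsScalarTower k F L] in
theorem isAlgebraic_of_gen [Algebra.IsAlgebraic k E] [IsScalarTower k F L]
    (hgen : Algebra.adjoin F (Set.range (algebraMap E L)) = ⊤) : Algebra.IsAlgebraic F L := by
  have h1 : Algebra.IsIntegral F (Algebra.adjoin F (Set.range (algebraMap E L))) := by
    apply Algebra.IsIntegral.adjoin
    rintro _ ⟨a, rfl⟩
    have h2 : IsIntegral k (algebraMap E L a) :=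
      (Algebra.IsIntegral.isIntegral (R := k) a).map (IsScalarTower.toAlgHom k E L)
    exact h2.tower_top
  rw [hgen] at h1
  have h2 : Algebra.IsIntegral F L := by
    constructor
    intro x
    exact (h1.isIntegral ⟨x, Algebra.mem_top⟩).map (⊤ : Subalgebra F L).val
  exact h2.isAlgebraic

theorem isSep_baseChange [Algebra.IsAlgebraic k E] {t : F} (hF : IsSep k F t)
    (hgen : Algebra.adjoin F (Set.range (algebraMap E L)) = ⊤) : IsSep E L (algebraMap F L t) := by
  have hmem : ∀ a : IntermediateField.adjoin k {t},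
      algebraMap F L a ∈ IntermediateField.adjoin E {algebraMap F L t} := by
    intro a
    obtain ⟨r, s, hrs⟩ := (IntermediateField.mem_adjoin_simple_iff k _).1 a.2
    rw [hrs, map_div₀, ← aeval_algebraMap_apply, ← aeval_algebraMap_apply,
      IntermediateField.mem_adjoin_simple_iff]
    refine ⟨r.map (algebraMap k E), s.map (algebraMap k E), ?_⟩
    rw [aeval_map_algebraMap, aeval_map_algebraMap]
  let K₀ := IntermediateField.adjoin k {t}
  let K₁ := IntermediateField.adjoin E {algebraMap F L t}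
  let f : K₀ →+* K₁ := ((algebraMap F L).comp (algebraMap K₀ F)).codRestrict K₁ hmem
  let _ := f.toAlgebra
  have : IsScalarTower K₀ K₁ L := IsScalarTower.of_algebraMap_eq (fun _ => rfl)
  have := hF.fin
  have := hF.sep
  refine ⟨?_, ?_, ?_⟩
  · intro h2
    apply hF.tr
    have h3 : IsAlgebraic k (algebraMap F L t) := h2.restrictScalars k
    exact (isAlgebraic_algebraMap_iff (algebraMap F L).injective).1 h3
  · -- finite
    let b := Module.finBasis K₀ F
    let S : Submodule K₁ L := Submodule.span K₁ (Set.range (algebraMap F L ∘ b))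
    have hFS : ∀ x : F, algebraMap F L x ∈ S := by
      intro x
      rw [← b.sum_repr x, map_sum]
      refine sum_mem fun i _ => ?_
      rw [Algebra.smul_def, map_mul]
      have h1 : algebraMap F L (algebraMap K₀ F (b.repr x i)) * algebraMap F L (b i) =
        (f (b.repr x i)) • (algebraMap F L (b i)) := rfl
      rw [h1]
      exact S.smul_mem _ (Submodule.subset_span ⟨i, rfl⟩)
    have hmul : ∀ x : F, ∀ s ∈ S, algebraMap F L x * s ∈ S := by
      intro x s hs
      induction hs using Submodule.span_induction with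
      | mem y hy =>
        obtain ⟨i, rfl⟩ := hy
        rw [Function.comp_apply, ← map_mul]
        exact hFS _
      | zero => rw [mul_zero]; exact zero_mem _
      | add y z _ _ hy hz => rw [mul_add]; exact add_mem hy hz
      | smul a y _ hy => rw [mul_smul_comm]; exact S.smul_mem _ hy
    have hall : ∀ y : L, ∀ s ∈ S, y * s ∈ S := by
      intro y
      have hy : y ∈ Algebra.adjoin F (Set.range (algebraMap E L)) := by
        rw [hgen]
        exact Algebra.mem_top
      induction hy using Algebra.adjoin_induction with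
      | mem x hx =>
        obtain ⟨a, rfl⟩ := hx
        intro s hs
        exact S.smul_mem (algebraMap E K₁ a) hs
      | algebraMap x => exact hmul x
      | add x y _ _ hx hy =>
        intro s hs
        rw [add_mul]
        exact add_mem (hx s hs) (hy s hs)
      | mul x y _ _ hx hy =>
        intro s hs
        rw [mul_assoc]
        exact hx _ (hy s hs)
    have htop : S = ⊤ := by
      rw [eq_top_iff]
      intro y _
      have h1 : (1 : L) ∈ S := by
        rw [← map_one (algebraMap F L)]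
        exact hFS 1
      simpa using hall y 1 h1
    exact ⟨⟨Set.range (algebraMap F L ∘ b) |>.toFinite.toFinset, by simpa using htop⟩⟩
  · -- separable
    have h1 : Algebra.IsSeparable K₁ (IntermediateField.adjoin K₁ (Set.range (algebraMap F L))) := by
      rw [IntermediateField.isSeparable_adjoin_iff_isSeparable]
      rintro _ ⟨x, rfl⟩
      have h2 : IsSeparable K₀ x := Algebra.IsSeparable.isSeparable K₀ x
      have h3 : IsSeparable K₀ (algebraMap F L x) := by
        unfold IsSeparable at h2 ⊢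
        rwa [minpoly.algebraMap_eq (algebraMap F L).injective]
      exact h3.tower_top K₁
    have h4 : IntermediateField.adjoin K₁ (Set.range (algebraMap F L)) = ⊤ := by
      rw [eq_top_iff]
      intro y _
      have hy : y ∈ Algebra.adjoin F (Set.range (algebraMap E L)) := by
        rw [hgen]
        exact Algebra.mem_top
      induction hy using Algebra.adjoin_induction with
      | mem x hx =>
        obtain ⟨a, rfl⟩ := hx
        exact algebraMap_mem (IntermediateField.adjoin K₁ (Set.range (algebraMap F L)))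
          (algebraMap E K₁ a)
      | algebraMap x => exact IntermediateField.subset_adjoin K₁ _ ⟨x, rfl⟩
      | add x y _ _ hx hy => exact add_mem (hx trivial) (hy trivial)
      | mul x y _ _ hx hy => exact mul_mem (hx trivial) (hy trivial)
    rw [h4] at h1
    exact Algebra.IsSeparable.of_algHom (F := K₁) (E := L) (E' := (⊤ : IntermediateField K₁ L))
      IntermediateField.topEquiv.symm.toAlgHom

end sep

/-- The constant field extension by the algebraic closure, with its Frobenius. -/
theorem exists_extension (k : Type u) (F : Type v) [Field k] [Finite k] [Field F] [Algebra k F]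
    (hk : ∀ x : F, IsAlgebraic k x → x ∈ (algebraMap k F).range) (E : Type w) [Field E]
    [Algebra k E] [Algebra.IsAlgebraic k E] :
    ∃ (L : Type (max v w)) (_ : Field L) (_ : Algebra F L) (_ : Algebra E L) (_ : Algebra k L),
      IsScalarTower k F L ∧ IsScalarTower k E L ∧
      Algebra.adjoin F (Set.range (algebraMap E L)) = ⊤ ∧
      ∃ θ : L ≃+* L, (∀ x : F, θ (algebraMap F L x) = algebraMap F L x) ∧
        ∀ a : E, θ (algebraMap E L a) = algebraMap E L (a ^ Nat.card k) := by
  have hf : IsField (F ⊗[k] E) := HWLD.isField hk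
  have hmax : (⊥ : Ideal (F ⊗[k] E)).IsMaximal := by
    let _ := hf.toField
    exact Ideal.bot_isMaximal
  let _ := Fintype.ofFinite k
  let π := Ideal.Quotient.mk (⊥ : Ideal (F ⊗[k] E))
  let i₁ : F →+* (F ⊗[k] E) ⧸ (⊥ : Ideal (F ⊗[k] E)) :=
    π.comp (Algebra.TensorProduct.includeLeft : F →ₐ[k] F ⊗[k] E).toRingHom
  let i₂ : E →+* (F ⊗[k] E) ⧸ (⊥ : Ideal (F ⊗[k] E)) :=
    π.comp (Algebra.TensorProduct.includeRight : E →ₐ[k] F ⊗[k] E).toRingHom
  let θ : F ⊗[k] E ≃+* F ⊗[k] E := (Algebra.TensorProduct.congr (AlgEquiv.refl : F ≃ₐ[k] F)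
    (FiniteField.frobeniusAlgEquivOfAlgebraic k E)).toRingEquiv
  let θ' : (F ⊗[k] E) ⧸ (⊥ : Ideal (F ⊗[k] E)) ≃+* (F ⊗[k] E) ⧸ (⊥ : Ideal (F ⊗[k] E)) :=
    (RingEquiv.quotientBot _).trans (θ.trans (RingEquiv.quotientBot _).symm)
  have hθ' : ∀ x : F ⊗[k] E, θ' (π x) = π (θ x) := fun x => rfl
  let fL : Field ((F ⊗[k] E) ⧸ (⊥ : Ideal (F ⊗[k] E))) := Ideal.Quotient.field _
  let a₁ : Algebra F ((F ⊗[k] E) ⧸ (⊥ : Ideal (F ⊗[k] E))) := i₁.toAlgebra
  let a₂ : Algebra E ((F ⊗[k] E) ⧸ (⊥ : Ideal (F ⊗[k] E))) := i₂.toAlgebra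
  let a₃ : Algebra k ((F ⊗[k] E) ⧸ (⊥ : Ideal (F ⊗[k] E))) := (i₁.comp (algebraMap k F)).toAlgebra
  refine ⟨(F ⊗[k] E) ⧸ (⊥ : Ideal (F ⊗[k] E)), fL, a₁, a₂, a₃, ?_, ?_, ?_, θ', ?_, ?_⟩
  · exact IsScalarTower.of_algebraMap_eq' rfl
  · refine IsScalarTower.of_algebraMap_eq fun a => ?_
    change π ((algebraMap k F a) ⊗ₜ[k] (1 : E)) = π ((1 : F) ⊗ₜ[k] (algebraMap k E a))
    rw [Algebra.algebraMap_eq_smul_one, Algebra.algebraMap_eq_smul_one, smul_tmul]
  · rw [eq_top_iff]
    intro y _
    obtain ⟨y, rfl⟩ := Ideal.Quotient.mk_surjective y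
    induction y using TensorProduct.induction_on with
    | zero => rw [map_zero]; exact zero_mem _
    | tmul x a =>
      have h1 : π (x ⊗ₜ[k] a) = i₁ x * i₂ a := by
        change _ = π (x ⊗ₜ[k] (1 : E)) * π ((1 : F) ⊗ₜ[k] a)
        rw [← map_mul, Algebra.TensorProduct.tmul_mul_tmul, mul_one, one_mul]
      have h2 : i₁ x ∈ Algebra.adjoin F (Set.range
          (algebraMap E ((F ⊗[k] E) ⧸ (⊥ : Ideal (F ⊗[k] E))))) :=
        algebraMap_mem (Algebra.adjoin F (Set.range
          (algebraMap E ((F ⊗[k] E) ⧸ (⊥ : Ideal (F ⊗[k] E)))))) x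
      have h3 : i₂ a ∈ Algebra.adjoin F (Set.range
          (algebraMap E ((F ⊗[k] E) ⧸ (⊥ : Ideal (F ⊗[k] E))))) :=
        Algebra.subset_adjoin ⟨a, rfl⟩
      exact h1 ▸ mul_mem h2 h3
    | add x y hx hy =>
      rw [map_add]
      exact add_mem (hx trivial) (hy trivial)
  · intro x
    change θ' (π (x ⊗ₜ[k] (1 : E))) = π (x ⊗ₜ[k] (1 : E))
    rw [hθ']
    congr 1
    change (Algebra.TensorProduct.congr (AlgEquiv.refl : F ≃ₐ[k] F)
      (FiniteField.frobeniusAlgEquivOfAlgebraic k E)) (x ⊗ₜ[k] (1 : E)) = _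
    rw [Algebra.TensorProduct.congr_apply, Algebra.TensorProduct.map_tmul]
    simp
  · intro a
    change θ' (π ((1 : F) ⊗ₜ[k] a)) = π ((1 : F) ⊗ₜ[k] (a ^ Nat.card k))
    rw [hθ']
    congr 1
    change (Algebra.TensorProduct.congr (AlgEquiv.refl : F ≃ₐ[k] F)
      (FiniteField.frobeniusAlgEquivOfAlgebraic k E)) ((1 : F) ⊗ₜ[k] a) =
        (1 : F) ⊗ₜ[k] (a ^ Nat.card k)
    rw [Algebra.TensorProduct.congr_apply, Algebra.TensorProduct.map_tmul]
    simp

/-- The growth estimate for the numbers of points of a curve over a finite field. -/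
theorem main {k : Type u} {F : Type v} [Field k] [Finite k] [Field F] [Algebra k F]
    (hk : ∀ x : F, IsAlgebraic k x → x ∈ (algebraMap k F).range) (h : ∃ t : F, IsSep k F t) :
    ∃ c : ℝ, ∀ n : ℕ, 1 ≤ n →
      |(Groth.Agent.MiscA.ZetaAbsCount.N (crv h).dg0 n : ℝ) - (Nat.card k : ℝ) ^ n| ≤
        c * Real.sqrt (Nat.card k) ^ n := by
  obtain ⟨t, hF⟩ := h
  let E := AlgebraicClosure k
  obtain ⟨L, _, _, _, _, _, _, hgen, θ, hθF, hθE⟩ := exists_extension k F hk E
  have : Algebra.IsAlgebraic F L := isAlgebraic_of_gen (k := k) (E := E) hgen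
  have hL : IsSep E L (algebraMap F L t) := isSep_baseChange hF hgen
  let _ := Fintype.ofFinite k
  obtain ⟨p, hp⟩ := CharP.exists k
  obtain ⟨e, hpp, hcard⟩ := FiniteField.card k p
  have : Fact p.Prime := ⟨hpp⟩
  have : CharP E p := charP_of_injective_algebraMap (algebraMap k E).injective p
  have hq : Nat.card k = p ^ (e : ℕ) := by rw [Nat.card_eq_fintype_card, hcard]
  obtain ⟨c, hc⟩ := HWKbar.growth p hL θ e e.2 (by rw [← hq]; exact hθE) (hθF t)
  refine ⟨c, fun n hn => ?_⟩
  obtain ⟨hfin, hb⟩ := hc n hn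
  rw [HWCover.card_fix hF hL hgen θ hθF hθE n hn, hq]
  push_cast
  exact hb

end Groth.Agent.Cohder.HWMain
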