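import Groth.Agent.Cohder.HWDeg

/-!
# Riemann–Roch for a pair of Dedekind domains

`A`, `B` are Dedekind domains with the same fraction field `F`, all over a field `k`.  A divisor is a
pair `D = (I, J)` of nonzero fractional ideals (`I` of `A`, `J` of `B`), `H⁰(D) = I ∩ J`,
`H¹(D) = F/(I + J)`.
-/

set_option autoImplicit false
set_option linter.unusedSectionVars false

namespace Groth.Agent.Cohder.HWPair

open Module Submodule Groth.Agent.Cohder.HWLinAlg Groth.Agent.Cohder.HWDeg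
open scoped nonZeroDivisors

variable (k : Type*) [Field k] {F : Type*} [Field F] [Algebra k F]
  (A : Type*) [CommRing A] [IsDedekindDomain A] [Algebra A F] [IsFractionRing A F]
  [Algebra k A] [IsScalarTower k A F]
  (B : Type*) [CommRing B] [IsDedekindDomain B] [Algebra B F] [IsFractionRing B F]
  [Algebra k B] [IsScalarTower k B F]

variable {A B}

/-- `H⁰(I, J) = I ∩ J`. -/
abbrev H0 (I : FractionalIdeal A⁰ F) (J : FractionalIdeal B⁰ F) : Submodule k F := vs k I ⊓ vs k J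

/-- `H¹(I, J) = F/(I + J)`. -/
abbrev H1 (I : FractionalIdeal A⁰ F) (J : FractionalIdeal B⁰ F) : Type _ := F ⧸ (vs k I ⊔ vs k J)

/-- `h⁰`. -/
noncomputable def h0 (I : FractionalIdeal A⁰ F) (J : FractionalIdeal B⁰ F) : ℕ := finrank k (H0 k I J)

/-- `h¹`. -/
noncomputable def h1 (I : FractionalIdeal A⁰ F) (J : FractionalIdeal B⁰ F) : ℕ := finrank k (H1 k I J)

theorem H0_mono {I I' : FractionalIdeal A⁰ F} {J J' : FractionalIdeal B⁰ F} (hI : I ≤ I')
    (hJ : J ≤ J') : H0 k I J ≤ H0 k I' J' := inf_le_inf (vs_mono k hI) (vs_mono k hJ)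

variable (F A B) in
/-- Properness: the cohomology of the unit divisor is finite-dimensional, and so are all proper
quotients of `A` and `B`. -/
class ProperPair : Prop where
  finA : FinQuot k A
  finB : FinQuot k B
  fin0 : FiniteDimensional k (H0 k (1 : FractionalIdeal A⁰ F) (1 : FractionalIdeal B⁰ F))
  fin1 : FiniteDimensional k (H1 k (1 : FractionalIdeal A⁰ F) (1 : FractionalIdeal B⁰ F))

section Compare

variable [FinQuot k A] [FinQuot k B] {I I' : FractionalIdeal A⁰ F} {J J' : FractionalIdeal B⁰ F}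

theorem fin0_iff_left (hI : I ≠ 0) (h : I ≤ I') :
    FiniteDimensional k (H0 k I J) ↔ FiniteDimensional k (H0 k I' J) := by
  have := finite_Q k hI h
  exact finite_inf_iff (vs k I) (vs k I') (vs k J) (vs_mono k h)

theorem fin1_iff_left (hI : I ≠ 0) (h : I ≤ I') :
    FiniteDimensional k (H1 k I J) ↔ FiniteDimensional k (H1 k I' J) := by
  have := finite_Q k hI h
  exact finite_quot_iff (vs k I) (vs k I') (vs k J) (vs_mono k h)

theorem fin0_iff_right (hJ : J ≠ 0) (h : J ≤ J') :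
    FiniteDimensional k (H0 k I J) ↔ FiniteDimensional k (H0 k I J') := by
  have := finite_Q k hJ h
  have e := finite_inf_iff (vs k J) (vs k J') (vs k I) (vs_mono k h)
  unfold H0
  rwa [inf_comm (vs k I) (vs k J), inf_comm (vs k I) (vs k J')]

theorem fin1_iff_right (hJ : J ≠ 0) (h : J ≤ J') :
    FiniteDimensional k (H1 k I J) ↔ FiniteDimensional k (H1 k I J') := by
  have := finite_Q k hJ h
  have e := finite_quot_iff (vs k J) (vs k J') (vs k I) (vs_mono k h)
  unfold H1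
  rwa [sup_comm (vs k I) (vs k J), sup_comm (vs k I) (vs k J')]

theorem formula_left (hI : I ≠ 0) (h : I ≤ I') [FiniteDimensional k (H0 k I' J)]
    [FiniteDimensional k (H1 k I J)] :
    (h0 k I' J : ℤ) + h1 k I J = h0 k I J + h1 k I' J + (deg k I' - deg k I) := by
  have := finite_Q k hI h
  have e := finrank_formula (vs k I) (vs k I') (vs k J) (vs_mono k h)
  have e' := finrank_Q_eq k hI h
  unfold h0 h1
  rw [← e']
  exact_mod_cast e

theorem formula_right (hJ : J ≠ 0) (h : J ≤ J') [h0' : FiniteDimensional k (H0 k I J')]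
    [h1' : FiniteDimensional k (H1 k I J)] :
    (h0 k I J' : ℤ) + h1 k I J = h0 k I J + h1 k I J' + (deg k J' - deg k J) := by
  have := finite_Q k hJ h
  unfold H0 at h0'
  unfold H1 at h1'
  rw [inf_comm] at h0'
  rw [sup_comm] at h1'
  have e := finrank_formula (vs k J) (vs k J') (vs k I) (vs_mono k h)
  have e' := finrank_Q_eq k hJ h
  unfold h0 h1 H0 H1
  rw [← e', inf_comm (vs k I) (vs k J'), inf_comm (vs k I) (vs k J), sup_comm (vs k I) (vs k J'),
    sup_comm (vs k I) (vs k J)]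
  exact_mod_cast e

end Compare

section Principal

variable {A₁ : Type*} [CommRing A₁] [IsDedekindDomain A₁] [Algebra A₁ F] [IsFractionRing A₁ F]

/-- Principal ideals. -/
noncomputable abbrev pA (A : Type*) [CommRing A] [IsDedekindDomain A] [Algebra A F]
    [IsFractionRing A F] (x : F) : FractionalIdeal A⁰ F :=
  FractionalIdeal.spanSingleton A⁰ x

omit [Algebra k F] in
theorem mem_pA_mul {x : F} (hx : x ≠ 0) {I : FractionalIdeal A₁⁰ F} {y : F} :
    y ∈ pA A₁ x * I ↔ x⁻¹ * y ∈ I := by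
  rw [FractionalIdeal.mem_singleton_mul]
  constructor
  · rintro ⟨z, hz, rfl⟩
    rwa [inv_mul_cancel_left₀ hx]
  · intro h
    exact ⟨_, h, by rw [mul_inv_cancel_left₀ hx]⟩

omit [Algebra k F] in
theorem pA_ne_zero {x : F} (hx : x ≠ 0) : pA A₁ x ≠ 0 := by
  rwa [Ne, FractionalIdeal.spanSingleton_eq_zero_iff]

omit [Algebra k F] in
theorem pA_le_iff {x : F} {I : FractionalIdeal A₁⁰ F} : pA A₁ x ≤ I ↔ x ∈ I :=
  FractionalIdeal.spanSingleton_le_iff_mem

/-- Multiplication by `x ≠ 0` on `F` as a `k`-linear automorphism. -/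
noncomputable def mulEquiv (x : F) (hx : x ≠ 0) : F ≃ₗ[k] F :=
  LinearEquiv.ofBijective (LinearMap.mulLeft k x) (by
    constructor
    · intro a b h
      exact mul_left_cancel₀ hx h
    · intro b
      exact ⟨x⁻¹ * b, mul_inv_cancel_left₀ hx b⟩)

theorem mulEquiv_apply (x : F) (hx : x ≠ 0) (y : F) : mulEquiv k x hx y = x * y := rfl

variable [Algebra k A₁] [IsScalarTower k A₁ F]

theorem map_mulEquiv_vs (x : F) (hx : x ≠ 0) (I : FractionalIdeal A₁⁰ F) :
    (vs k I).map (mulEquiv k x hx : F →ₗ[k] F) = vs k (pA A₁ x * I) := by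
  ext y
  rw [Submodule.mem_map, mem_vs, mem_pA_mul hx]
  constructor
  · rintro ⟨z, hz, rfl⟩
    change x⁻¹ * (x * z) ∈ I
    rwa [inv_mul_cancel_left₀ hx]
  · intro h
    exact ⟨x⁻¹ * y, h, mul_inv_cancel_left₀ hx y⟩

end Principal

theorem h0_pA_mul (x : F) (hx : x ≠ 0) (I : FractionalIdeal A⁰ F) (J : FractionalIdeal B⁰ F) :
    h0 k (pA A x * I) (pA B x * J) = h0 k I J := by
  unfold h0 H0
  rw [← map_mulEquiv_vs k x hx I, ← map_mulEquiv_vs k x hx J,
    ← Submodule.map_inf _ (mulEquiv k x hx).injective]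
  exact (LinearEquiv.finrank_map_eq (mulEquiv k x hx) _)

theorem h1_pA_mul (x : F) (hx : x ≠ 0) (I : FractionalIdeal A⁰ F) (J : FractionalIdeal B⁰ F) :
    h1 k (pA A x * I) (pA B x * J) = h1 k I J := by
  unfold h1 H1
  rw [← map_mulEquiv_vs k x hx I, ← map_mulEquiv_vs k x hx J, ← Submodule.map_sup]
  exact (Submodule.Quotient.equiv _ _ (mulEquiv k x hx) rfl).symm.finrank_eq

section Proper

variable [hP : ProperPair k F A B]

include hP

theorem finQuotA : FinQuot k A := hP.finA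
theorem finQuotB : FinQuot k B := hP.finB

variable {I I' : FractionalIdeal A⁰ F} {J J' : FractionalIdeal B⁰ F}

theorem fin0 (hI : I ≠ 0) (hJ : J ≠ 0) : FiniteDimensional k (H0 k I J) := by
  have := hP.finA
  have := hP.finB
  have e1 := hP.fin0
  have hI' : I ⊔ 1 ≠ 0 := by
    intro h
    have : I ≤ 0 := h ▸ le_sup_left
    exact hI (le_antisymm this (FractionalIdeal.zero_le _))
  have hJ' : J ⊔ 1 ≠ 0 := by
    intro h
    have : J ≤ 0 := h ▸ le_sup_left
    exact hJ (le_antisymm this (FractionalIdeal.zero_le _))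
  have e2 := (fin0_iff_left k (J := (1 : FractionalIdeal B⁰ F)) (one_ne_zero (α := FractionalIdeal A⁰ F))
    (le_sup_right : 1 ≤ I ⊔ 1)).1 e1
  have e3 := (fin0_iff_right k (I := I ⊔ 1) (one_ne_zero (α := FractionalIdeal B⁰ F))
    (le_sup_right : 1 ≤ J ⊔ 1)).1 e2
  exact (fin0_iff_left k hI (le_sup_left : I ≤ I ⊔ 1)).2 ((fin0_iff_right k hJ
    (le_sup_left : J ≤ J ⊔ 1)).2 e3)

theorem fin1 (hI : I ≠ 0) (hJ : J ≠ 0) : FiniteDimensional k (H1 k I J) := by
  have := hP.finA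
  have := hP.finB
  have e1 := hP.fin1
  have e2 := (fin1_iff_left k (J := (1 : FractionalIdeal B⁰ F)) (one_ne_zero (α := FractionalIdeal A⁰ F))
    (le_sup_right : 1 ≤ I ⊔ 1)).1 e1
  have e3 := (fin1_iff_right k (I := I ⊔ 1) (one_ne_zero (α := FractionalIdeal B⁰ F))
    (le_sup_right : 1 ≤ J ⊔ 1)).1 e2
  exact (fin1_iff_left k hI (le_sup_left : I ≤ I ⊔ 1)).2 ((fin1_iff_right k hJ
    (le_sup_left : J ≤ J ⊔ 1)).2 e3)

variable (F A B) in
/-- Euler characteristic of the unit divisor (`= 1 - g`). -/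
noncomputable def chi1 : ℤ :=
  (h0 k (1 : FractionalIdeal A⁰ F) (1 : FractionalIdeal B⁰ F) : ℤ) -
    h1 k (1 : FractionalIdeal A⁰ F) (1 : FractionalIdeal B⁰ F)

theorem rr_le (hI : I ≠ 0) (hJ : J ≠ 0) (h : I ≤ I') (h' : J ≤ J') :
    (h0 k I' J' : ℤ) - h1 k I' J' = h0 k I J - h1 k I J + (deg k I' - deg k I) + (deg k J' - deg k J) := by
  have := hP.finA
  have := hP.finB
  have hI' : I' ≠ 0 := by
    rintro rfl
    exact hI (le_antisymm h (FractionalIdeal.zero_le _))
  have hJ' : J' ≠ 0 := by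
    rintro rfl
    exact hJ (le_antisymm h' (FractionalIdeal.zero_le _))
  have f1 := fin0 k hI' hJ
  have f2 := fin1 k hI hJ
  have f3 := fin0 k hI' hJ'
  have f4 := fin1 k hI' hJ
  have e1 := formula_left k (J := J) hI h
  have e2 := formula_right k (I := I') hJ h'
  linarith

/-- Riemann–Roch (without duality). -/
theorem rr (hI : I ≠ 0) (hJ : J ≠ 0) :
    (h0 k I J : ℤ) - h1 k I J = deg k I + deg k J + chi1 k F A B := by
  have := hP.finA
  have := hP.finB
  have e1 := rr_le k hI hJ (le_sup_left : I ≤ I ⊔ 1) (le_sup_left : J ≤ J ⊔ 1)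
  have e2 := rr_le k (one_ne_zero (α := FractionalIdeal A⁰ F)) (one_ne_zero (α := FractionalIdeal B⁰ F))
    (le_sup_right : 1 ≤ I ⊔ 1) (le_sup_right : 1 ≤ J ⊔ 1)
  rw [deg_one, deg_one] at e2
  unfold chi1
  linarith

/-- Product formula: principal divisors have degree zero. -/
theorem deg_principal {x : F} (hx : x ≠ 0) : deg k (pA A x) + deg k (pA B x) = 0 := by
  have e1 := rr k (pA_ne_zero (A₁ := A) hx) (pA_ne_zero (A₁ := B) hx)
  have e2 := h0_pA_mul k x hx (1 : FractionalIdeal A⁰ F) (1 : FractionalIdeal B⁰ F)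
  have e3 := h1_pA_mul k x hx (1 : FractionalIdeal A⁰ F) (1 : FractionalIdeal B⁰ F)
  rw [mul_one, mul_one] at e2 e3
  rw [e2, e3] at e1
  unfold chi1 at e1
  omega

/-- A divisor with a nonzero section has nonnegative degree. -/
theorem deg_nonneg_of_mem {x : F} (hx : x ≠ 0) (hI : x ∈ I) (hJ : x ∈ J) :
    0 ≤ deg k I + deg k J := by
  have := hP.finA
  have := hP.finB
  have e1 := deg_mono k (pA_ne_zero (A₁ := A) hx) (pA_le_iff.2 hI)
  have e2 := deg_mono k (pA_ne_zero (A₁ := B) hx) (pA_le_iff.2 hJ)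
  have e3 := deg_principal (A := A) (B := B) k hx
  omega

theorem h0_eq_zero_of_neg (h : deg k I + deg k J < 0) : h0 k I J = 0 := by
  have : H0 k I J = ⊥ := by
    rw [eq_bot_iff]
    rintro x ⟨hx1, hx2⟩
    by_contra hx
    have hx' : x ≠ 0 := hx
    exact absurd (deg_nonneg_of_mem k hx' hx1 hx2) (by omega)
  unfold h0
  rw [this, finrank_bot]

theorem exists_ne_zero_of_h0_pos (h : 0 < h0 k I J) : ∃ x : F, x ≠ 0 ∧ x ∈ I ∧ x ∈ J := by
  have : H0 k I J ≠ ⊥ := by
    intro h'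
    unfold h0 at h
    rw [h', finrank_bot] at h
    exact lt_irrefl _ h
  obtain ⟨x, hx, hx0⟩ := Submodule.exists_mem_ne_zero_of_ne_bot this
  exact ⟨x, hx0, hx.1, hx.2⟩

/-- Riemann's inequality. -/
theorem riemann (hI : I ≠ 0) (hJ : J ≠ 0) : deg k I + deg k J + chi1 k F A B ≤ h0 k I J := by
  have := rr k hI hJ
  omega

theorem h1_anti (hI : I ≠ 0) (hJ : J ≠ 0) (h : I ≤ I') (h' : J ≤ J') : h1 k I' J' ≤ h1 k I J := by
  have := fin1 k hI hJ
  have hle : vs k I ⊔ vs k J ≤ vs k I' ⊔ vs k J' := sup_le_sup (vs_mono k h) (vs_mono k h')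
  let f : H1 k I J →ₗ[k] H1 k I' J' := Submodule.mapQ _ _ LinearMap.id (by rwa [Submodule.comap_id])
  have hf : Function.Surjective f := by
    intro x
    obtain ⟨x, rfl⟩ := Submodule.Quotient.mk_surjective _ x
    exact ⟨Submodule.Quotient.mk x, rfl⟩
  exact LinearMap.finrank_le_finrank_of_surjective hf

theorem exists_fractionalIdeal_ge (T : Finset F) : ∃ I : FractionalIdeal A⁰ F, 1 ≤ I ∧ ∀ x ∈ T, x ∈ I := by
  classical
  induction T using Finset.induction_on with
  | empty => exact ⟨1, le_rfl, by simp⟩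
  | insert x T hx ih =>
    obtain ⟨I, hI1, hI⟩ := ih
    refine ⟨I ⊔ pA A x, hI1.trans le_sup_left, fun y hy => ?_⟩
    rcases Finset.mem_insert.1 hy with rfl | hy
    · exact (le_sup_right : pA A y ≤ I ⊔ pA A y) (FractionalIdeal.mem_spanSingleton_self _ _)
    · exact (le_sup_left : I ≤ I ⊔ pA A x) (hI y hy)

theorem exists_h1_eq_zero : ∃ I : FractionalIdeal A⁰ F, I ≠ 0 ∧ h1 k I (1 : FractionalIdeal B⁰ F) = 0 := by
  classical
  have h1f := hP.fin1
  obtain ⟨s, hs⟩ := (Module.finite_def.1 h1f)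
  obtain ⟨I, hI1, hI⟩ := exists_fractionalIdeal_ge (A := A) (B := B) k (s.image Quotient.out)
  have hI0 : I ≠ 0 := by
    rintro rfl
    exact one_ne_zero (le_antisymm hI1 (FractionalIdeal.zero_le (1 : FractionalIdeal A⁰ F)))
  refine ⟨I, hI0, ?_⟩
  have htop : vs k I ⊔ vs k (1 : FractionalIdeal B⁰ F) = ⊤ := by
    rw [eq_top_iff]
    intro y _
    have hy : (Submodule.Quotient.mk y : H1 k (1 : FractionalIdeal A⁰ F) (1 : FractionalIdeal B⁰ F)) ∈
        Submodule.span k (s : Set (H1 k (1 : FractionalIdeal A⁰ F) (1 : FractionalIdeal B⁰ F))) := by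
      rw [hs]
      trivial
    let U := vs k (1 : FractionalIdeal A⁰ F) ⊔ vs k (1 : FractionalIdeal B⁰ F)
    have hle : Submodule.span k (s : Set (H1 k (1 : FractionalIdeal A⁰ F) (1 : FractionalIdeal B⁰ F))) ≤
        (vs k I).map U.mkQ := by
      rw [Submodule.span_le]
      intro q hq
      refine ⟨Quotient.out q, hI _ (Finset.mem_image_of_mem _ hq), ?_⟩
      exact Quotient.out_eq q
    obtain ⟨z, hz, hzy⟩ := hle hy
    change (Submodule.Quotient.mk z : F ⧸ U) = Submodule.Quotient.mk y at hzy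
    rw [Submodule.Quotient.eq] at hzy
    have : y = z - (z - y) := by ring
    rw [this]
    exact Submodule.sub_mem _ (Submodule.mem_sup_left hz)
      (sup_le_sup_right (vs_mono k hI1) _ hzy)
  unfold h1 H1
  rw [htop]
  exact finrank_zero_of_subsingleton

/-- `H¹` vanishes in large degrees. -/
theorem exists_bound : ∃ c : ℤ, ∀ (I : FractionalIdeal A⁰ F) (J : FractionalIdeal B⁰ F), I ≠ 0 → J ≠ 0 →
    c ≤ deg k I + deg k J → h1 k I J = 0 := by
  have := hP.finA
  have := hP.finB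
  obtain ⟨I₀, hI₀, h₀⟩ := exists_h1_eq_zero (F := F) (A := A) (B := B) k
  refine ⟨deg k I₀ - chi1 k F A B + 1, fun I J hI hJ hd => ?_⟩
  have hI' : I * I₀⁻¹ ≠ 0 := mul_ne_zero hI (inv_ne_zero hI₀)
  have e1 := riemann k hI' hJ
  rw [deg_mul k hI (inv_ne_zero hI₀), deg_inv k hI₀] at e1
  obtain ⟨x, hx, hxI, hxJ⟩ := exists_ne_zero_of_h0_pos k (I := I * I₀⁻¹) (J := J) (by omega)
  have h1' : pA A x * I₀ ≤ I := by
    calc pA A x * I₀ ≤ (I * I₀⁻¹) * I₀ := by
          gcongr
          exact pA_le_iff.2 hxI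
      _ = I := by rw [mul_assoc, inv_mul_cancel₀ hI₀, mul_one]
  have h2' : pA B x * 1 ≤ J := by
    rw [mul_one]
    exact pA_le_iff.2 hxJ
  have hB1 : (1 : FractionalIdeal B⁰ F) ≠ 0 := one_ne_zero
  have e2 := h1_anti k (mul_ne_zero (pA_ne_zero (A₁ := A) hx) hI₀)
    (mul_ne_zero (pA_ne_zero (A₁ := B) hx) hB1) h1' h2'
  rw [h1_pA_mul k x hx, h₀] at e2
  omega

end Proper

end Groth.Agent.Cohder.HWPair
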