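import Mathlib.Algebra.Homology.HomologySequenceLemmas

/-! Quasi-isomorphism lemmas for the first and second components of a morphism of short exact sequences
of homological complexes (cochain complexes indexed by ℤ). -/

set_option autoImplicit false
universe v u

open CategoryTheory CategoryTheory.ComposableArrows CategoryTheory.Abelian HomologicalComplex
open HomologicalComplex.HomologySequence

namespace Groth.Agent.Cohder.HomSeqTau1

variable {C : Type u} [Category.{v} C] [Abelian C]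
  {S₁ S₂ : ShortComplex (CochainComplex C ℤ)} (φ : S₁ ⟶ S₂)
  (hS₁ : S₁.ShortExact) (hS₂ : S₂.ShortExact)

include hS₁ hS₂

/-- If `τ₂` is injective on `H^(i+1)`, `τ₂` is surjective on `H^i` and `τ₃` is injective on `H^i`, then
`τ₁` is injective on `H^(i+1)`. -/
lemma mono_homologyMap_τ₁ (i j : ℤ) (hij : i + 1 = j)
    (h₁ : Epi (homologyMap φ.τ₂ i)) (h₂ : Mono (homologyMap φ.τ₃ i))
    (h₃ : Mono (homologyMap φ.τ₂ j)) : Mono (homologyMap φ.τ₁ j) := by
  have hij' : (ComplexShape.up ℤ).Rel i j := hij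
  apply mono_of_epi_of_mono_of_mono
      ((δ₀Functor ⋙ δlastFunctor).map (mapComposableArrows₅ φ hS₁ hS₂ i j hij'))
  · exact (composableArrows₅_exact hS₁ i j hij').δ₀.δlast
  · exact (composableArrows₅_exact hS₂ i j hij').δ₀.δlast
  · exact h₁
  · exact h₂
  · exact h₃

/-- epimorphism version for `τ₁`. -/
lemma epi_homologyMap_τ₁ (i j : ℤ) (hij : i + 1 = j)
    (h₁ : Epi (homologyMap φ.τ₃ i)) (h₂ : Epi (homologyMap φ.τ₂ j))
    (h₃ : Mono (homologyMap φ.τ₃ j)) : Epi (homologyMap φ.τ₁ j) := by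
  have hij' : (ComplexShape.up ℤ).Rel i j := hij
  apply epi_of_epi_of_epi_of_mono
      ((δ₀Functor ⋙ δ₀Functor).map (mapComposableArrows₅ φ hS₁ hS₂ i j hij'))
  · exact (composableArrows₅_exact hS₁ i j hij').δ₀.δ₀
  · exact (composableArrows₅_exact hS₂ i j hij').δ₀.δ₀
  · exact h₁
  · exact h₂
  · exact h₃

lemma quasiIso_τ₁ (h₂ : QuasiIso φ.τ₂) (h₃ : QuasiIso φ.τ₃) : QuasiIso φ.τ₁ := by
  rw [quasiIso_iff]
  intro j
  rw [quasiIsoAt_iff_isIso_homologyMap]
  have := mono_homologyMap_τ₁ φ hS₁ hS₂ (j - 1) j (by lia) inferInstance inferInstance inferInstance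
  have := epi_homologyMap_τ₁ φ hS₁ hS₂ (j - 1) j (by lia) inferInstance inferInstance inferInstance
  apply isIso_of_mono_of_epi

lemma quasiIso_τ₂ (h₁ : QuasiIso φ.τ₁) (h₃ : QuasiIso φ.τ₃) : QuasiIso φ.τ₂ := by
  rw [quasiIso_iff]
  intro j
  rw [quasiIsoAt_iff_isIso_homologyMap]
  have hm : Mono (homologyMap φ.τ₂ j) := by
    have hij' : (ComplexShape.up ℤ).Rel (j - 1) j := by simp
    apply mono_of_epi_of_mono_of_mono
        ((δ₀Functor ⋙ δ₀Functor).map (mapComposableArrows₅ φ hS₁ hS₂ (j - 1) j hij'))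
    · exact (composableArrows₅_exact hS₁ (j - 1) j hij').δ₀.δ₀
    · exact (composableArrows₅_exact hS₂ (j - 1) j hij').δ₀.δ₀
    · change Epi (homologyMap φ.τ₃ (j - 1)); infer_instance
    · change Mono (homologyMap φ.τ₁ j); infer_instance
    · change Mono (homologyMap φ.τ₃ j); infer_instance
  have he : Epi (homologyMap φ.τ₂ j) := by
    have hij' : (ComplexShape.up ℤ).Rel j (j + 1) := by simp
    apply epi_of_epi_of_epi_of_mono
        ((δlastFunctor ⋙ δlastFunctor).map (mapComposableArrows₅ φ hS₁ hS₂ j (j + 1) hij'))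
    · exact (composableArrows₅_exact hS₁ j (j + 1) hij').δlast.δlast
    · exact (composableArrows₅_exact hS₂ j (j + 1) hij').δlast.δlast
    · change Epi (homologyMap φ.τ₁ j); infer_instance
    · change Epi (homologyMap φ.τ₃ j); infer_instance
    · change Mono (homologyMap φ.τ₁ (j + 1)); infer_instance
  apply isIso_of_mono_of_epi

end Groth.Agent.Cohder.HomSeqTau1
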