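import Groth.Prelude.Def_KZero
import Mathlib.Algebra.Homology.ShortComplex.ShortExact
import Mathlib.Algebra.Homology.ShortComplex.ExactFunctor
import Mathlib.CategoryTheory.Abelian.Basic
import Mathlib.GroupTheory.MonoidLocalization.GrothendieckGroup
import Mathlib.GroupTheory.Congruence.Defs
import Mathlib.Tactic.Abel

/-!
# K₀ of an abelian category and the monoid of isomorphism classes

* basic rules for `KZero.cl` and `KZero.clSub`;
* `IsoCl A`: the commutative monoid of isomorphism classes under direct sum;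
* `eq_in_K0`: if `[X] = [Y]` in `K₀(A)`, there are short exact sequences `0 → U → E → V → 0`,
  `0 → V → F → U → 0` with `X ⊞ E ≅ Y ⊞ F`.
-/

set_option autoImplicit false
universe v v' u u'
open CategoryTheory CategoryTheory.Limits ZeroObject KZero

namespace Groth.Agent.Cohder.K0IsoMonoid

variable {A : Type u} [Category.{v} A] [Abelian A]

section cl

lemma cl_shortExact {S : ShortComplex A} (hS : S.ShortExact) : cl S.X₂ = cl S.X₁ + cl S.X₃ := by
  have h : FreeAbelianGroup.of S.X₂ - FreeAbelianGroup.of S.X₁ - FreeAbelianGroup.of S.X₃ ∈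
      relAb A := AddSubgroup.subset_closure ⟨S, hS, rfl⟩
  have h2 := (QuotientAddGroup.eq_zero_iff _).2 h
  rw [sub_sub] at h2
  exact sub_eq_zero.1 h2

lemma cl_eq_zero {X : A} (h : IsZero X) : cl X = 0 := by
  have hS : (ShortComplex.mk (0 : X ⟶ X) (0 : X ⟶ X) (by simp)).ShortExact :=
    { exact := ShortComplex.exact_of_isZero_X₂ _ h
      mono_f := ⟨fun _ _ _ => h.eq_of_tgt _ _⟩
      epi_g := ⟨fun _ _ _ => h.eq_of_src _ _⟩ }
  have := cl_shortExact hS
  simpa using this

lemma cl_iso {X Y : A} (e : X ≅ Y) : cl X = cl Y := by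
  have hS : (ShortComplex.mk e.hom (0 : Y ⟶ (0 : A)) (by simp)).ShortExact :=
    { exact := by
        rw [ShortComplex.exact_iff_epi _ rfl]
        dsimp
        infer_instance
      mono_f := by dsimp; infer_instance
      epi_g := ⟨fun _ _ _ => (isZero_zero A).eq_of_src _ _⟩ }
  have := cl_shortExact hS
  dsimp at this
  rw [cl_eq_zero (isZero_zero A), add_zero] at this
  exact this.symm

lemma cl_biprod (X Y : A) : cl (X ⊞ Y) = cl X + cl Y :=
  cl_shortExact (ShortComplex.Splitting.ofHasBinaryBiproduct X Y).shortExact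

end cl

section clSub

variable (P : ObjectProperty A)

lemma clSub_shortExact {S : ShortComplex A} (hS : S.ShortExact) (h₁ : P S.X₁) (h₂ : P S.X₂)
    (h₃ : P S.X₃) : clSub P S.X₂ = clSub P S.X₁ + clSub P S.X₃ := by
  have h : FreeAbelianGroup.of (⟨S.X₂, h₂⟩ : Subtype P) - FreeAbelianGroup.of (⟨S.X₁, h₁⟩ : Subtype P)
      - FreeAbelianGroup.of (⟨S.X₃, h₃⟩ : Subtype P) ∈
      relSub P := AddSubgroup.subset_closure ⟨S, h₁, h₂, h₃, hS, rfl⟩
  have h2 := (QuotientAddGroup.eq_zero_iff _).2 h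
  rw [sub_sub] at h2
  simp only [clSub, h₁, h₂, h₃, dif_pos]
  exact sub_eq_zero.1 h2

lemma clSub_eq_zero {X : A} (h : IsZero X) : clSub P X = 0 := by
  by_cases hX : P X
  · have hS : (ShortComplex.mk (0 : X ⟶ X) (0 : X ⟶ X) (by simp)).ShortExact :=
      { exact := ShortComplex.exact_of_isZero_X₂ _ h
        mono_f := ⟨fun _ _ _ => h.eq_of_tgt _ _⟩
        epi_g := ⟨fun _ _ _ => h.eq_of_src _ _⟩ }
    have := clSub_shortExact P hS hX hX hX
    simpa using this
  · simp [clSub, hX]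

lemma clSub_iso [P.ContainsZero] [P.IsClosedUnderIsomorphisms] {X Y : A} (e : X ≅ Y) :
    clSub P X = clSub P Y := by
  by_cases hX : P X
  · have hY : P Y := P.prop_of_iso e hX
    have hS : (ShortComplex.mk e.hom (0 : Y ⟶ (0 : A)) (by simp)).ShortExact :=
      { exact := by
          rw [ShortComplex.exact_iff_epi _ rfl]
          dsimp
          infer_instance
        mono_f := by dsimp; infer_instance
        epi_g := ⟨fun _ _ _ => (isZero_zero A).eq_of_src _ _⟩ }
    have := clSub_shortExact P hS hX hY (P.prop_of_isZero (isZero_zero A))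
    dsimp at this
    rw [clSub_eq_zero P (isZero_zero A), add_zero] at this
    exact this.symm
  · have hY : ¬ P Y := fun h => hX (P.prop_of_iso e.symm h)
    simp [clSub, hX, hY]

lemma clSub_biprod {X Y : A} (hX : P X) (hY : P Y) (hXY : P (X ⊞ Y)) :
    clSub P (X ⊞ Y) = clSub P X + clSub P Y :=
  clSub_shortExact P (ShortComplex.Splitting.ofHasBinaryBiproduct X Y).shortExact hX hXY hY

/-- Every element of `K₀(P)` is a difference of classes of objects. -/
lemma exists_clSub_sub_clSub [P.ContainsZero] [P.IsClosedUnderIsomorphisms]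
    (hP : ∀ X Y, P X → P Y → P (X ⊞ Y)) (x : K0sub P) :
    ∃ (X Y : A), P X ∧ P Y ∧ x = clSub P X - clSub P Y := by
  obtain ⟨x, rfl⟩ := QuotientAddGroup.mk_surjective x
  induction x using FreeAbelianGroup.induction_on with
  | zero =>
    exact ⟨0, 0, P.prop_of_isZero (isZero_zero A), P.prop_of_isZero (isZero_zero A), by simp⟩
  | of X =>
    refine ⟨X.1, 0, X.2, P.prop_of_isZero (isZero_zero A), ?_⟩
    rw [clSub_eq_zero P (isZero_zero A), sub_zero]
    simp [clSub, X.2]
  | neg X =>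
    refine ⟨0, X.1, P.prop_of_isZero (isZero_zero A), X.2, ?_⟩
    rw [clSub_eq_zero P (isZero_zero A), zero_sub]
    simp [clSub, X.2]
  | add x y hx hy =>
    obtain ⟨X, Y, hX, hY, h⟩ := hx
    obtain ⟨X', Y', hX', hY', h'⟩ := hy
    refine ⟨X ⊞ X', Y ⊞ Y', hP _ _ hX hX', hP _ _ hY hY', ?_⟩
    rw [clSub_biprod P hX hX' (hP _ _ hX hX'), clSub_biprod P hY hY' (hP _ _ hY hY')]
    rw [QuotientAddGroup.mk_add, h, h']
    abel

end clSub

section IsoCl

variable (A) in
/-- Isomorphism classes of objects. -/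
def IsoCl : Type u := Quotient (isIsomorphicSetoid A)

/-- The isomorphism class of an object. -/
def ic (X : A) : IsoCl A := Quotient.mk (isIsomorphicSetoid A) X

omit [Abelian A] in
lemma ic_eq_iff {X Y : A} : ic X = ic Y ↔ Nonempty (X ≅ Y) :=
  ⟨fun h => Quotient.exact h, fun h => Quotient.sound h⟩

lemma ic_iso {X Y : A} (e : X ≅ Y) : ic X = ic Y := ic_eq_iff.2 ⟨e⟩

omit [Abelian A] in
lemma ic_surjective (x : IsoCl A) : ∃ X : A, ic X = x := Quotient.exists_rep x

noncomputable instance : Add (IsoCl A) where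
  add := Quotient.map₂ (fun X Y => X ⊞ Y) (by
    rintro X X' ⟨e⟩ Y Y' ⟨e'⟩
    exact ⟨biprod.mapIso e e'⟩)

noncomputable instance : Zero (IsoCl A) := ⟨ic (0 : A)⟩

lemma ic_biprod (X Y : A) : ic (X ⊞ Y) = ic X + ic Y := rfl

lemma ic_zero : ic (0 : A) = 0 := rfl

lemma ic_of_isZero {X : A} (h : IsZero X) : ic X = 0 :=
  ic_iso (h.iso (isZero_zero A))

noncomputable instance : AddCommMonoid (IsoCl A) where
  add_assoc := by
    rintro ⟨X⟩ ⟨Y⟩ ⟨Z⟩
    exact ic_iso (biprod.associator X Y Z)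
  zero_add := by
    rintro ⟨X⟩
    exact ic_iso (isoZeroBiprod (isZero_zero A)).symm
  add_zero := by
    rintro ⟨X⟩
    exact ic_iso (isoBiprodZero (isZero_zero A)).symm
  add_comm := by
    rintro ⟨X⟩ ⟨Y⟩
    exact ic_iso (biprod.braiding X Y)
  nsmul := nsmulRec

/-- `e` is an extension of `v` by `u` (isomorphism classes). -/
def IsExt (u e v : IsoCl A) : Prop :=
  ∃ S : ShortComplex A, S.ShortExact ∧ ic S.X₁ = u ∧ ic S.X₂ = e ∧ ic S.X₃ = v

lemma IsExt.split (u v : IsoCl A) : IsExt u (u + v) v := by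
  obtain ⟨X, rfl⟩ := ic_surjective u
  obtain ⟨Y, rfl⟩ := ic_surjective v
  exact ⟨_, (ShortComplex.Splitting.ofHasBinaryBiproduct X Y).shortExact, rfl, rfl, rfl⟩

lemma shortExact_biprod {S S' : ShortComplex A} (hS : S.ShortExact) (hS' : S'.ShortExact) :
    (ShortComplex.mk (biprod.map S.f S'.f) (biprod.map S.g S'.g) (by
      ext <;> simp)).ShortExact := by
  have := hS.mono_f
  have := hS'.mono_f
  have := hS.epi_g
  have := hS'.epi_g
  have hm : Mono (biprod.map S.f S'.f) := inferInstance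
  have he : Epi (biprod.map S.g S'.g) := inferInstance
  refine { exact := ?_, mono_f := hm, epi_g := he }
  refine ShortComplex.exact_of_f_is_kernel _ (KernelFork.IsLimit.ofι' _ _ (fun {W} k hk =>
    ⟨biprod.lift (hS.exact.lift (k ≫ biprod.fst) ?_) (hS'.exact.lift (k ≫ biprod.snd) ?_), ?_⟩))
  · have := congrArg (fun t => t ≫ biprod.fst) hk
    simpa using this
  · have := congrArg (fun t => t ≫ biprod.snd) hk
    simpa using this
  · ext <;> simp

lemma IsExt.add {u e v u' e' v' : IsoCl A} (h : IsExt u e v) (h' : IsExt u' e' v') :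
    IsExt (u + u') (e + e') (v + v') := by
  obtain ⟨S, hS, rfl, rfl, rfl⟩ := h
  obtain ⟨S', hS', rfl, rfl, rfl⟩ := h'
  exact ⟨_, shortExact_biprod hS hS', rfl, rfl, rfl⟩

/-- The congruence used to detect equality in `K₀`. -/
def Rel (x y : IsoCl A) : Prop :=
  ∃ u v e f, IsExt u e v ∧ IsExt v f u ∧ x + e = y + f

lemma Rel.refl (x : IsoCl A) : Rel x x :=
  ⟨0, 0, 0, 0, by simpa using IsExt.split (0 : IsoCl A) 0, by simpa using IsExt.split (0 : IsoCl A) 0,
    rfl⟩

lemma Rel.symm {x y : IsoCl A} (h : Rel x y) : Rel y x := by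
  obtain ⟨u, v, e, f, h₁, h₂, h₃⟩ := h
  exact ⟨v, u, f, e, h₂, h₁, h₃.symm⟩

lemma Rel.trans {x y z : IsoCl A} (h : Rel x y) (h' : Rel y z) : Rel x z := by
  obtain ⟨u, v, e, f, h₁, h₂, h₃⟩ := h
  obtain ⟨u', v', e', f', h₁', h₂', h₃'⟩ := h'
  refine ⟨u + u', v + v', e + e', f + f', h₁.add h₁', h₂.add h₂', ?_⟩
  calc x + (e + e') = (x + e) + e' := by abel
    _ = (y + e') + f := by rw [h₃]; abel
    _ = z + (f + f') := by rw [h₃']; abel

lemma Rel.add {x y x' y' : IsoCl A} (h : Rel x y) (h' : Rel x' y') : Rel (x + x') (y + y') := by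
  obtain ⟨u, v, e, f, h₁, h₂, h₃⟩ := h
  obtain ⟨u', v', e', f', h₁', h₂', h₃'⟩ := h'
  refine ⟨u + u', v + v', e + e', f + f', h₁.add h₁', h₂.add h₂', ?_⟩
  calc x + x' + (e + e') = (x + e) + (x' + e') := by abel
    _ = (y + f) + (y' + f') := by rw [h₃, h₃']
    _ = y + y' + (f + f') := by abel

lemma Rel.cancel {x y z : IsoCl A} (h : Rel (z + x) (z + y)) : Rel x y := by
  obtain ⟨u, v, e, f, h₁, h₂, h₃⟩ := h
  refine ⟨u + z, v, e + z, f + z, ?_, ?_, ?_⟩
  · simpa using h₁.add (IsExt.split z 0)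
  · simpa using h₂.add (IsExt.split 0 z)
  · calc x + (e + z) = z + x + e := by abel
      _ = z + y + f := h₃
      _ = y + (f + z) := by abel

lemma Rel.of_isExt {u e v : IsoCl A} (h : IsExt u e v) : Rel e (u + v) :=
  ⟨v, u, v + u, e, IsExt.split v u, h, by abel⟩

variable (A) in
/-- The additive congruence `Rel`. -/
def relCon : AddCon (IsoCl A) where
  r := Rel
  iseqv := ⟨Rel.refl, Rel.symm, Rel.trans⟩
  add' := Rel.add

variable (A) in
/-- The target of the detecting homomorphism. -/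
abbrev DG : Type u := Algebra.GrothendieckAddGroup (relCon A).Quotient

/-- The class of an object in `DG`. -/
noncomputable def dg (X : A) : DG A :=
  Algebra.GrothendieckAddGroup.of ((ic X : IsoCl A) : (relCon A).Quotient)

instance : IsCancelAdd (relCon A).Quotient :=
  have h : ∀ x y z : (relCon A).Quotient, z + x = z + y → x = y := by
    rintro ⟨x⟩ ⟨y⟩ ⟨z⟩ h
    exact (AddCon.eq _).2 (Rel.cancel ((AddCon.eq (relCon A)).1 h))
  { add_left_cancel := fun z x y h' => h x y z h'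
    add_right_cancel := fun z x y h' => h x y z (by
      change x + z = y + z at h'
      rw [add_comm z x, add_comm z y, h']) }

lemma dg_eq {X Y : A} (h : dg X = dg Y) : Rel (ic X) (ic Y) :=
  (AddCon.eq (relCon A)).1 (Algebra.GrothendieckAddGroup.of_injective h)

lemma dg_shortExact {S : ShortComplex A} (hS : S.ShortExact) : dg S.X₂ = dg S.X₁ + dg S.X₃ := by
  have h : Rel (ic S.X₂) (ic S.X₁ + ic S.X₃) := Rel.of_isExt ⟨S, hS, rfl, rfl, rfl⟩
  have h' : ((ic S.X₂ : IsoCl A) : (relCon A).Quotient) =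
    ((ic S.X₁ : IsoCl A) : (relCon A).Quotient) + ((ic S.X₃ : IsoCl A) : (relCon A).Quotient) :=
    (AddCon.eq (relCon A)).2 h
  rw [dg, h', map_add]
  rfl

/-- The homomorphism `K₀(A) → DG A`. -/
noncomputable def toDG : K0 A →+ DG A :=
  QuotientAddGroup.lift (relAb A) (FreeAbelianGroup.lift dg) (by
    rw [relAb, AddSubgroup.closure_le]
    rintro x ⟨S, hS, rfl⟩
    simp [dg_shortExact hS])

lemma toDG_cl (X : A) : toDG (cl X) = dg X := by
  simp [toDG, cl]

lemma rel_of_cl_eq {X Y : A} (h : cl X = cl Y) : Rel (ic X) (ic Y) :=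
  dg_eq (by rw [← toDG_cl, ← toDG_cl, h])

/-- If `[X] = [Y]` in `K₀(A)`, there are short exact sequences `0 → U → E → V → 0` and
`0 → V → F → U → 0` such that `X ⊞ E ≅ Y ⊞ F`. -/
lemma exists_of_cl_eq {X Y : A} (h : cl X = cl Y) :
    ∃ (U V E F : A) (i : U ⟶ E) (p : E ⟶ V) (w : i ≫ p = 0) (j : V ⟶ F) (q : F ⟶ U)
      (w' : j ≫ q = 0), (ShortComplex.mk i p w).ShortExact ∧ (ShortComplex.mk j q w').ShortExact ∧
      Nonempty (X ⊞ E ≅ Y ⊞ F) := by
  obtain ⟨u, v, e, f, ⟨S, hS, h1, h2, h3⟩, ⟨S', hS', h1', h2', h3'⟩, h4⟩ := rel_of_cl_eq h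
  rw [← h2, ← h2', ← ic_biprod, ← ic_biprod, ic_eq_iff] at h4
  obtain ⟨a⟩ := ic_eq_iff.1 (h1.trans h3'.symm)
  obtain ⟨b⟩ := ic_eq_iff.1 (h3.trans h1'.symm)
  refine ⟨S.X₁, S.X₃, S.X₂, S'.X₂, S.f, S.g, S.zero, b.hom ≫ S'.f, S'.g ≫ a.inv, by simp, hS, ?_, h4⟩
  exact ShortComplex.shortExact_of_iso
    (ShortComplex.isoMk b.symm (Iso.refl _) a.symm (by simp) (by simp)) hS'

end IsoCl

end Groth.Agent.Cohder.K0IsoMonoid
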