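import Groth.Agent.Cohder.K0IsoMonoid
import Mathlib.CategoryTheory.Abelian.SerreClass.Localization
import Mathlib.CategoryTheory.Localization.CalculusOfFractions
import Mathlib.Algebra.Homology.ShortComplex.Abelian

/-!
# The K₀ exact sequence of a Serre quotient
-/

set_option autoImplicit false
universe v v' u u'
open CategoryTheory CategoryTheory.Limits ZeroObject KZero
open Groth.Agent.Cohder.K0IsoMonoid

namespace Groth.Agent.Cohder.K0Serre

variable {A : Type u} [Category.{v} A] [Abelian A]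

section TwoPeriodic

variable {U V E F : A} {i : U ⟶ E} {p : E ⟶ V} {w : i ≫ p = 0} {j : V ⟶ F} {q : F ⟶ U}
  {w' : j ≫ q = 0} (hS : (ShortComplex.mk i p w).ShortExact)
  (hS' : (ShortComplex.mk j q w').ShortExact) (X Y : A)

/-- The differential `X ⊞ E ⟶ Y ⊞ F`. -/
noncomputable def dd (p : E ⟶ V) (j : V ⟶ F) : X ⊞ E ⟶ Y ⊞ F :=
  biprod.snd ≫ p ≫ j ≫ biprod.inr

lemma dd_comp (w' : j ≫ q = 0) : dd X Y p j ≫ dd Y X q i = 0 := by
  simp [dd, reassoc_of% w']

include hS hS' in
/-- The homology of `X ⊞ E ⟶ Y ⊞ F ⟶ X ⊞ E` is `Y`. -/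
lemma nonempty_homology_iso :
    Nonempty ((ShortComplex.mk (dd X Y p j) (dd Y X q i) (dd_comp X Y w')).homology ≅ Y) := by
  have := hS.mono_f
  have := hS.epi_g
  have := hS'.mono_f
  have := hS'.epi_g
  dsimp at this
  have hi : Mono i := hS.mono_f
  have hp : Epi p := hS.epi_g
  have hj : Mono j := hS'.mono_f
  have hq : Epi q := hS'.epi_g
  let k : Y ⊞ V ⟶ Y ⊞ F := biprod.map (𝟙 Y) j
  have wk : k ≫ dd Y X q i = 0 := by
    simp [k, dd, reassoc_of% w']
  have hk : IsLimit (KernelFork.ofι k wk) := by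
    have : Mono k := inferInstance
    refine KernelFork.IsLimit.ofι' k wk (fun {W} t ht => ?_)
    have h1 : t ≫ biprod.snd ≫ q = 0 := by
      rw [← cancel_mono (i ≫ (biprod.inr : E ⟶ X ⊞ E))]
      simpa [dd] using ht
    refine ⟨biprod.lift (t ≫ biprod.fst) (hS'.exact.lift (t ≫ biprod.snd) (by simpa using h1)), ?_⟩
    ext
    · simp [k]
    · simp only [k, Category.assoc, biprod.map_snd, biprod.lift_snd_assoc]
      exact hS'.exact.lift_f _ _
  let f' : X ⊞ E ⟶ Y ⊞ V := biprod.snd ≫ p ≫ biprod.inr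
  have hf' : f' ≫ k = dd X Y p j := by simp [f', k, dd]
  have hπ : ∀ (f'' : X ⊞ E ⟶ Y ⊞ V) (_ : f'' = f') (wπ : f'' ≫ (biprod.fst : Y ⊞ V ⟶ Y) = 0),
      Nonempty (IsColimit (CokernelCofork.ofπ (biprod.fst : Y ⊞ V ⟶ Y) wπ)) := by
    rintro _ rfl wπ
    refine ⟨CokernelCofork.IsColimit.ofπ' _ _ (fun {W} t ht => ?_)⟩
    have h1 : (biprod.inr : V ⟶ Y ⊞ V) ≫ t = 0 := by
      rw [← cancel_epi ((biprod.snd : X ⊞ E ⟶ E) ≫ p)]
      simpa [f'] using ht
    refine ⟨biprod.inl ≫ t, ?_⟩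
    ext
    · simp
    · simp [h1]
  let S := ShortComplex.mk (dd X Y p j) (dd Y X q i) (dd_comp X Y w')
  have hlift : hk.lift (KernelFork.ofι S.f S.zero) = f' := by
    rw [← cancel_mono k, hf']
    exact hk.fac _ WalkingParallelPair.zero
  let h : S.LeftHomologyData :=
    { K := Y ⊞ V
      H := Y
      i := k
      π := biprod.fst
      wi := wk
      hi := hk
      wπ := by rw [hlift]; simp [f']
      hπ := (hπ _ hlift _).some }
  exact ⟨h.homologyIso⟩

include hS hS' in
lemma exists_two_periodic (e : X ⊞ E ≅ Y ⊞ F) :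
    ∃ (M : A) (φ ψ : M ⟶ M) (h₁ : φ ≫ ψ = 0) (h₂ : ψ ≫ φ = 0),
      Nonempty ((ShortComplex.mk φ ψ h₁).homology ≅ X) ∧
      Nonempty ((ShortComplex.mk ψ φ h₂).homology ≅ Y) := by
  refine ⟨X ⊞ E, e.hom ≫ dd Y X q i, dd X Y p j ≫ e.inv, ?_, ?_, ?_, ?_⟩
  · rw [Category.assoc, reassoc_of% (dd_comp Y X w : dd Y X q i ≫ dd X Y p j = 0)]
    simp
  · simp [dd_comp X Y w']
  · obtain ⟨f⟩ := nonempty_homology_iso hS' hS Y X
    have g : ShortComplex.mk (e.hom ≫ dd Y X q i) (dd X Y p j ≫ e.inv)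
        (by rw [Category.assoc, reassoc_of% (dd_comp Y X w : dd Y X q i ≫ dd X Y p j = 0)]; simp) ≅
        ShortComplex.mk (dd Y X q i) (dd X Y p j) (dd_comp Y X w) :=
      ShortComplex.isoMk e (Iso.refl (X ⊞ E)) e (by simp) (by simp)
    exact ⟨ShortComplex.homologyMapIso g ≪≫ f⟩
  · obtain ⟨f⟩ := nonempty_homology_iso hS hS' X Y
    have g : ShortComplex.mk (dd X Y p j ≫ e.inv) (e.hom ≫ dd Y X q i)
        (by simp [dd_comp X Y w']) ≅
        ShortComplex.mk (dd X Y p j) (dd Y X q i) (dd_comp X Y w') :=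
      ShortComplex.isoMk (Iso.refl (X ⊞ E)) e (Iso.refl (X ⊞ E)) (by simp) (by simp)
    exact ⟨ShortComplex.homologyMapIso g ≪≫ f⟩

end TwoPeriodic

section ClHomology

lemma cl_eq_kernel_add_image {X Y : A} (f : X ⟶ Y) :
    cl X = cl (kernel f) + cl (Abelian.image f) := by
  have hS : (ShortComplex.mk (kernel.ι f) (Abelian.factorThruImage f) (by
      rw [← cancel_mono (Abelian.image.ι f)]; simp)).ShortExact :=
    { exact := by
        refine ShortComplex.exact_of_f_is_kernel _ (KernelFork.IsLimit.ofι' _ _ (fun {W} k hk => ?_))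
        have hk' : k ≫ f = 0 := by
          rw [← Abelian.image.fac f, ← Category.assoc]
          dsimp at hk
          rw [hk, zero_comp]
        exact ⟨kernel.lift f k hk', by simp⟩
      mono_f := by dsimp; infer_instance
      epi_g := by dsimp; infer_instance }
  exact cl_shortExact hS

lemma cl_eq_image_add_cokernel {X Y : A} (f : X ⟶ Y) :
    cl Y = cl (Abelian.image f) + cl (cokernel f) := by
  have hS : (ShortComplex.mk (kernel.ι (cokernel.π f)) (cokernel.π f) (by simp)).ShortExact :=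
    { exact := ShortComplex.exact_of_f_is_kernel _ (kernelIsKernel _)
      mono_f := by dsimp; infer_instance
      epi_g := by dsimp; infer_instance }
  exact cl_shortExact hS

lemma cl_homology (S : ShortComplex A) :
    cl S.homology = cl S.X₂ - cl (Abelian.image S.f) - cl (Abelian.image S.g) := by
  have h1 : cl S.cycles = cl (kernel S.g) :=
    cl_iso (IsLimit.conePointUniqueUpToIso S.cyclesIsKernel (limit.isLimit (parallelPair S.g 0)))
  have h2 : cl S.homology = cl (cokernel S.toCycles) :=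
    cl_iso (IsColimit.coconePointUniqueUpToIso S.homologyIsCokernel
      (colimit.isColimit (parallelPair S.toCycles 0)))
  have h3 := cl_eq_kernel_add_image S.g
  have h4 := cl_eq_image_add_cokernel S.toCycles
  have h5 := cl_eq_kernel_add_image S.toCycles
  have h6 := cl_eq_kernel_add_image S.f
  have h7 : cl (kernel S.toCycles) = cl (kernel S.f) := by
    have : IsIso (kernel.map S.toCycles S.f (𝟙 _) S.iCycles (by simp)) := by
      refine ⟨kernel.lift _ (kernel.ι _) ?_, ?_, ?_⟩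
      · rw [← cancel_mono S.iCycles]; simp
      · ext; simp
      · ext; simp
    exact cl_iso (@asIso _ _ _ _ _ this)
  rw [h7] at h5
  have h8 : cl (Abelian.image S.toCycles) = cl (Abelian.image S.f) := by
    have := h5.symm.trans h6
    exact add_left_cancel this
  rw [h2, h3, ← h8, ← h1, h4]
  abel

end ClHomology

section Maps

variable (P : ObjectProperty A)

/-- The map `K₀(P) → K₀(A)`. -/
noncomputable def iotaMap : K0sub P →+ K0 A :=
  QuotientAddGroup.lift (relSub P) (FreeAbelianGroup.lift (fun X => cl X.1)) (by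
    rw [relSub, AddSubgroup.closure_le]
    rintro x ⟨S, h₁, h₂, h₃, hS, rfl⟩
    simp [cl_shortExact hS])

lemma iotaMap_clSub {X : A} (hX : P X) : iotaMap P (clSub P X) = cl X := by
  simp [iotaMap, clSub, hX]

variable {Q : Type u'} [Category.{v'} Q] [Abelian Q]
  (L : A ⥤ Q) [L.Additive] [PreservesFiniteLimits L] [PreservesFiniteColimits L]

/-- The map `K₀(A) → K₀(Q)` of an exact functor. -/
noncomputable def mapMap : K0 A →+ K0 Q :=
  QuotientAddGroup.lift (relAb A) (FreeAbelianGroup.lift (fun X => cl (L.obj X))) (by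
    rw [relAb, AddSubgroup.closure_le]
    rintro x ⟨S, hS, rfl⟩
    have : cl (L.obj S.X₂) = cl (L.obj S.X₁) + cl (L.obj S.X₃) :=
      cl_shortExact (hS.map_of_exact L)
    simp [this])

lemma mapMap_cl (X : A) : mapMap L (cl X) = cl (L.obj X) := by
  simp [mapMap, cl]

end Maps

section Exactness

variable (P : ObjectProperty A) [P.IsSerreClass]
  {Q : Type u'} [Category.{v'} Q] [Abelian Q]
  (L : A ⥤ Q) [L.IsLocalization P.isoModSerre] [L.Additive] [PreservesFiniteLimits L]
  [PreservesFiniteColimits L]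

/-- The quotient map to `K₀(A)/K₀(P)`. -/
noncomputable def qm (X : A) : K0 A ⧸ (iotaMap P).range := QuotientAddGroup.mk (cl X)

omit [P.IsSerreClass] in
lemma qm_eq_zero {X : A} (hX : P X) : qm P X = 0 :=
  (QuotientAddGroup.eq_zero_iff _).2 ⟨clSub P X, iotaMap_clSub P hX⟩

omit [P.IsSerreClass] in
lemma qm_shortExact {S : ShortComplex A} (hS : S.ShortExact) :
    qm P S.X₂ = qm P S.X₁ + qm P S.X₃ := by
  rw [qm, cl_shortExact hS]
  rfl

lemma qm_eq_of_isoModSerre {X Y : A} (f : X ⟶ Y) (hf : P.isoModSerre f) : qm P X = qm P Y := by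
  have h1 : qm P X = qm P (kernel f) + qm P (Abelian.image f) :=
    congrArg _ (cl_eq_kernel_add_image f)
  have h2 : qm P Y = qm P (Abelian.image f) + qm P (cokernel f) :=
    congrArg _ (cl_eq_image_add_cokernel f)
  rw [h1, h2, qm_eq_zero P hf.1, qm_eq_zero P hf.2, zero_add, add_zero]

omit [PreservesFiniteLimits L] [PreservesFiniteColimits L] in
lemma qm_eq_of_iso {X Y : A} (e : L.obj X ≅ L.obj Y) : qm P X = qm P Y := by
  obtain ⟨φ, hφ⟩ := Localization.exists_rightFraction L P.isoModSerre e.hom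
  have h1 : L.map φ.f = L.map φ.s ≫ e.hom := by
    rw [← φ.map_s_comp_map L (Localization.inverts L P.isoModSerre), ← hφ]
  have h2 : IsIso (L.map φ.s) := Localization.inverts L P.isoModSerre _ φ.hs
  have h3 : IsIso (L.map φ.f) := by rw [h1]; infer_instance
  rw [ObjectProperty.SerreClassLocalization.isIso_map_iff L P] at h3
  exact (qm_eq_of_isoModSerre P φ.s φ.hs).symm.trans (qm_eq_of_isoModSerre P φ.f h3)

include P in
lemma exists_shortExact_lift {T : ShortComplex Q} (hT : T.ShortExact) :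
    ∃ S : ShortComplex A, S.ShortExact ∧ Nonempty (L.obj S.X₁ ≅ T.X₁) ∧
      Nonempty (L.obj S.X₂ ≅ T.X₂) ∧ Nonempty (L.obj S.X₃ ≅ T.X₃) := by
  have hm : Mono T.f := hT.mono_f
  rw [ObjectProperty.SerreClassLocalization.mono_iff L P] at hm
  obtain ⟨X, Y, f, hf, ⟨e⟩⟩ := hm
  have hS : (ShortComplex.mk f (cokernel.π f) (by simp)).ShortExact :=
    { exact := ShortComplex.exact_of_g_is_cokernel _ (cokernelIsCokernel f)
      mono_f := hf
      epi_g := by dsimp; infer_instance }
  refine ⟨_, hS, ⟨Arrow.leftFunc.mapIso e⟩, ⟨Arrow.rightFunc.mapIso e⟩, ?_⟩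
  have hS' := hS.map_of_exact L
  have : HasCokernel (L.map f) := inferInstance
  have e1 : L.obj (cokernel f) ≅ cokernel (L.map f) :=
    IsColimit.coconePointUniqueUpToIso hS'.gIsCokernel (colimit.isColimit (parallelPair (L.map f) 0))
  have e2 : T.X₃ ≅ cokernel T.f :=
    IsColimit.coconePointUniqueUpToIso hT.gIsCokernel (colimit.isColimit (parallelPair T.f 0))
  have e3 : cokernel (L.map f) ≅ cokernel T.f :=
    cokernel.mapIso _ _ (Arrow.leftFunc.mapIso e) (Arrow.rightFunc.mapIso e) e.hom.w.symm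
  exact ⟨e1 ≪≫ e3 ≪≫ e2.symm⟩

include P in
omit [L.Additive] [PreservesFiniteLimits L] [PreservesFiniteColimits L] in
lemma ess_surj : L.EssSurj := Localization.essSurj L P.isoModSerre

/-- The inverse map `K₀(Q) → K₀(A)/K₀(P)`. -/
noncomputable def muMap : K0 Q →+ K0 A ⧸ (iotaMap P).range :=
  haveI := ess_surj P L
  QuotientAddGroup.lift (relAb Q) (FreeAbelianGroup.lift (fun X => qm P (L.objPreimage X))) (by
    rw [relAb, AddSubgroup.closure_le]
    rintro x ⟨T, hT, rfl⟩
    obtain ⟨S, hS, ⟨e₁⟩, ⟨e₂⟩, ⟨e₃⟩⟩ := exists_shortExact_lift P L hT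
    have h1 : qm P (L.objPreimage T.X₁) = qm P S.X₁ :=
      qm_eq_of_iso P L (L.objObjPreimageIso _ ≪≫ e₁.symm)
    have h2 : qm P (L.objPreimage T.X₂) = qm P S.X₂ :=
      qm_eq_of_iso P L (L.objObjPreimageIso _ ≪≫ e₂.symm)
    have h3 : qm P (L.objPreimage T.X₃) = qm P S.X₃ :=
      qm_eq_of_iso P L (L.objObjPreimageIso _ ≪≫ e₃.symm)
    simp [h1, h2, h3, qm_shortExact P hS])

lemma muMap_mapMap (x : K0 A) : muMap P L (mapMap L x) = QuotientAddGroup.mk x := by
  haveI := ess_surj P L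
  suffices (muMap P L).comp (mapMap L) = QuotientAddGroup.mk' (iotaMap P).range from
    DFunLike.congr_fun this x
  apply QuotientAddGroup.addMonoidHom_ext
  ext X
  change muMap P L (mapMap L (cl X)) = qm P X
  rw [mapMap_cl]
  have : muMap P L (cl (L.obj X)) = qm P (L.objPreimage (L.obj X)) := by
    simp [muMap, cl]
  rw [this]
  exact qm_eq_of_iso P L (L.objObjPreimageIso _)

lemma mapMap_ker : (mapMap L).ker = (iotaMap P).range := by
  apply le_antisymm
  · intro x hx
    rw [← QuotientAddGroup.eq_zero_iff, ← muMap_mapMap P L x, AddMonoidHom.mem_ker.1 hx, map_zero]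
  · rintro _ ⟨x, rfl⟩
    rw [AddMonoidHom.mem_ker]
    obtain ⟨X, Y, hX, hY, rfl⟩ := exists_clSub_sub_clSub P (fun X Y hX hY => P.prop_biprod hX hY) x
    rw [map_sub, iotaMap_clSub P hX, iotaMap_clSub P hY, map_sub, mapMap_cl, mapMap_cl,
      cl_eq_zero ((ObjectProperty.SerreClassLocalization.isZero_obj_iff L P X).2 hX),
      cl_eq_zero ((ObjectProperty.SerreClassLocalization.isZero_obj_iff L P Y).2 hY), sub_zero]

include P in
lemma mapMap_surjective : Function.Surjective (mapMap L) := by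
  haveI := ess_surj P L
  intro x
  obtain ⟨x, rfl⟩ := QuotientAddGroup.mk_surjective x
  induction x using FreeAbelianGroup.induction_on with
  | zero => exact ⟨0, by simp⟩
  | of X =>
    exact ⟨cl (L.objPreimage X), (mapMap_cl L _).trans (cl_iso (L.objObjPreimageIso X))⟩
  | neg X =>
    refine ⟨- cl (L.objPreimage X), ?_⟩
    rw [map_neg, mapMap_cl, cl_iso (L.objObjPreimageIso X)]
    rfl
  | add x y hx hy =>
    obtain ⟨a, ha⟩ := hx
    obtain ⟨b, hb⟩ := hy
    exact ⟨a + b, by rw [map_add, ha, hb]; rfl⟩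

lemma iotaMap_eq_zero_iff (x : K0sub P) :
    iotaMap P x = 0 ↔
        ∃ (M : A) (φ ψ : M ⟶ M) (h₁ : φ ≫ ψ = 0) (h₂ : ψ ≫ φ = 0),
          P (ShortComplex.mk φ ψ h₁).homology ∧ P (ShortComplex.mk ψ φ h₂).homology ∧
          x = clSub P (ShortComplex.mk φ ψ h₁).homology -
            clSub P (ShortComplex.mk ψ φ h₂).homology := by
  constructor
  · intro hx
    obtain ⟨X, Y, hX, hY, rfl⟩ := exists_clSub_sub_clSub P (fun X Y hX hY => P.prop_biprod hX hY) x
    rw [map_sub, iotaMap_clSub P hX, iotaMap_clSub P hY, sub_eq_zero] at hx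
    obtain ⟨U, V, E, F, i, p, w, j, q, w', hS, hS', ⟨e⟩⟩ := exists_of_cl_eq hx
    obtain ⟨M, φ, ψ, h₁, h₂, ⟨e₁⟩, ⟨e₂⟩⟩ := exists_two_periodic hS hS' X Y e
    exact ⟨M, φ, ψ, h₁, h₂, P.prop_of_iso e₁.symm hX, P.prop_of_iso e₂.symm hY,
      by rw [clSub_iso P e₁, clSub_iso P e₂]⟩
  · rintro ⟨M, φ, ψ, h₁, h₂, hP₁, hP₂, rfl⟩
    rw [map_sub, iotaMap_clSub P hP₁, iotaMap_clSub P hP₂, cl_homology, cl_homology]
    dsimp
    abel

end Exactness

end Groth.Agent.Cohder.K0Serre
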