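import Groth.Prelude.Def_KZero
import Mathlib.CategoryTheory.Abelian.Exact
import Mathlib.Algebra.Homology.ShortComplex.ExactFunctor

/-!
# Transfer of `K0sub` along a fully faithful exact functor

`K0Transfer.exists_equiv`: let `F : A ⥤ B` be a fully faithful exact functor of abelian categories, `P`
and `Q` object properties containing a zero object such that `P X → Q (F X)` and every `Y` with `Q Y` is
isomorphic to some `F X` with `P X`.  Then `K0sub P ≃+ K0sub Q`, `[X] ↦ [F X]`.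
-/

set_option autoImplicit false

universe v v' u u'

open CategoryTheory CategoryTheory.Limits

namespace Groth.Agent.Cohder.K0Transfer

variable {A : Type u} [Category.{v} A] [Abelian A] {B : Type u'} [Category.{v'} B] [Abelian B]

theorem clSub_of_prop {P : ObjectProperty A} {X : A} (h : P X) :
    KZero.clSub P X = QuotientAddGroup.mk (FreeAbelianGroup.of ⟨X, h⟩) := by
  simp [KZero.clSub, h]

/-- Additivity of `clSub` on short exact sequences. -/
theorem clSub_shortExact {P : ObjectProperty A} (S : ShortComplex A) (hS : S.ShortExact)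
    (h₁ : P S.X₁) (h₂ : P S.X₂) (h₃ : P S.X₃) :
    KZero.clSub P S.X₂ = KZero.clSub P S.X₁ + KZero.clSub P S.X₃ := by
  rw [clSub_of_prop h₁, clSub_of_prop h₂, clSub_of_prop h₃]
  have h : (QuotientAddGroup.mk (FreeAbelianGroup.of ⟨S.X₂, h₂⟩ - FreeAbelianGroup.of ⟨S.X₁, h₁⟩ -
      FreeAbelianGroup.of ⟨S.X₃, h₃⟩) : KZero.K0sub P) = 0 :=
    (QuotientAddGroup.eq_zero_iff _).2 (AddSubgroup.subset_closure ⟨S, h₁, h₂, h₃, hS, rfl⟩)
  rw [QuotientAddGroup.mk_sub, QuotientAddGroup.mk_sub, sub_sub, sub_eq_zero] at h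
  exact h

/-- The class of a zero object is zero. -/
theorem clSub_of_isZero {P : ObjectProperty A} {Z : A} (hZ : IsZero Z) (h : P Z) :
    KZero.clSub P Z = 0 := by
  let S : ShortComplex A := ShortComplex.mk (𝟙 Z) (0 : Z ⟶ Z) (by simp)
  have hS : S.ShortExact :=
    { exact := ShortComplex.exact_of_isZero_X₂ S hZ
      mono_f := by dsimp [S]; infer_instance
      epi_g := ⟨fun a b _ => hZ.eq_of_src a b⟩ }
  have := clSub_shortExact S hS h h h
  change KZero.clSub P Z = KZero.clSub P Z + KZero.clSub P Z at this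
  simpa using this

/-- Isomorphic objects have the same class. -/
theorem clSub_of_iso {P : ObjectProperty A} (h0 : ∃ Z : A, IsZero Z ∧ P Z) {X Y : A} (e : X ≅ Y)
    (hX : P X) (hY : P Y) : KZero.clSub P X = KZero.clSub P Y := by
  obtain ⟨Z, hZ, hPZ⟩ := h0
  let S : ShortComplex A := ShortComplex.mk e.hom (0 : Y ⟶ Z) (by simp)
  have hS : S.ShortExact :=
    { exact := (ShortComplex.exact_iff_epi S rfl).2 (by dsimp [S]; infer_instance)
      mono_f := by dsimp [S]; infer_instance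
      epi_g := ⟨fun a b _ => hZ.eq_of_src a b⟩ }
  have := clSub_shortExact S hS hX hY hPZ
  change KZero.clSub P Y = KZero.clSub P X + KZero.clSub P Z at this
  rw [this, clSub_of_isZero hZ hPZ, add_zero]

/-- Universal property of `K0sub`. -/
theorem exists_lift {P : ObjectProperty A} {G : Type*} [AddCommGroup G] (f : Subtype P → G)
    (hf : ∀ (S : ShortComplex A) (h₁ : P S.X₁) (h₂ : P S.X₂) (h₃ : P S.X₃), S.ShortExact →
      f ⟨S.X₂, h₂⟩ = f ⟨S.X₁, h₁⟩ + f ⟨S.X₃, h₃⟩) :
    ∃ φ : KZero.K0sub P →+ G, ∀ (X : A) (h : P X), φ (KZero.clSub P X) = f ⟨X, h⟩ := by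
  refine ⟨QuotientAddGroup.lift (KZero.relSub P) (FreeAbelianGroup.lift f) ?_, ?_⟩
  · rw [KZero.relSub, AddSubgroup.closure_le]
    rintro x ⟨S, h₁, h₂, h₃, hS, rfl⟩
    change FreeAbelianGroup.lift f _ = 0
    rw [map_sub, map_sub, FreeAbelianGroup.lift_apply_of, FreeAbelianGroup.lift_apply_of,
      FreeAbelianGroup.lift_apply_of, hf S h₁ h₂ h₃ hS]
    abel
  · intro X h
    rw [clSub_of_prop h]
    exact FreeAbelianGroup.lift_apply_of _ _

/-- Two homomorphisms out of `K0sub P` agreeing on classes are equal. -/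
theorem hom_ext {P : ObjectProperty A} {G : Type*} [AddCommGroup G] {φ ψ : KZero.K0sub P →+ G}
    (h : ∀ X : A, P X → φ (KZero.clSub P X) = ψ (KZero.clSub P X)) : φ = ψ := by
  apply QuotientAddGroup.addMonoidHom_ext
  apply FreeAbelianGroup.lift_ext
  rintro ⟨X, hX⟩
  have := h X hX
  rw [clSub_of_prop hX] at this
  exact this

/-- Transfer of `K0sub` along a fully faithful exact functor. -/
theorem exists_equiv (F : A ⥤ B) [F.Full] [F.Faithful] [F.Additive] [PreservesFiniteLimits F]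
    [PreservesFiniteColimits F] (P : ObjectProperty A) (Q : ObjectProperty B)
    (hP0 : ∃ Z : A, IsZero Z ∧ P Z)
    (hPQ : ∀ X : A, P X → Q (F.obj X))
    (hQP : ∀ Y : B, Q Y → ∃ X : A, P X ∧ Nonempty (F.obj X ≅ Y)) :
    ∃ φ : KZero.K0sub P ≃+ KZero.K0sub Q, ∀ X : A, P X →
      φ (KZero.clSub P X) = KZero.clSub Q (F.obj X) := by
  obtain ⟨φ, hφ⟩ := exists_lift (P := P) (fun X => KZero.clSub Q (F.obj X.1))
    (fun S h₁ h₂ h₃ hS => clSub_shortExact (S.map F) (hS.map_of_exact F)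
      (hPQ _ h₁) (hPQ _ h₂) (hPQ _ h₃))
  choose g hg hg' using hQP
  have key : ∀ (Y : B) (hY : Q Y) (X : A), P X → Nonempty (F.obj X ≅ Y) →
      KZero.clSub P (g Y hY) = KZero.clSub P X := by
    intro Y hY X hX ⟨e⟩
    obtain ⟨e'⟩ := hg' Y hY
    exact clSub_of_iso hP0 (F.preimageIso (e' ≪≫ e.symm)) (hg Y hY) hX
  obtain ⟨ψ, hψ⟩ := exists_lift (P := Q) (fun Y => KZero.clSub P (g Y.1 Y.2)) (by
    intro S h₁ h₂ h₃ hS
    obtain ⟨e₁⟩ := hg' _ h₁
    obtain ⟨e₂⟩ := hg' _ h₂
    obtain ⟨e₃⟩ := hg' _ h₃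
    let T : ShortComplex A := ShortComplex.mk (F.preimage (e₁.hom ≫ S.f ≫ e₂.inv))
      (F.preimage (e₂.hom ≫ S.g ≫ e₃.inv)) (by
        apply F.map_injective
        simp)
    have e : T.map F ≅ S := ShortComplex.isoMk e₁ e₂ e₃
      (by
        change e₁.hom ≫ S.f = F.map (F.preimage (e₁.hom ≫ S.f ≫ e₂.inv)) ≫ e₂.hom
        rw [F.map_preimage]
        simp)
      (by
        change e₂.hom ≫ S.g = F.map (F.preimage (e₂.hom ≫ S.g ≫ e₃.inv)) ≫ e₃.hom
        rw [F.map_preimage]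
        simp)
    have hT' : (T.map F).ShortExact := ShortComplex.shortExact_of_iso e.symm hS
    have hT : T.ShortExact :=
      { exact := (ShortComplex.exact_map_iff_of_faithful T F).1 hT'.exact
        mono_f := by
          have : Mono (F.map T.f) := hT'.mono_f
          exact F.mono_of_mono_map this
        epi_g := by
          have : Epi (F.map T.g) := hT'.epi_g
          exact F.epi_of_epi_map this }
    exact clSub_shortExact T hT (hg _ h₁) (hg _ h₂) (hg _ h₃))
  have h1 : ψ.comp φ = AddMonoidHom.id _ := by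
    apply hom_ext
    intro X hX
    rw [AddMonoidHom.comp_apply, hφ X hX]
    dsimp only
    rw [hψ _ (hPQ X hX)]
    exact key _ _ X hX ⟨Iso.refl _⟩
  have hQ0 : ∃ Z : B, IsZero Z ∧ Q Z := by
    obtain ⟨Z, hZ, hPZ⟩ := hP0
    exact ⟨F.obj Z, F.map_isZero hZ, hPQ Z hPZ⟩
  have h2 : φ.comp ψ = AddMonoidHom.id _ := by
    apply hom_ext
    intro Y hY
    rw [AddMonoidHom.comp_apply, hψ Y hY]
    dsimp only
    rw [hφ _ (hg Y hY)]
    obtain ⟨e⟩ := hg' Y hY
    exact clSub_of_iso hQ0 e (hPQ _ (hg Y hY)) hY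
  exact ⟨AddMonoidHom.toAddEquiv φ ψ h1 h2, fun X hX => hφ X hX⟩

end Groth.Agent.Cohder.K0Transfer
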