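import Groth.Prelude.Def_KZero
import Mathlib.Algebra.Homology.DerivedCategory.TStructure
import Mathlib.Algebra.Homology.DerivedCategory.SingleTriangle
import Mathlib.Algebra.Ring.NegOnePow
import Mathlib.Algebra.BigOperators.Finprod

/-!
Basic calculus of `KZero.K0sub` and `KZero.K0tr`: universal properties, isomorphism invariance,
behaviour under shift, and a criterion for the comparison.
-/

set_option autoImplicit false
universe w v u
open CategoryTheory CategoryTheory.Limits ZeroObject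

namespace Groth.Agent.Cohder.KZBasic

section Sub

variable {A : Type u} [Category.{v} A] [Abelian A] (P : ObjectProperty A)

lemma clSub_of {X : A} (h : P X) :
    KZero.clSub P X = QuotientAddGroup.mk (FreeAbelianGroup.of ⟨X, h⟩) := dif_pos h

lemma clSub_shortExact (S : ShortComplex A) (hS : S.ShortExact) (h₁ : P S.X₁) (h₂ : P S.X₂)
    (h₃ : P S.X₃) : KZero.clSub P S.X₂ = KZero.clSub P S.X₁ + KZero.clSub P S.X₃ := by
  rw [clSub_of P h₁, clSub_of P h₂, clSub_of P h₃]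
  rw [← QuotientAddGroup.mk_add, QuotientAddGroup.eq]
  have : FreeAbelianGroup.of (⟨S.X₂, h₂⟩ : Subtype P) - FreeAbelianGroup.of ⟨S.X₁, h₁⟩ -
      FreeAbelianGroup.of ⟨S.X₃, h₃⟩ ∈ KZero.relSub P :=
    AddSubgroup.subset_closure ⟨S, h₁, h₂, h₃, hS, rfl⟩
  rw [← AddSubgroup.neg_mem_iff]
  convert this using 1
  abel

/-- The universal property of `K0sub`. -/
noncomputable def liftSub {G : Type*} [AddCommGroup G] (f : Subtype P → G)
    (hf : ∀ (S : ShortComplex A) (h₁ : P S.X₁) (h₂ : P S.X₂) (h₃ : P S.X₃), S.ShortExact →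
      f ⟨S.X₂, h₂⟩ = f ⟨S.X₁, h₁⟩ + f ⟨S.X₃, h₃⟩) : KZero.K0sub P →+ G :=
  QuotientAddGroup.lift _ (FreeAbelianGroup.lift f) (by
    rw [KZero.relSub, AddSubgroup.closure_le]
    rintro x ⟨S, h₁, h₂, h₃, hS, rfl⟩
    simp only [SetLike.mem_coe, AddMonoidHom.mem_ker, map_sub, FreeAbelianGroup.lift_apply_of]
    rw [hf S h₁ h₂ h₃ hS]
    abel)

lemma liftSub_cl {G : Type*} [AddCommGroup G] (f : Subtype P → G)
    (hf : ∀ (S : ShortComplex A) (h₁ : P S.X₁) (h₂ : P S.X₂) (h₃ : P S.X₃), S.ShortExact →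
      f ⟨S.X₂, h₂⟩ = f ⟨S.X₁, h₁⟩ + f ⟨S.X₃, h₃⟩) {X : A} (h : P X) :
    liftSub P f hf (KZero.clSub P X) = f ⟨X, h⟩ := by
  rw [clSub_of P h]
  simp [liftSub]

/-- Two additive maps out of `K0sub P` agreeing on classes are equal. -/
lemma hom_ext_sub {G : Type*} [AddCommGroup G] {f g : KZero.K0sub P →+ G}
    (h : ∀ X, P X → f (KZero.clSub P X) = g (KZero.clSub P X)) : f = g := by
  apply QuotientAddGroup.addMonoidHom_ext
  apply FreeAbelianGroup.lift_ext
  rintro ⟨X, hX⟩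
  have := h X hX
  rw [clSub_of P hX] at this
  exact this

/-- `K0sub P` is generated by classes. -/
lemma closure_sub : AddSubgroup.closure {x | ∃ X, P X ∧ x = KZero.clSub P X} = ⊤ := by
  rw [eq_top_iff]
  rintro x -
  obtain ⟨y, rfl⟩ := QuotientAddGroup.mk_surjective x
  induction y using FreeAbelianGroup.induction_on with
  | zero => exact zero_mem _
  | of a => exact AddSubgroup.subset_closure ⟨a.1, a.2, (clSub_of P a.2).symm⟩
  | neg a ha => rw [QuotientAddGroup.mk_neg]; exact neg_mem ha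
  | add a b ha hb => rw [QuotientAddGroup.mk_add]; exact add_mem ha hb

lemma clSub_zero {Z : A} (hZ : IsZero Z) : KZero.clSub P Z = 0 := by
  by_cases h : P Z
  · have hS : (ShortComplex.mk (0 : Z ⟶ Z) (0 : Z ⟶ Z) (by simp)).ShortExact :=
      { exact := ShortComplex.exact_of_isZero_X₂ _ hZ
        mono_f := ⟨fun _ _ _ => hZ.eq_of_tgt _ _⟩
        epi_g := ⟨fun _ _ _ => hZ.eq_of_src _ _⟩ }
    have := clSub_shortExact P _ hS h h h
    simpa using this
  · exact dif_neg h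

lemma clSub_iso (hP0 : ∀ Z : A, IsZero Z → P Z) {X Y : A} (e : X ≅ Y) (hX : P X) (hY : P Y) :
    KZero.clSub P X = KZero.clSub P Y := by
  have hS : (ShortComplex.mk (0 : (0 : A) ⟶ X) e.hom (by simp)).ShortExact :=
    { exact := (ShortComplex.exact_iff_mono _ rfl).2 (inferInstanceAs (Mono e.hom))
      mono_f := ⟨fun _ _ _ => (isZero_zero A).eq_of_tgt _ _⟩
      epi_g := inferInstanceAs (Epi e.hom) }
  have := clSub_shortExact P _ hS (hP0 _ (isZero_zero A)) hX hY
  rw [this]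
  simp [clSub_zero P (isZero_zero A)]

end Sub

section Tr

variable {D : Type u} [Category.{v} D] [Preadditive D] [HasZeroObject D] [HasShift D ℤ]
  [∀ n : ℤ, (shiftFunctor D n).Additive] [Pretriangulated D] (P : ObjectProperty D)

open Pretriangulated

lemma clTr_of {X : D} (h : P X) :
    KZero.clTr P X = QuotientAddGroup.mk (FreeAbelianGroup.of ⟨X, h⟩) := dif_pos h

lemma clTr_triangle (T : Triangle D) (hT : T ∈ distTriang D) (h₁ : P T.obj₁) (h₂ : P T.obj₂)
    (h₃ : P T.obj₃) : KZero.clTr P T.obj₂ = KZero.clTr P T.obj₁ + KZero.clTr P T.obj₃ := by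
  rw [clTr_of P h₁, clTr_of P h₂, clTr_of P h₃]
  rw [← QuotientAddGroup.mk_add, QuotientAddGroup.eq]
  have : FreeAbelianGroup.of (⟨T.obj₂, h₂⟩ : Subtype P) - FreeAbelianGroup.of ⟨T.obj₁, h₁⟩ -
      FreeAbelianGroup.of ⟨T.obj₃, h₃⟩ ∈ KZero.relTr P :=
    AddSubgroup.subset_closure ⟨T, h₁, h₂, h₃, hT, rfl⟩
  rw [← AddSubgroup.neg_mem_iff]
  convert this using 1
  abel

/-- The universal property of `K0tr`. -/
noncomputable def liftTr {G : Type*} [AddCommGroup G] (f : Subtype P → G)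
    (hf : ∀ (T : Triangle D) (h₁ : P T.obj₁) (h₂ : P T.obj₂) (h₃ : P T.obj₃), T ∈ distTriang D →
      f ⟨T.obj₂, h₂⟩ = f ⟨T.obj₁, h₁⟩ + f ⟨T.obj₃, h₃⟩) : KZero.K0tr P →+ G :=
  QuotientAddGroup.lift _ (FreeAbelianGroup.lift f) (by
    rw [KZero.relTr, AddSubgroup.closure_le]
    rintro x ⟨T, h₁, h₂, h₃, hT, rfl⟩
    simp only [SetLike.mem_coe, AddMonoidHom.mem_ker, map_sub, FreeAbelianGroup.lift_apply_of]
    rw [hf T h₁ h₂ h₃ hT]
    abel)

lemma liftTr_cl {G : Type*} [AddCommGroup G] (f : Subtype P → G)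
    (hf : ∀ (T : Triangle D) (h₁ : P T.obj₁) (h₂ : P T.obj₂) (h₃ : P T.obj₃), T ∈ distTriang D →
      f ⟨T.obj₂, h₂⟩ = f ⟨T.obj₁, h₁⟩ + f ⟨T.obj₃, h₃⟩) {X : D} (h : P X) :
    liftTr P f hf (KZero.clTr P X) = f ⟨X, h⟩ := by
  rw [clTr_of P h]
  simp [liftTr]

/-- Two additive maps out of `K0tr P` agreeing on classes are equal. -/
lemma hom_ext_tr {G : Type*} [AddCommGroup G] {f g : KZero.K0tr P →+ G}
    (h : ∀ X, P X → f (KZero.clTr P X) = g (KZero.clTr P X)) : f = g := by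
  apply QuotientAddGroup.addMonoidHom_ext
  apply FreeAbelianGroup.lift_ext
  rintro ⟨X, hX⟩
  have := h X hX
  rw [clTr_of P hX] at this
  exact this

/-- `K0tr P` is generated by classes. -/
lemma closure_tr : AddSubgroup.closure {x | ∃ X, P X ∧ x = KZero.clTr P X} = ⊤ := by
  rw [eq_top_iff]
  rintro x -
  obtain ⟨y, rfl⟩ := QuotientAddGroup.mk_surjective x
  induction y using FreeAbelianGroup.induction_on with
  | zero => exact zero_mem _
  | of a => exact AddSubgroup.subset_closure ⟨a.1, a.2, (clTr_of P a.2).symm⟩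
  | neg a ha => rw [QuotientAddGroup.mk_neg]; exact neg_mem ha
  | add a b ha hb => rw [QuotientAddGroup.mk_add]; exact add_mem ha hb

/-- The class of a zero object vanishes. -/
lemma clTr_zero {Z : D} (hZ : IsZero Z) : KZero.clTr P Z = 0 := by
  by_cases h : P Z
  · have hT : Triangle.mk (0 : Z ⟶ Z) (0 : Z ⟶ Z) (0 : Z ⟶ Z⟦(1 : ℤ)⟧) ∈ distTriang D := by
      refine isomorphic_distinguished _ (contractible_distinguished Z) _ ?_
      refine Triangle.isoMk _ _ (Iso.refl _) (Iso.refl _) (hZ.iso (isZero_zero D)) ?_ ?_ ?_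
      · exact hZ.eq_of_src _ _
      · exact hZ.eq_of_src _ _
      · exact hZ.eq_of_src _ _
    have := clTr_triangle P _ hT h h h
    simpa using this
  · exact dif_neg h

/-- Isomorphism invariance of classes. -/
lemma clTr_iso (hP0 : ∀ Z : D, IsZero Z → P Z) {X Y : D} (e : X ≅ Y) (hX : P X) (hY : P Y) :
    KZero.clTr P X = KZero.clTr P Y := by
  have hT : Triangle.mk e.hom (0 : Y ⟶ 0) 0 ∈ distTriang D := by
    refine isomorphic_distinguished _ (contractible_distinguished X) _ ?_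
    refine Triangle.isoMk _ _ (Iso.refl _) e.symm (Iso.refl _) ?_ ?_ ?_
    · change e.hom ≫ e.inv = 𝟙 X ≫ 𝟙 X
      simp
    · exact (isZero_zero D).eq_of_tgt _ _
    · exact (isZero_zero D).eq_of_src _ _
  have := clTr_triangle P _ hT hX hY (hP0 _ (isZero_zero D))
  simp only [Triangle.mk_obj₂, Triangle.mk_obj₁, Triangle.mk_obj₃, clTr_zero P (isZero_zero D),
    add_zero] at this
  exact this.symm

/-- The class of a shift. -/
lemma clTr_shift_one (hP0 : ∀ Z : D, IsZero Z → P Z) {X : D} (hX : P X) (hX' : P (X⟦(1 : ℤ)⟧)) :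
    KZero.clTr P (X⟦(1 : ℤ)⟧) = - KZero.clTr P X := by
  have := clTr_triangle P _ (contractible_distinguished₂ X) hX (hP0 _ (isZero_zero D)) hX'
  simp only [Triangle.mk_obj₂, Triangle.mk_obj₁, Triangle.mk_obj₃,
    clTr_zero P (isZero_zero D)] at this
  rw [eq_neg_iff_add_eq_zero, add_comm]
  exact this.symm

/-- The class of an object as soon as its shift lies in `P`. -/
lemma clTr_of_shift_one (hP0 : ∀ Z : D, IsZero Z → P Z) {X Y : D} (e : Y ≅ X⟦(1 : ℤ)⟧) (hX : P X)
    (hX' : P (X⟦(1 : ℤ)⟧)) (hY : P Y) :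
    KZero.clTr P Y = - KZero.clTr P X := by
  rw [clTr_iso P hP0 e hY hX', clTr_shift_one P hP0 hX hX']

end Tr

end Groth.Agent.Cohder.KZBasic
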