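import Groth.Agent.Cohder.KZEuler
import Mathlib.Algebra.Homology.DerivedCategory.FullyFaithful

/-!
`K0sub P ≃+ K0tr Q` where `Q` = bounded objects of the derived category with cohomology in `P`, for `P` closed
under kernels, cokernels and extensions.
-/

set_option autoImplicit false
universe w v u
open CategoryTheory CategoryTheory.Limits ZeroObject

namespace Groth.Agent.Cohder.KZDevissage

open Groth.Agent.Cohder.KZBasic Groth.Agent.Cohder.KZEuler

variable {A : Type u} [Category.{v} A] [Abelian A] [HasDerivedCategory.{w} A] (P : ObjectProperty A)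

open Pretriangulated

/-- `H^n` of an object placed in degree `n`. -/
noncomputable def homologySingleIso (n : ℤ) (X : A) :
    (DerivedCategory.homologyFunctor A n).obj ((DerivedCategory.singleFunctor A n).obj X) ≅ X :=
  (DerivedCategory.homologyFunctorFactors A n).app ((HomologicalComplex.single A _ n).obj X) ≪≫
    HomologicalComplex.singleObjHomologySelfIso (ComplexShape.up ℤ) n X

lemma isZero_homology_single (n i : ℤ) (h : i ≠ n) (X : A) :
    IsZero ((DerivedCategory.homologyFunctor A i).obj ((DerivedCategory.singleFunctor A n).obj X)) := by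
  rcases lt_or_gt_of_ne h with h | h
  · exact DerivedCategory.isZero_of_isGE _ n i h
  · exact DerivedCategory.isZero_of_isLE _ n i h

/-- Bounded objects with cohomology in `P`. -/
def BddIn : ObjectProperty (DerivedCategory A) := fun K =>
  (∀ n, P ((DerivedCategory.homologyFunctor A n).obj K)) ∧ ∃ a b : ℤ, K.IsGE a ∧ K.IsLE b

variable {P}

lemma bddIn_single (hP : KClosed P) (n : ℤ) {X : A} (hX : P X) :
    BddIn P ((DerivedCategory.singleFunctor A n).obj X) := by
  refine ⟨fun i => ?_, n, n, inferInstance, inferInstance⟩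
  by_cases h : i = n
  · subst h
    exact hP.iso (homologySingleIso i X).symm hX
  · exact hP.zero _ (isZero_homology_single n i h X)

lemma bddIn_iso (hP : KClosed P) {K L : DerivedCategory A} (e : K ≅ L) (hK : BddIn P K) :
    BddIn P L := by
  obtain ⟨h, a, b, h₁, h₂⟩ := hK
  exact ⟨fun n => hP.iso ((DerivedCategory.homologyFunctor A n).mapIso e) (h n), a, b,
    DerivedCategory.TStructure.t.isGE_of_iso e a, DerivedCategory.TStructure.t.isLE_of_iso e b⟩

lemma bddIn_zero (hP : KClosed P) (Z : DerivedCategory A) (hZ : IsZero Z) : BddIn P Z :=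
  bddIn_iso hP (((DerivedCategory.singleFunctor A 0).map_isZero (isZero_zero A)).iso hZ)
    (bddIn_single hP 0 (hP.zero _ (isZero_zero A)))

/-- The homology of a shift. -/
noncomputable def homologyShiftIso (K : DerivedCategory A) (n m : ℤ) (h : 1 + n = m) :
    (DerivedCategory.homologyFunctor A n).obj (K⟦(1 : ℤ)⟧) ≅
      (DerivedCategory.homologyFunctor A m).obj K :=
  ((DerivedCategory.homologyFunctor A 0).shiftIso 1 n m h).app K

lemma bddIn_shift (hP : KClosed P) {K : DerivedCategory A} (hK : BddIn P K) :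
    BddIn P (K⟦(1 : ℤ)⟧) := by
  obtain ⟨h, a, b, h₁, h₂⟩ := hK
  refine ⟨fun n => hP.iso (homologyShiftIso K n (1 + n) rfl).symm (h _), a - 1, b - 1, ?_, ?_⟩
  · exact DerivedCategory.TStructure.t.isGE_shift K a 1 (a - 1) (by lia)
  · exact DerivedCategory.TStructure.t.isLE_shift K b 1 (b - 1) (by lia)

lemma clTr_single_shift (hP : KClosed P) (n : ℤ) {X : A} (hX : P X) :
    KZero.clTr (BddIn P) ((DerivedCategory.singleFunctor A n).obj X) =
      - KZero.clTr (BddIn P) ((DerivedCategory.singleFunctor A (n + 1)).obj X) := by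
  refine clTr_of_shift_one (BddIn P) (bddIn_zero hP)
    (((DerivedCategory.singleFunctors A).shiftIso 1 n (n + 1) (by lia)).symm.app X)
    (bddIn_single hP _ hX) (bddIn_shift hP (bddIn_single hP _ hX)) (bddIn_single hP _ hX)

/-- The class of `X[-n]` is `(-1)^n [X]`. -/
lemma clTr_single (hP : KClosed P) (n : ℤ) {X : A} (hX : P X) :
    KZero.clTr (BddIn P) ((DerivedCategory.singleFunctor A n).obj X) =
      n.negOnePow • KZero.clTr (BddIn P) ((DerivedCategory.singleFunctor A 0).obj X) := by
  induction n using Int.induction_on with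
  | zero => simp
  | succ n ih =>
    have := clTr_single_shift hP (n : ℤ) hX
    rw [ih] at this
    rw [Int.negOnePow_succ, Units.neg_smul, this, neg_neg]
  | pred n ih =>
    have := clTr_single_shift hP (-(n : ℤ) - 1) hX
    rw [sub_add_cancel, ih] at this
    rw [this, Int.negOnePow_sub, Int.negOnePow_one]
    simp

/-- The truncation triangle in the derived category, with its effect on cohomology. -/
lemma exists_trunc (K : DerivedCategory A) (n : ℤ) :
    ∃ (X Y : DerivedCategory A) (_ : X.IsLE n) (_ : Y.IsGE (n + 1)) (f : X ⟶ K) (g : K ⟶ Y)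
      (h : Y ⟶ X⟦(1 : ℤ)⟧), Triangle.mk f g h ∈ distTriang (DerivedCategory A) := by
  obtain ⟨X, Y, hX, hY, f, g, h, hT⟩ :=
    DerivedCategory.TStructure.t.exists_triangle K n (n + 1) rfl
  exact ⟨X, Y, ⟨hX⟩, ⟨hY⟩, f, g, h, hT⟩

section Trunc

variable {K X Y : DerivedCategory A} {f : X ⟶ K} {g : K ⟶ Y} {h : Y ⟶ X⟦(1 : ℤ)⟧}
  (hT : Triangle.mk f g h ∈ distTriang (DerivedCategory A))

include hT

lemma isIso_trunc₁ (n : ℤ) [hX : X.IsLE n] [hY : Y.IsGE (n + 1)] (i : ℤ) (hi : i ≤ n) :
    IsIso ((DerivedCategory.homologyFunctor A i).map f) := by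
  have h₁ : Mono ((DerivedCategory.homologyFunctor A i).map f) := by
    refine (DerivedCategory.HomologySequence.mono_homologyMap_mor₁_iff _ hT (i - 1) i
      (by lia)).2 ?_
    exact (DerivedCategory.isZero_of_isGE Y (n + 1) (i - 1) (by lia)).eq_of_src _ _
  have h₂ : Epi ((DerivedCategory.homologyFunctor A i).map f) := by
    refine (DerivedCategory.HomologySequence.epi_homologyMap_mor₁_iff _ hT i).2 ?_
    exact (DerivedCategory.isZero_of_isGE Y (n + 1) i (by lia)).eq_of_tgt _ _
  exact isIso_of_mono_of_epi _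

lemma isIso_trunc₂ (n : ℤ) [hX : X.IsLE n] [hY : Y.IsGE (n + 1)] (i : ℤ) (hi : n < i) :
    IsIso ((DerivedCategory.homologyFunctor A i).map g) := by
  have h₁ : Mono ((DerivedCategory.homologyFunctor A i).map g) := by
    refine (DerivedCategory.HomologySequence.mono_homologyMap_mor₂_iff _ hT i).2 ?_
    exact (DerivedCategory.isZero_of_isLE X n i (by lia)).eq_of_src _ _
  have h₂ : Epi ((DerivedCategory.homologyFunctor A i).map g) := by
    refine (DerivedCategory.HomologySequence.epi_homologyMap_mor₂_iff _ hT i (i + 1) rfl).2 ?_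
    exact (DerivedCategory.isZero_of_isLE X n (i + 1) (by lia)).eq_of_tgt _ _
  exact isIso_of_mono_of_epi _

lemma trunc₁_prop (hP : KClosed P) (n : ℤ) [hX : X.IsLE n] [hY : Y.IsGE (n + 1)]
    (hK : ∀ i, P ((DerivedCategory.homologyFunctor A i).obj K)) (i : ℤ) :
    P ((DerivedCategory.homologyFunctor A i).obj X) := by
  by_cases hi : i ≤ n
  · have := isIso_trunc₁ hT n i hi
    exact hP.iso (asIso ((DerivedCategory.homologyFunctor A i).map f)).symm (hK i)
  · exact hP.zero _ (DerivedCategory.isZero_of_isLE X n i (by lia))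

lemma trunc₂_prop (hP : KClosed P) (n : ℤ) [hX : X.IsLE n] [hY : Y.IsGE (n + 1)]
    (hK : ∀ i, P ((DerivedCategory.homologyFunctor A i).obj K)) (i : ℤ) :
    P ((DerivedCategory.homologyFunctor A i).obj Y) := by
  by_cases hi : n < i
  · have := isIso_trunc₂ hT n i hi
    exact hP.iso (asIso ((DerivedCategory.homologyFunctor A i).map g)) (hK i)
  · exact hP.zero _ (DerivedCategory.isZero_of_isGE Y (n + 1) i (by lia))

lemma trunc₁_isGE (n a : ℤ) [hX : X.IsLE n] [hY : Y.IsGE (n + 1)] [hK : K.IsGE a] :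
    X.IsGE a := by
  rw [DerivedCategory.isGE_iff]
  intro i hi
  by_cases hi' : i ≤ n
  · have := isIso_trunc₁ hT n i hi'
    exact (DerivedCategory.isZero_of_isGE K a i hi).of_iso
      (asIso ((DerivedCategory.homologyFunctor A i).map f))
  · exact DerivedCategory.isZero_of_isLE X n i (by lia)

lemma trunc₂_isLE (n b : ℤ) [hX : X.IsLE n] [hY : Y.IsGE (n + 1)] [hK : K.IsLE b] :
    Y.IsLE b := by
  rw [DerivedCategory.isLE_iff]
  intro i hi
  by_cases hi' : n < i
  · have := isIso_trunc₂ hT n i hi'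
    exact (DerivedCategory.isZero_of_isLE K b i hi).of_iso
      (asIso ((DerivedCategory.homologyFunctor A i).map g)).symm
  · exact DerivedCategory.isZero_of_isGE Y (n + 1) i (by lia)

end Trunc

lemma clTr_mem_closure (hP : KClosed P) (k : ℕ) : ∀ (a : ℤ) (K : DerivedCategory A),
    (∀ n, P ((DerivedCategory.homologyFunctor A n).obj K)) → K.IsGE a → K.IsLE (a + k - 1) →
    KZero.clTr (BddIn P) K ∈ AddSubgroup.closure
      {x | ∃ X, P X ∧ x = KZero.clTr (BddIn P) ((DerivedCategory.singleFunctor A 0).obj X)} := by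
  induction k with
  | zero =>
    intro a K hK h₁ h₂
    have : IsZero K := by
      have h₃ : K.IsLE (a - 1) := by simpa using h₂
      exact DerivedCategory.TStructure.t.isZero K (a - 1) a (by lia)
    rw [clTr_zero _ this]
    exact zero_mem _
  | succ k ih =>
    intro a K hK h₁ h₂
    obtain ⟨X, Y, hX, hY, f, g, h, hT⟩ := exists_trunc K a
    have hXa := trunc₁_isGE hT a a
    have hYb := trunc₂_isLE hT a (a + (k + 1 : ℕ) - 1)
    have hXP := trunc₁_prop hT hP a hK
    have hYP := trunc₂_prop hT hP a hK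
    have e := clTr_triangle (BddIn P) _ hT ⟨hXP, a, a, hXa, hX⟩ ⟨hK, a, _, h₁, h₂⟩
      ⟨hYP, a + 1, _, hY, hYb⟩
    simp only [Triangle.mk_obj₁, Triangle.mk_obj₂, Triangle.mk_obj₃] at e
    rw [e]
    refine add_mem ?_ ?_
    · obtain ⟨Z, ⟨eZ⟩⟩ := X.exists_iso_singleFunctor_obj_of_isGE_of_isLE a
      have hZ : P Z := hP.iso ((DerivedCategory.homologyFunctor A a).mapIso eZ ≪≫
        homologySingleIso a Z) (hXP a)
      rw [clTr_iso (BddIn P) (bddIn_zero hP) eZ ⟨hXP, a, a, hXa, hX⟩ (bddIn_single hP a hZ),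
        clTr_single hP a hZ]
      have : KZero.clTr (BddIn P) ((DerivedCategory.singleFunctor A 0).obj Z) ∈
          AddSubgroup.closure {x | ∃ X, P X ∧ x =
            KZero.clTr (BddIn P) ((DerivedCategory.singleFunctor A 0).obj X)} :=
        AddSubgroup.subset_closure ⟨Z, hZ, rfl⟩
      rcases Int.units_eq_one_or a.negOnePow with ha | ha
      · rw [ha, one_smul]
        exact this
      · rw [ha, Units.neg_smul, one_smul]
        exact neg_mem this
    · refine ih (a + 1) Y hYP hY ?_
      have : a + 1 + (k : ℤ) - 1 = a + (k + 1 : ℕ) - 1 := by push_cast; ring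
      rw [this]
      exact hYb

/-- Dévissage: `K₀` of a class `P` of objects closed under kernels, cokernels and extensions agrees with `K₀` of
the bounded objects of the derived category with cohomology in `P`. -/
theorem exists_equiv (hP : KClosed P) (Q : ObjectProperty (DerivedCategory A))
    (hQ : ∀ K, Q K ↔ BddIn P K) :
    ∃ φ : KZero.K0sub P ≃+ KZero.K0tr Q, ∀ X : A, P X →
      φ (KZero.clSub P X) = KZero.clTr Q ((DerivedCategory.singleFunctor A 0).obj X) := by
  obtain rfl : Q = BddIn P := by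
    funext K
    exact propext (hQ K)
  let f : Subtype P → KZero.K0tr (BddIn P) := fun X =>
    KZero.clTr (BddIn P) ((DerivedCategory.singleFunctor A 0).obj X.1)
  have hf : ∀ (S : ShortComplex A) (h₁ : P S.X₁) (h₂ : P S.X₂) (h₃ : P S.X₃), S.ShortExact →
      f ⟨S.X₂, h₂⟩ = f ⟨S.X₁, h₁⟩ + f ⟨S.X₃, h₃⟩ := fun S h₁ h₂ h₃ hS =>
    clTr_triangle (BddIn P) _ hS.singleTriangle_distinguished (bddIn_single hP 0 h₁)
      (bddIn_single hP 0 h₂) (bddIn_single hP 0 h₃)
  let g : Subtype (BddIn P) → KZero.K0sub P := fun K => chi P K.1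
  have hg : ∀ (T : Triangle (DerivedCategory A)) (h₁ : BddIn P T.obj₁) (h₂ : BddIn P T.obj₂)
      (h₃ : BddIn P T.obj₃), T ∈ distTriang (DerivedCategory A) →
      g ⟨T.obj₂, h₂⟩ = g ⟨T.obj₁, h₁⟩ + g ⟨T.obj₃, h₃⟩ := fun T h₁ h₂ h₃ hT =>
    chi_triangle hP T hT h₁.1 h₂.1 h₃.1 h₁.2 h₂.2 h₃.2
  let Φ : KZero.K0sub P →+ KZero.K0tr (BddIn P) := liftSub P f hf
  let Ψ : KZero.K0tr (BddIn P) →+ KZero.K0sub P := liftTr (BddIn P) g hg
  have hΦ : ∀ X : A, P X → Φ (KZero.clSub P X) =
      KZero.clTr (BddIn P) ((DerivedCategory.singleFunctor A 0).obj X) :=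
    fun X hX => liftSub_cl P f hf hX
  have hΨΦ : Ψ.comp Φ = AddMonoidHom.id _ := by
    apply hom_ext_sub
    intro X hX
    rw [AddMonoidHom.comp_apply, hΦ X hX, AddMonoidHom.id_apply]
    have : Ψ (KZero.clTr (BddIn P) ((DerivedCategory.singleFunctor A 0).obj X)) =
        chi P ((DerivedCategory.singleFunctor A 0).obj X) :=
      liftTr_cl (BddIn P) g hg (bddIn_single hP 0 hX)
    rw [this, chi, finsum_eq_single _ (0 : ℤ)]
    · rw [Int.negOnePow_zero, one_smul]
      exact clSub_iso P hP.zero (homologySingleIso 0 X)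
        ((bddIn_single hP 0 hX).1 0) hX
    · intro n hn
      rw [clSub_zero P (isZero_homology_single 0 n hn X), smul_zero]
  have hsurj : Function.Surjective Φ := by
    rw [← AddMonoidHom.range_eq_top, eq_top_iff, ← closure_tr (BddIn P),
      AddSubgroup.closure_le]
    rintro x ⟨K, ⟨hK, a, b, h₁, h₂⟩, rfl⟩
    have key : KZero.clTr (BddIn P) K ∈ AddSubgroup.closure
        {x | ∃ X, P X ∧ x = KZero.clTr (BddIn P) ((DerivedCategory.singleFunctor A 0).obj X)} := by
      refine clTr_mem_closure hP (b - a + 1).toNat a K hK h₁ ?_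
      exact DerivedCategory.TStructure.t.isLE_of_le K b _ (by lia)
    refine (AddSubgroup.closure_le (K := Φ.range)).2 ?_ key
    rintro _ ⟨X, hX, rfl⟩
    exact ⟨KZero.clSub P X, hΦ X hX⟩
  have hinj : Function.Injective Φ := by
    intro x y hxy
    have := congrArg Ψ hxy
    rw [← AddMonoidHom.comp_apply, ← AddMonoidHom.comp_apply, hΨΦ] at this
    exact this
  exact ⟨AddEquiv.ofBijective Φ ⟨hinj, hsurj⟩, hΦ⟩

end Groth.Agent.Cohder.KZDevissage
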