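import Groth.Agent.Cohder.KZBasic
import Mathlib.CategoryTheory.Abelian.Exact
import Mathlib.Order.Interval.Finset.Defs
import Mathlib.Data.Int.Interval

/-!
The Euler characteristic `K ↦ ∑ (-1)^i [H^i K]` on bounded objects of the derived category with values in
`KZero.K0sub P`, and the comparison `K0sub P ≃+ K0tr Q` for `Q` = bounded with cohomology in `P`.
-/

set_option autoImplicit false
universe w v u
open CategoryTheory CategoryTheory.Limits ZeroObject

namespace Groth.Agent.Cohder.KZEuler

open Groth.Agent.Cohder.KZBasic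

/-- Closure hypotheses on a class of objects in an abelian category: it contains the zero objects and is closed
under kernels, cokernels and extensions. -/
structure KClosed {A : Type u} [Category.{v} A] [Abelian A] (P : ObjectProperty A) : Prop where
  zero : ∀ Z : A, IsZero Z → P Z
  ker : ∀ {X Y : A} (f : X ⟶ Y), P X → P Y → P (kernel f)
  coker : ∀ {X Y : A} (f : X ⟶ Y), P X → P Y → P (cokernel f)
  ext : ∀ S : ShortComplex A, S.ShortExact → P S.X₁ → P S.X₃ → P S.X₂

section

variable {A : Type u} [Category.{v} A] [Abelian A] {P : ObjectProperty A}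

lemma KClosed.iso (hP : KClosed P) {X Y : A} (e : X ≅ Y) (hX : P X) : P Y := by
  have hS : (ShortComplex.mk (0 : (0 : A) ⟶ Y) e.inv (by simp)).ShortExact :=
    { exact := (ShortComplex.exact_iff_mono _ rfl).2 (inferInstanceAs (Mono e.inv))
      mono_f := ⟨fun _ _ _ => (isZero_zero A).eq_of_tgt _ _⟩
      epi_g := inferInstanceAs (Epi e.inv) }
  exact hP.ext _ hS (hP.zero _ (isZero_zero A)) hX

lemma KClosed.image (hP : KClosed P) {X Y : A} (f : X ⟶ Y) (hX : P X) (hY : P Y) :
    P (Abelian.image f) :=
  hP.ker _ hY (hP.coker f hX hY)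

lemma isZero_image_of_source {X Y : A} (f : X ⟶ Y) (hX : IsZero X) : IsZero (Abelian.image f) := by
  rw [IsZero.iff_id_eq_zero, ← cancel_epi (Abelian.factorThruImage f)]
  exact hX.eq_of_src _ _

/-- An exact sequence `X₁ → X₂ → X₃` gives `[X₂] = [im f] + [im g]`. -/
lemma clSub_exact (hP : KClosed P) (S : ShortComplex A) (hS : S.Exact) (h₁ : P S.X₁) (h₂ : P S.X₂)
    (h₃ : P S.X₃) : KZero.clSub P S.X₂ =
      KZero.clSub P (Abelian.image S.f) + KZero.clSub P (Abelian.image S.g) := by
  have hz : Abelian.image.ι S.f ≫ Abelian.factorThruImage S.g = 0 := by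
    rw [← cancel_mono (Abelian.image.ι S.g)]
    simp only [Category.assoc, Abelian.image.fac, zero_comp]
    exact Abelian.image_ι_comp_eq_zero S.zero
  let T : ShortComplex A := ShortComplex.mk (Abelian.image.ι S.f) (Abelian.factorThruImage S.g) hz
  have hT : T.ShortExact :=
    { exact := by
        rw [ShortComplex.exact_iff_exact_image_ι] at hS
        refine (ShortComplex.exact_iff_of_epi_of_isIso_of_mono (S₁ := T) (S₂ := ShortComplex.mk
          (Abelian.image.ι S.f) S.g (Abelian.image_ι_comp_eq_zero S.zero))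
          { τ₁ := 𝟙 _
            τ₂ := 𝟙 _
            τ₃ := Abelian.image.ι S.g
            comm₂₃ := by simp [T] }).2 hS
      mono_f := inferInstanceAs (Mono (Abelian.image.ι S.f))
      epi_g := inferInstanceAs (Epi (Abelian.factorThruImage S.g)) }
  exact clSub_shortExact P T hT (hP.image _ h₁ h₂) h₂ (hP.image _ h₂ h₃)

end

section Alg

/-- Telescoping: the alternating sum over `ℤ` of `l (n-1) + l n` vanishes. -/
lemma finsum_telescope {G : Type*} [AddCommGroup G] (l : ℤ → G) (hl : Function.HasFiniteSupport l) :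
    ∑ᶠ n : ℤ, n.negOnePow • (l (n - 1) + l n) = 0 := by
  have hfin : Function.HasFiniteSupport (fun n : ℤ => n.negOnePow • l n) := by
    refine Set.Finite.subset hl ?_
    intro n hn
    simp only [Function.mem_support] at hn ⊢
    intro h
    exact hn (by rw [h, smul_zero])
  have hfin' : Function.HasFiniteSupport (fun n : ℤ => n.negOnePow • l (n - 1)) := by
    refine Set.Finite.subset (Set.Finite.preimage (f := fun n : ℤ => n - 1) ?_ hl) ?_
    · intro a _ b _ h
      simpa using h
    · intro n hn
      simp only [Function.mem_support, Set.mem_preimage] at hn ⊢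
      intro h
      exact hn (by rw [h, smul_zero])
  have h1 : ∑ᶠ n : ℤ, n.negOnePow • l (n - 1) = - ∑ᶠ n : ℤ, n.negOnePow • l n := by
    rw [← finsum_comp_equiv (Equiv.addRight (1 : ℤ)), ← finsum_neg_distrib]
    apply finsum_congr
    intro n
    simp [Int.negOnePow_succ]
  simp only [smul_add]
  rw [finsum_add_distrib hfin' hfin, h1, neg_add_cancel]

lemma finsum_euler {G : Type*} [AddCommGroup G] (a b c l : ℤ → G)
    (ha : Function.HasFiniteSupport a) (hb : Function.HasFiniteSupport b) (hc : Function.HasFiniteSupport c)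
    (hl : Function.HasFiniteSupport l)
    (h : ∀ n, a n + c n = b n + (l (n - 1) + l n)) :
    ∑ᶠ n : ℤ, n.negOnePow • b n = ∑ᶠ n : ℤ, n.negOnePow • a n + ∑ᶠ n : ℤ, n.negOnePow • c n := by
  have key : ∀ f : ℤ → G, Function.HasFiniteSupport f →
      Function.HasFiniteSupport (fun n : ℤ => n.negOnePow • f n) := by
    intro f hf
    refine Set.Finite.subset hf ?_
    intro n hn
    simp only [Function.mem_support] at hn ⊢
    intro h
    exact hn (by rw [h, smul_zero])
  rw [← finsum_add_distrib (key a ha) (key c hc)]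
  have hl' : Function.HasFiniteSupport (fun n : ℤ => l (n - 1) + l n) := by
    refine Set.Finite.subset ((Set.Finite.preimage (f := fun n : ℤ => n - 1) ?_ hl).union hl) ?_
    · intro a _ b _ h
      simpa using h
    · intro n hn
      simp only [Function.mem_support, Set.mem_union, Set.mem_preimage] at hn ⊢
      by_contra hcon
      push Not at hcon
      exact hn (by rw [hcon.1, hcon.2, add_zero])
  have e : ∀ n : ℤ, n.negOnePow • a n + n.negOnePow • c n =
      n.negOnePow • b n + n.negOnePow • (l (n - 1) + l n) := by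
    intro n
    rw [← smul_add, h n, smul_add]
  simp only [e]
  rw [finsum_add_distrib (key b hb) (key _ hl'), finsum_telescope l hl, add_zero]

end Alg

section Euler

variable {A : Type u} [Category.{v} A] [Abelian A] [HasDerivedCategory.{w} A] (P : ObjectProperty A)

open Pretriangulated

/-- The Euler characteristic of an object of the derived category. -/
noncomputable def chi (K : DerivedCategory A) : KZero.K0sub P :=
  ∑ᶠ n : ℤ, n.negOnePow • KZero.clSub P ((DerivedCategory.homologyFunctor A n).obj K)

lemma finiteSupport_of_bounded (K : DerivedCategory A) (hK : ∃ a b : ℤ, K.IsGE a ∧ K.IsLE b) :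
    Function.HasFiniteSupport
      (fun n : ℤ => KZero.clSub P ((DerivedCategory.homologyFunctor A n).obj K)) := by
  obtain ⟨a, b, h₁, h₂⟩ := hK
  refine Set.Finite.subset (Set.finite_Icc a b) ?_
  intro n hn
  rw [Function.mem_support] at hn
  by_contra hcon
  apply hn
  apply clSub_zero
  rw [Set.mem_Icc, not_and_or, not_le, not_le] at hcon
  rcases hcon with h | h
  · exact K.isZero_of_isGE a n h
  · exact K.isZero_of_isLE b n h

variable {P}

lemma chi_triangle (hP : KClosed P) (T : Triangle (DerivedCategory A)) (hT : T ∈ distTriang _)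
    (h₁ : ∀ n, P ((DerivedCategory.homologyFunctor A n).obj T.obj₁))
    (h₂ : ∀ n, P ((DerivedCategory.homologyFunctor A n).obj T.obj₂))
    (h₃ : ∀ n, P ((DerivedCategory.homologyFunctor A n).obj T.obj₃))
    (b₁ : ∃ a b : ℤ, T.obj₁.IsGE a ∧ T.obj₁.IsLE b)
    (b₂ : ∃ a b : ℤ, T.obj₂.IsGE a ∧ T.obj₂.IsLE b)
    (b₃ : ∃ a b : ℤ, T.obj₃.IsGE a ∧ T.obj₃.IsLE b) :
    chi P T.obj₂ = chi P T.obj₁ + chi P T.obj₃ := by
  let l : ℤ → KZero.K0sub P := fun n =>
    KZero.clSub P (Abelian.image (DerivedCategory.HomologySequence.δ T n (n + 1) rfl))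
  have hl' : ∀ (n₀ n₁ : ℤ) (h : n₀ + 1 = n₁), l n₀ = KZero.clSub P
      (Abelian.image (DerivedCategory.HomologySequence.δ T n₀ n₁ h)) := by
    rintro n₀ _ rfl
    rfl
  have hl : Function.HasFiniteSupport l := by
    obtain ⟨a, b, g₁, g₂⟩ := b₃
    refine Set.Finite.subset (Set.finite_Icc a b) ?_
    intro n hn
    rw [Function.mem_support] at hn
    by_contra hcon
    apply hn
    apply clSub_zero
    rw [Set.mem_Icc, not_and_or, not_le, not_le] at hcon
    have hz : IsZero ((DerivedCategory.homologyFunctor A n).obj T.obj₃) := by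
      rcases hcon with h | h
      · exact T.obj₃.isZero_of_isGE a n h
      · exact T.obj₃.isZero_of_isLE b n h
    exact isZero_image_of_source _ hz
  refine finsum_euler _ _ _ l (finiteSupport_of_bounded P _ b₁) (finiteSupport_of_bounded P _ b₂)
    (finiteSupport_of_bounded P _ b₃) hl ?_
  intro n
  have e₁ := clSub_exact hP _ (DerivedCategory.HomologySequence.exact₁ T hT (n - 1) n (by lia))
    (h₃ _) (h₁ _) (h₂ _)
  have e₂ := clSub_exact hP _ (DerivedCategory.HomologySequence.exact₂ T hT n)
    (h₁ _) (h₂ _) (h₃ _)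
  have e₃ := clSub_exact hP _ (DerivedCategory.HomologySequence.exact₃ T hT n (n + 1) rfl)
    (h₂ _) (h₃ _) (h₁ _)
  have e₄ : l (n - 1) = KZero.clSub P
      (Abelian.image (DerivedCategory.HomologySequence.δ T (n - 1) n (by lia))) :=
    hl' _ _ _
  rw [e₁, e₂, e₃, e₄]
  abel

end Euler

end Groth.Agent.Cohder.KZEuler
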