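import Groth.Agent.Cohder.KZDevissage
import Mathlib.Algebra.Homology.HomologicalComplexAbelian
import Mathlib.Algebra.Homology.HomotopyCategory.MappingCone
import Mathlib.Algebra.Homology.Single

/-!
`K0sub V ≃+ K0tr P` where `V` is a class of objects ("vector bundles") of an abelian category closed under
biproducts and kernels of epimorphisms and `P` ("perfect") the class of objects of the derived category represented
by bounded complexes with terms in `V`, provided morphisms in the derived category between such complexes are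
represented by left roofs of such complexes.
-/

set_option autoImplicit false
universe w v u
open CategoryTheory CategoryTheory.Limits ZeroObject

namespace Groth.Agent.Cohder.KZPerf

open Groth.Agent.Cohder.KZBasic Groth.Agent.Cohder.KZEuler Groth.Agent.Cohder.KZDevissage

open Pretriangulated

section

variable {A : Type u} [Category.{v} A] [Abelian A]

/-- Closure hypotheses on a class `V` of "vector bundles". -/
structure VClosed (V : ObjectProperty A) : Prop where
  zero : ∀ Z : A, IsZero Z → V Z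
  iso : ∀ {X Y : A}, (X ≅ Y) → V X → V Y
  biprod : ∀ {X Y : A}, V X → V Y → V (X ⊞ Y)
  ker : ∀ {X Y : A} (f : X ⟶ Y), Epi f → V X → V Y → V (kernel f)

/-- Bounded complexes with terms in `V`. -/
def SP (V : ObjectProperty A) (E : CochainComplex A ℤ) : Prop :=
  (∃ a b : ℤ, ∀ i : ℤ, i < a ∨ b < i → IsZero (E.X i)) ∧ ∀ i : ℤ, V (E.X i)

variable (V : ObjectProperty A)

/-- The Euler characteristic of a complex. -/
noncomputable def chiC (E : CochainComplex A ℤ) : KZero.K0sub V :=
  ∑ᶠ n : ℤ, n.negOnePow • KZero.clSub V (E.X n)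

variable {V}

lemma SP.finiteSupport {E : CochainComplex A ℤ} (hE : SP V E) :
    Function.HasFiniteSupport (fun n : ℤ => KZero.clSub V (E.X n)) := by
  obtain ⟨⟨a, b, h⟩, -⟩ := hE
  refine Set.Finite.subset (Set.finite_Icc a b) ?_
  intro n hn
  rw [Function.mem_support] at hn
  by_contra hcon
  apply hn
  apply clSub_zero
  rw [Set.mem_Icc, not_and_or, not_le, not_le] at hcon
  exact h n hcon

lemma hasFiniteSupport_smul {G : Type*} [AddCommGroup G] {f : ℤ → G}
    (hf : Function.HasFiniteSupport f) :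
    Function.HasFiniteSupport (fun n : ℤ => n.negOnePow • f n) := by
  refine Set.Finite.subset hf ?_
  intro n hn
  simp only [Function.mem_support] at hn ⊢
  intro h
  exact hn (by rw [h, smul_zero])

/-- Additivity of the Euler characteristic on degreewise short exact sequences. -/
lemma chiC_shortExact (S : ShortComplex (CochainComplex A ℤ)) (hS : S.ShortExact)
    (h₁ : SP V S.X₁) (h₂ : SP V S.X₂) (h₃ : SP V S.X₃) :
    chiC V S.X₂ = chiC V S.X₁ + chiC V S.X₃ := by
  rw [chiC, chiC, chiC, ← finsum_add_distrib (hasFiniteSupport_smul h₁.finiteSupport)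
    (hasFiniteSupport_smul h₃.finiteSupport)]
  apply finsum_congr
  intro n
  rw [← smul_add]
  congr 1
  have hn : (S.map (HomologicalComplex.eval A (ComplexShape.up ℤ) n)).ShortExact :=
    hS.map_of_exact _
  exact clSub_shortExact V _ hn (h₁.2 n) (h₂.2 n) (h₃.2 n)

/-- An acyclic bounded complex with terms in `V` has vanishing Euler characteristic. -/
lemma chiC_acyclic (hV : VClosed V) (E : CochainComplex A ℤ) (hE : SP V E)
    (hac : ∀ n, E.ExactAt n) : chiC V E = 0 := by
  obtain ⟨a, b, hab⟩ := hE.1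
  have hses : ∀ n : ℤ, (ShortComplex.mk (E.iCycles n) (E.toCycles n (n + 1)) (by
      rw [← cancel_mono (E.iCycles (n + 1))]
      simp)).ShortExact := by
    intro n
    have h1 : Epi (E.toCycles n (n + 1)) :=
      Preadditive.epi_of_isZero_cokernel' _ (E.homologyIsCokernel n (n + 1) (by simp))
        (hac (n + 1)).isZero_homology
    refine { exact := ?_, mono_f := inferInstanceAs (Mono (E.iCycles n)), epi_g := h1 }
    refine (ShortComplex.exact_iff_of_epi_of_isIso_of_mono (S₁ := ShortComplex.mk (E.iCycles n)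
      (E.toCycles n (n + 1)) _) (S₂ := ShortComplex.mk (E.iCycles n)
      (E.d n (n + 1)) (by simp)) { τ₁ := 𝟙 _, τ₂ := 𝟙 _, τ₃ := E.iCycles (n + 1) }).2 ?_
    exact ShortComplex.exact_of_f_is_kernel _ (E.cyclesIsKernel n (n + 1) (by simp))
  have hcyc0 : ∀ n, (n < a ∨ b < n) → IsZero (E.cycles n) := fun n hn => by
    rw [IsZero.iff_id_eq_zero, ← cancel_mono (E.iCycles n)]
    exact (hab n hn).eq_of_tgt _ _
  have hcyc : ∀ (k : ℕ) (n : ℤ), b - n < k → V (E.cycles n) := by
    intro k
    induction k with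
    | zero =>
      intro n hn
      exact hV.zero _ (hcyc0 n (Or.inr (by simpa using hn)))
    | succ k ih =>
      intro n hn
      have h1 := ih (n + 1) (by push_cast at hn; lia)
      have h2 := hses n
      have h3 : Epi (E.toCycles n (n + 1)) := h2.epi_g
      have h4 := hV.ker _ h3 (hE.2 n) h1
      exact hV.iso (IsLimit.conePointUniqueUpToIso (kernelIsKernel _) h2.fIsKernel) h4
  have hcyc' : ∀ n, V (E.cycles n) := fun n => hcyc (b - n + 1).toNat n (by lia)
  let l : ℤ → KZero.K0sub V := fun n => KZero.clSub V (E.cycles (n + 1))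
  have hl : Function.HasFiniteSupport l := by
    refine Set.Finite.subset (Set.finite_Icc (a - 1) (b - 1)) ?_
    intro n hn
    rw [Function.mem_support] at hn
    by_contra hcon
    apply hn
    apply clSub_zero
    rw [Set.mem_Icc, not_and_or, not_le, not_le] at hcon
    exact hcyc0 _ (by rcases hcon with h | h <;> [left; right] <;> lia)
  have key : ∀ n : ℤ, KZero.clSub V (E.X n) = l (n - 1) + l n := by
    intro n
    have h1 := clSub_shortExact V _ (hses n) (hcyc' n) (hE.2 n) (hcyc' (n + 1))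
    have h2 : l (n - 1) = KZero.clSub V (E.cycles n) := by
      simp only [l, sub_add_cancel]
    rw [h2]
    exact h1
  rw [chiC]
  simp only [key]
  exact finsum_telescope l hl

/-- The degreewise splitting of a mapping cone. -/
noncomputable def coneSplitting {E F : CochainComplex A ℤ} (φ : E ⟶ F) (n : ℤ) :
    (ShortComplex.mk ((CochainComplex.mappingCone.inr φ).f n)
      ((CochainComplex.mappingCone.fst φ).1.v n (n + 1) rfl) (by simp)).Splitting where
  r := (CochainComplex.mappingCone.snd φ).v n n (add_zero n)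
  s := (CochainComplex.mappingCone.inl φ).v (n + 1) n (by lia)
  f_r := by simp
  s_g := by simp
  id := by
    dsimp
    rw [← CochainComplex.mappingCone.id_X φ n (n + 1) rfl]
    abel

lemma SP.mappingCone (hV : VClosed V) {E F : CochainComplex A ℤ} (hE : SP V E) (hF : SP V F)
    (φ : E ⟶ F) : SP V (CochainComplex.mappingCone φ) := by
  obtain ⟨⟨a, b, hab⟩, hE⟩ := hE
  obtain ⟨⟨a', b', hab'⟩, hF⟩ := hF
  refine ⟨⟨min (a - 1) a', max b b', fun n hn => ?_⟩, fun n => ?_⟩
  · rw [CochainComplex.mappingCone.isZero_X_iff]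
    refine ⟨hab (n + 1) ?_, hab' n ?_⟩
    · rcases hn with hn | hn
      · left; lia
      · right; lia
    · rcases hn with hn | hn
      · left; lia
      · right; lia
  · exact hV.iso (coneSplitting φ n).isoBinaryBiproduct.symm (hV.biprod (hF n) (hE (n + 1)))

lemma chiC_mappingCone (hV : VClosed V) {E F : CochainComplex A ℤ} (hE : SP V E) (hF : SP V F)
    (φ : E ⟶ F) : chiC V (CochainComplex.mappingCone φ) = chiC V F - chiC V E := by
  have h1 : ∀ n : ℤ, n.negOnePow • KZero.clSub V ((CochainComplex.mappingCone φ).X n) =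
      n.negOnePow • KZero.clSub V (F.X n) - (n + 1).negOnePow • KZero.clSub V (E.X (n + 1)) := by
    intro n
    have := clSub_shortExact V _ (coneSplitting φ n).shortExact (hF.2 n)
      ((SP.mappingCone hV hE hF φ).2 n) (hE.2 (n + 1))
    dsimp at this
    rw [this, Int.negOnePow_succ, Units.neg_smul, sub_neg_eq_add, smul_add]
  rw [chiC, chiC, chiC]
  simp only [h1]
  have h2 : ∑ᶠ n : ℤ, n.negOnePow • KZero.clSub V (E.X n) =
      ∑ᶠ n : ℤ, (n + 1).negOnePow • KZero.clSub V (E.X (n + 1)) :=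
    (finsum_comp_equiv (Equiv.addRight (1 : ℤ))
      (f := fun n : ℤ => n.negOnePow • KZero.clSub V (E.X n))).symm
  rw [h2, ← finsum_sub_distrib (hasFiniteSupport_smul hF.finiteSupport)]
  refine Set.Finite.subset (Set.Finite.preimage (f := fun n : ℤ => n + 1) ?_
    (hasFiniteSupport_smul hE.finiteSupport)) ?_
  · intro a _ b _ h
    simpa using h
  · intro n hn
    exact hn

end

section Derived

variable {A : Type u} [Category.{v} A] [Abelian A] [HasDerivedCategory.{w} A] (V : ObjectProperty A)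

/-- Objects of the derived category represented by bounded complexes with terms in `V`. -/
def RepV : ObjectProperty (DerivedCategory A) := fun K =>
  ∃ E : CochainComplex A ℤ, SP V E ∧ Nonempty (DerivedCategory.Q.obj E ≅ K)

/-- Morphisms in the derived category between bounded complexes with terms in `V` are left roofs of such. -/
def Roofs : Prop :=
  ∀ (E F : CochainComplex A ℤ), SP V E → SP V F →
    ∀ α : DerivedCategory.Q.obj E ⟶ DerivedCategory.Q.obj F,
    ∃ (G : CochainComplex A ℤ) (g : G ⟶ E) (h : G ⟶ F), SP V G ∧ QuasiIso g ∧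
      DerivedCategory.Q.map g ≫ α = DerivedCategory.Q.map h

variable {V}

lemma isIso_Q_map {E F : CochainComplex A ℤ} (φ : E ⟶ F) (hφ : QuasiIso φ) :
    IsIso (DerivedCategory.Q.map φ) :=
  (DerivedCategory.isIso_Q_map_iff_quasiIso _ φ).2 hφ

lemma exactAt_of_isZero_Q {E : CochainComplex A ℤ} (h : IsZero (DerivedCategory.Q.obj E)) (n : ℤ) :
    E.ExactAt n := by
  rw [HomologicalComplex.exactAt_iff_isZero_homology]
  exact ((DerivedCategory.homologyFunctor A n).map_isZero h).of_iso
    ((DerivedCategory.homologyFunctorFactors A n).symm.app E)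

lemma chiC_of_isIso (hV : VClosed V) {E F : CochainComplex A ℤ} (hE : SP V E) (hF : SP V F)
    (φ : E ⟶ F) (hφ : IsIso (DerivedCategory.Q.map φ)) : chiC V E = chiC V F := by
  have h1 : IsZero (DerivedCategory.Q.obj (CochainComplex.mappingCone φ)) :=
    Triangle.isZero₃_of_isIso₁ _ (DerivedCategory.mappingCone_triangle_distinguished φ) hφ
  have h2 := chiC_acyclic hV _ (SP.mappingCone hV hE hF φ) (exactAt_of_isZero_Q h1)
  rw [chiC_mappingCone hV hE hF φ, sub_eq_zero] at h2
  exact h2.symm

lemma chiC_of_iso (hV : VClosed V) (hroof : Roofs V) {E F : CochainComplex A ℤ} (hE : SP V E)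
    (hF : SP V F) (e : DerivedCategory.Q.obj E ≅ DerivedCategory.Q.obj F) :
    chiC V E = chiC V F := by
  obtain ⟨G, g, h, hG, hg, hgh⟩ := hroof E F hE hF e.hom
  have h1 := isIso_Q_map g hg
  have h2 : IsIso (DerivedCategory.Q.map h) := by
    rw [← hgh]
    infer_instance
  rw [← chiC_of_isIso hV hG hE g h1, chiC_of_isIso hV hG hF h h2]

lemma repV_iso {K L : DerivedCategory A} (e : K ≅ L) (hK : RepV V K) : RepV V L := by
  obtain ⟨E, hE, ⟨i⟩⟩ := hK
  exact ⟨E, hE, ⟨i ≪≫ e⟩⟩

omit [HasDerivedCategory.{w} A] in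
lemma SP.single (hV : VClosed V) {X : A} (hX : V X) (n : ℤ) :
    SP V ((HomologicalComplex.single A (ComplexShape.up ℤ) n).obj X) := by
  refine ⟨⟨n, n, fun i hi => HomologicalComplex.isZero_single_obj_X _ _ _ _ (by lia)⟩, fun i => ?_⟩
  by_cases h : i = n
  · subst h
    exact hV.iso (HomologicalComplex.singleObjXSelf _ i X).symm hX
  · exact hV.zero _ (HomologicalComplex.isZero_single_obj_X _ _ _ _ h)

lemma repV_single (hV : VClosed V) {X : A} (hX : V X) (n : ℤ) :
    RepV V ((DerivedCategory.singleFunctor A n).obj X) :=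
  ⟨_, SP.single hV hX n, ⟨Iso.refl _⟩⟩

lemma repV_zero (hV : VClosed V) (Z : DerivedCategory A) (hZ : IsZero Z) : RepV V Z :=
  repV_iso (((DerivedCategory.singleFunctor A 0).map_isZero (isZero_zero A)).iso hZ)
    (repV_single hV (hV.zero _ (isZero_zero A)) 0)

omit [HasDerivedCategory.{w} A] in
lemma SP.shift (hV : VClosed V) {E : CochainComplex A ℤ} (hE : SP V E) :
    SP V (E⟦(1 : ℤ)⟧) := by
  obtain ⟨⟨a, b, hab⟩, hE⟩ := hE
  refine ⟨⟨a - 1, b - 1, fun i hi => ?_⟩, fun i => ?_⟩
  · exact (hab (i + 1) (by lia)).of_iso (CochainComplex.shiftFunctorObjXIso E 1 i (i + 1) rfl)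
  · exact hV.iso (CochainComplex.shiftFunctorObjXIso E 1 i (i + 1) rfl).symm (hE (i + 1))

lemma repV_shift (hV : VClosed V) {K : DerivedCategory A} (hK : RepV V K) :
    RepV V (K⟦(1 : ℤ)⟧) := by
  obtain ⟨E, hE, ⟨e⟩⟩ := hK
  exact ⟨E⟦(1 : ℤ)⟧, SP.shift hV hE,
    ⟨(DerivedCategory.Q.commShiftIso (1 : ℤ)).app E ≪≫ (shiftFunctor _ (1 : ℤ)).mapIso e⟩⟩

/-- The class of `X[-n]` is `(-1)^n [X]`. -/
lemma clTr_single_shift (hV : VClosed V) (n : ℤ) {X : A} (hX : V X) :
    KZero.clTr (RepV V) ((DerivedCategory.singleFunctor A n).obj X) =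
      - KZero.clTr (RepV V) ((DerivedCategory.singleFunctor A (n + 1)).obj X) := by
  refine clTr_of_shift_one (RepV V) (repV_zero hV)
    (((DerivedCategory.singleFunctors A).shiftIso 1 n (n + 1) (by lia)).symm.app X)
    (repV_single hV hX _) (repV_shift hV (repV_single hV hX _)) (repV_single hV hX _)

lemma clTr_single (hV : VClosed V) (n : ℤ) {X : A} (hX : V X) :
    KZero.clTr (RepV V) ((DerivedCategory.singleFunctor A n).obj X) =
      n.negOnePow • KZero.clTr (RepV V) ((DerivedCategory.singleFunctor A 0).obj X) := by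
  induction n using Int.induction_on with
  | zero => simp
  | succ n ih =>
    have := clTr_single_shift hV (n : ℤ) hX
    rw [ih] at this
    rw [Int.negOnePow_succ, Units.neg_smul, this, neg_neg]
  | pred n ih =>
    have := clTr_single_shift hV (-(n : ℤ) - 1) hX
    rw [sub_add_cancel, ih] at this
    rw [this, Int.negOnePow_sub, Int.negOnePow_one]
    simp

omit [HasDerivedCategory.{w} A] in
/-- Removing the top degree of a bounded complex with terms in `V`. -/
lemma exists_remove_top (hV : VClosed V) (E : CochainComplex A ℤ) (hE : ∀ i, V (E.X i)) (a b : ℤ)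
    (hab : ∀ i : ℤ, i < a ∨ b < i → IsZero (E.X i)) :
    ∃ S : ShortComplex (CochainComplex A ℤ), S.ShortExact ∧
      S.X₁ = (HomologicalComplex.single A (ComplexShape.up ℤ) b).obj (E.X b) ∧ S.X₂ = E ∧
      (∀ i, V (S.X₃.X i)) ∧ ∀ i : ℤ, i < a ∨ b - 1 < i → IsZero (S.X₃.X i) := by
  have hd : ∀ k, (ComplexShape.up ℤ).Rel b k → 𝟙 (E.X b) ≫ E.d b k = 0 := by
    intro k hk
    apply (hab k (Or.inr (by simp at hk; lia))).eq_of_tgt
  let ι : (HomologicalComplex.single A (ComplexShape.up ℤ) b).obj (E.X b) ⟶ E :=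
    HomologicalComplex.mkHomFromSingle (𝟙 (E.X b)) hd
  have hι1 : IsIso (ι.f b) := by
    dsimp only [ι]
    rw [HomologicalComplex.mkHomFromSingle_f]
    infer_instance
  have hι : ∀ i, Mono (ι.f i) := by
    intro i
    by_cases h : i = b
    · subst h
      infer_instance
    · constructor
      intro Z g h' _
      exact (HomologicalComplex.isZero_single_obj_X (ComplexShape.up ℤ) b (E.X b) i h).eq_of_tgt _ _
  have hmono : Mono ι := HomologicalComplex.mono_of_mono_f ι hι
  have hS : (ShortComplex.mk ι (cokernel.π ι) (cokernel.condition ι)).ShortExact :=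
    { exact := ShortComplex.exact_cokernel ι
      mono_f := hmono
      epi_g := inferInstance }
  have hSi := fun i => hS.map_of_exact (HomologicalComplex.eval A (ComplexShape.up ℤ) i)
  have hzero : IsZero ((cokernel ι).X b) := by
    have h1 := (hSi b).exact
    have h2 : ((cokernel.π ι).f b) = 0 := by
      have h3 : ι.f b ≫ (cokernel.π ι).f b = 0 := by
        rw [← HomologicalComplex.comp_f, cokernel.condition, HomologicalComplex.zero_f]
      rwa [← cancel_epi (ι.f b), comp_zero]
    have h3 : Epi ((cokernel.π ι).f b) := (hSi b).epi_g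
    rw [IsZero.iff_id_eq_zero, ← cancel_epi ((cokernel.π ι).f b), h2, zero_comp, zero_comp]
  have hisos : ∀ i, i ≠ b → IsIso ((cokernel.π ι).f i) := by
    intro i hi
    have h3 : Epi ((cokernel.π ι).f i) := (hSi i).epi_g
    have h4 : Mono ((cokernel.π ι).f i) :=
      (ShortComplex.exact_iff_mono _ ((HomologicalComplex.isZero_single_obj_X
        (ComplexShape.up ℤ) b (E.X b) i hi).eq_of_src _ _)).1 (hSi i).exact
    exact isIso_of_mono_of_epi _
  refine ⟨_, hS, rfl, rfl, fun i => ?_, fun i hi => ?_⟩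
  · by_cases h : i = b
    · subst h
      exact hV.zero _ hzero
    · have := hisos i h
      exact hV.iso (asIso ((cokernel.π ι).f i)) (hE i)
  · by_cases h : i = b
    · subst h
      exact hzero
    · have := hisos i h
      exact (hab i (by lia)).of_iso (asIso ((cokernel.π ι).f i)).symm

lemma clTr_mem_closure (hV : VClosed V) (k : ℕ) : ∀ (a b : ℤ) (E : CochainComplex A ℤ),
    (∀ i, V (E.X i)) → (∀ i : ℤ, i < a ∨ b < i → IsZero (E.X i)) → b - a < k →
    KZero.clTr (RepV V) (DerivedCategory.Q.obj E) ∈ AddSubgroup.closure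
      {x | ∃ X, V X ∧ x = KZero.clTr (RepV V) ((DerivedCategory.singleFunctor A 0).obj X)} := by
  induction k with
  | zero =>
    intro a b E hE hab hk
    have : IsZero E := by
      rw [IsZero.iff_id_eq_zero]
      ext i
      exact (hab i (by simp at hk; lia)).eq_of_src _ _
    rw [clTr_zero _ (DerivedCategory.Q.map_isZero this)]
    exact zero_mem _
  | succ k ih =>
    intro a b E hE hab hk
    obtain ⟨S, hS, h₁, h₂, h₃, h₄⟩ := exists_remove_top hV E hE a b hab
    subst h₂
    have hX₁ : RepV V (DerivedCategory.Q.obj S.X₁) := by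
      rw [h₁]
      exact ⟨_, SP.single hV (hE b) b, ⟨Iso.refl _⟩⟩
    have e := clTr_triangle (RepV V) _ (DerivedCategory.triangleOfSES_distinguished hS)
      hX₁
      ⟨_, ⟨⟨a, b, hab⟩, hE⟩, ⟨Iso.refl _⟩⟩
      ⟨_, ⟨⟨a, b - 1, h₄⟩, h₃⟩, ⟨Iso.refl _⟩⟩
    change KZero.clTr (RepV V) (DerivedCategory.Q.obj S.X₂) =
      KZero.clTr (RepV V) (DerivedCategory.Q.obj S.X₁) +
        KZero.clTr (RepV V) (DerivedCategory.Q.obj S.X₃) at e
    rw [e]
    refine add_mem ?_ (ih a (b - 1) _ h₃ h₄ (by push_cast at hk; lia))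
    rw [h₁]
    change KZero.clTr (RepV V) ((DerivedCategory.singleFunctor A b).obj (S.X₂.X b)) ∈ _
    rw [clTr_single hV b (hE b)]
    have : KZero.clTr (RepV V) ((DerivedCategory.singleFunctor A 0).obj (S.X₂.X b)) ∈
        AddSubgroup.closure {x | ∃ X, V X ∧ x =
          KZero.clTr (RepV V) ((DerivedCategory.singleFunctor A 0).obj X)} :=
      AddSubgroup.subset_closure ⟨S.X₂.X b, hE b, rfl⟩
    rcases Int.units_eq_one_or b.negOnePow with ha | ha
    · rw [ha, one_smul]
      exact this
    · rw [ha, Units.neg_smul, one_smul]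
      exact neg_mem this

/-- Comparison of `K₀` of "vector bundles" and of "perfect complexes". -/
theorem exists_equiv (hV : VClosed V) (hroof : Roofs V) (P : ObjectProperty (DerivedCategory A))
    (hP : ∀ K, P K ↔ RepV V K) :
    ∃ φ : KZero.K0sub V ≃+ KZero.K0tr P, ∀ X : A, V X →
      φ (KZero.clSub V X) = KZero.clTr P ((DerivedCategory.singleFunctor A 0).obj X) := by
  obtain rfl : P = RepV V := by
    funext K
    exact propext (hP K)
  let f : Subtype V → KZero.K0tr (RepV V) := fun X =>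
    KZero.clTr (RepV V) ((DerivedCategory.singleFunctor A 0).obj X.1)
  have hf : ∀ (S : ShortComplex A) (h₁ : V S.X₁) (h₂ : V S.X₂) (h₃ : V S.X₃), S.ShortExact →
      f ⟨S.X₂, h₂⟩ = f ⟨S.X₁, h₁⟩ + f ⟨S.X₃, h₃⟩ := fun S h₁ h₂ h₃ hS =>
    clTr_triangle (RepV V) _ hS.singleTriangle_distinguished (repV_single hV h₁ 0)
      (repV_single hV h₂ 0) (repV_single hV h₃ 0)
  let g : Subtype (RepV V) → KZero.K0sub V := fun K => chiC V K.2.choose
  have hgeq : ∀ (E : CochainComplex A ℤ) (_ : SP V E) (K : DerivedCategory A) (hK : RepV V K)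
      (_ : DerivedCategory.Q.obj E ≅ K), g ⟨K, hK⟩ = chiC V E := by
    intro E hE K hK e
    exact chiC_of_iso hV hroof hK.choose_spec.1 hE (hK.choose_spec.2.some ≪≫ e.symm)
  have hg : ∀ (T : Triangle (DerivedCategory A)) (h₁ : RepV V T.obj₁) (h₂ : RepV V T.obj₂)
      (h₃ : RepV V T.obj₃), T ∈ distTriang (DerivedCategory A) →
      g ⟨T.obj₂, h₂⟩ = g ⟨T.obj₁, h₁⟩ + g ⟨T.obj₃, h₃⟩ := by
    intro T h₁ h₂ h₃ hT
    obtain ⟨E, hE, ⟨e₁⟩⟩ := h₁
    obtain ⟨F, hF, ⟨e₂⟩⟩ := h₂
    obtain ⟨G, q, h, hG, hq, hqh⟩ := hroof E F hE hF (e₁.hom ≫ T.mor₁ ≫ e₂.inv)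
    have hq' := isIso_Q_map q hq
    let e₁' : DerivedCategory.Q.obj G ≅ T.obj₁ := asIso (DerivedCategory.Q.map q) ≪≫ e₁
    have hcomm : DerivedCategory.Q.map h ≫ e₂.hom = e₁'.hom ≫ T.mor₁ := by
      rw [← hqh]
      simp [e₁']
    let i : DerivedCategory.Q.mapTriangle.obj (CochainComplex.mappingCone.triangle h) ≅ T :=
      isoTriangleOfIso₁₂ _ _ (DerivedCategory.mappingCone_triangle_distinguished h) hT e₁' e₂
        hcomm
    have e₃ : DerivedCategory.Q.obj (CochainComplex.mappingCone h) ≅ T.obj₃ :=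
      Triangle.π₃.mapIso i
    rw [hgeq G hG _ _ e₁', hgeq F hF _ _ e₂,
      hgeq _ (SP.mappingCone hV hG hF h) _ _ e₃, chiC_mappingCone hV hG hF]
    abel
  let Φ : KZero.K0sub V →+ KZero.K0tr (RepV V) := liftSub V f hf
  let Ψ : KZero.K0tr (RepV V) →+ KZero.K0sub V := liftTr (RepV V) g hg
  have hΦ : ∀ X : A, V X → Φ (KZero.clSub V X) =
      KZero.clTr (RepV V) ((DerivedCategory.singleFunctor A 0).obj X) :=
    fun X hX => liftSub_cl V f hf hX
  have hΨΦ : Ψ.comp Φ = AddMonoidHom.id _ := by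
    apply hom_ext_sub
    intro X hX
    rw [AddMonoidHom.comp_apply, hΦ X hX, AddMonoidHom.id_apply]
    have h1 : Ψ (KZero.clTr (RepV V) ((DerivedCategory.singleFunctor A 0).obj X)) =
        g ⟨_, repV_single hV hX 0⟩ :=
      liftTr_cl (RepV V) g hg (repV_single hV hX 0)
    have h2 : g ⟨_, repV_single hV hX 0⟩ =
        chiC V ((HomologicalComplex.single A (ComplexShape.up ℤ) 0).obj X) :=
      hgeq _ (SP.single hV hX 0) _ _ (Iso.refl _)
    rw [h1, h2, chiC, finsum_eq_single _ (0 : ℤ)]
    · rw [Int.negOnePow_zero, one_smul]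
      exact clSub_iso V hV.zero (HomologicalComplex.singleObjXSelf _ 0 X)
        ((SP.single hV hX 0).2 0) hX
    · intro n hn
      rw [clSub_zero V (HomologicalComplex.isZero_single_obj_X _ _ _ _ hn), smul_zero]
  have hsurj : Function.Surjective Φ := by
    rw [← AddMonoidHom.range_eq_top, eq_top_iff, ← closure_tr (RepV V),
      AddSubgroup.closure_le]
    rintro x ⟨K, ⟨E, ⟨⟨a, b, hab⟩, hE⟩, ⟨e⟩⟩, rfl⟩
    have key := clTr_mem_closure hV (b - a + 1).toNat a b E hE hab (by lia)
    rw [clTr_iso (RepV V) (repV_zero hV) e ⟨E, ⟨⟨a, b, hab⟩, hE⟩, ⟨Iso.refl _⟩⟩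
      ⟨E, ⟨⟨a, b, hab⟩, hE⟩, ⟨e⟩⟩] at key
    refine (AddSubgroup.closure_le (K := Φ.range)).2 ?_ key
    rintro _ ⟨X, hX, rfl⟩
    exact ⟨KZero.clSub V X, hΦ X hX⟩
  have hinj : Function.Injective Φ := by
    intro x y hxy
    have := congrArg Ψ hxy
    rw [← AddMonoidHom.comp_apply, ← AddMonoidHom.comp_apply, hΨΦ] at this
    exact this
  exact ⟨AddEquiv.ofBijective Φ ⟨hinj, hsurj⟩, hΦ⟩

end Derived

end Groth.Agent.Cohder.KZPerf
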