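import Mathlib.Algebra.Homology.Refinements
import Mathlib.Algebra.Homology.QuasiIso
import Mathlib.Algebra.Homology.Embedding.CochainComplex
import Mathlib.Algebra.Homology.Embedding.HomEquiv
import Mathlib.Algebra.Homology.Embedding.ExtendHomology
import Mathlib.CategoryTheory.ObjectProperty.ClosedUnderIsomorphisms

/-!
Left resolutions of bounded above complexes by complexes with terms in a class `P` of objects
such that every object is a quotient of an object of `P`: termwise epimorphic quasi-isomorphisms.
-/

universe v u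
open CategoryTheory CategoryTheory.Limits

namespace Groth.Agent.Cohder.LeftRes

variable {A : Type u} [Category.{v} A] [Abelian A]

/-- A choice of an epimorphism onto each object from an object satisfying `P`. -/
structure Cover (P : ObjectProperty A) where
  obj : A → A
  π : ∀ X, obj X ⟶ X
  prop : ∀ X, P (obj X)
  epi : ∀ X, Epi (π X)

attribute [instance] Cover.epi

variable {P : ObjectProperty A} (C : Cover P) (M : ChainComplex A ℕ)

/-- A stage in the construction of the resolution: the object `R` in degree `n`,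
the map to `M.X n`, and the cycles. -/
structure Stage (n : ℕ) where
  R : A
  ρ : R ⟶ M.X n
  Z : A
  i : Z ⟶ R

namespace Stage

variable {M} {n : ℕ} (s : Stage M n)

/-- The fibre product from which the next object of the resolution is a cover. -/
noncomputable abbrev N : A := pullback (s.i ≫ s.ρ) (M.d (n + 1) n)

/-- The differential of the resolution, as a map to the cycles. -/
noncomputable def d' : C.obj s.N ⟶ s.Z := C.π _ ≫ pullback.fst _ _

/-- The next stage. -/
noncomputable abbrev next : Stage M (n + 1) where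
  R := C.obj s.N
  ρ := C.π _ ≫ pullback.snd _ _
  Z := kernel (s.d' C)
  i := kernel.ι _

lemma comm : s.d' C ≫ s.i ≫ s.ρ = (s.next C).ρ ≫ M.d (n + 1) n := by
  dsimp only [next, d']
  simp only [Category.assoc, pullback.condition]

lemma next_i_d' : (s.next C).i ≫ s.d' C = 0 := kernel.condition _

/-- The stage sees all cycles (up to refinements). -/
def SurjCycles : Prop :=
  ∀ ⦃T : A⦄ (x : T ⟶ M.X n) (_ : ∀ k, x ≫ M.d n k = 0),
    ∃ (T' : A) (π : T' ⟶ T) (_ : Epi π) (z : T' ⟶ s.Z), π ≫ x = z ≫ s.i ≫ s.ρ

/-- Lifting property of the next stage. -/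
lemma exists_lift ⦃T : A⦄ (z : T ⟶ s.Z) (x : T ⟶ M.X (n + 1))
    (h : z ≫ s.i ≫ s.ρ = x ≫ M.d (n + 1) n) :
    ∃ (T' : A) (π : T' ⟶ T) (_ : Epi π) (y : T' ⟶ (s.next C).R),
      y ≫ s.d' C = π ≫ z ∧ y ≫ (s.next C).ρ = π ≫ x := by
  obtain ⟨T', π, hπ, y, hy⟩ := surjective_up_to_refinements_of_epi (C.π s.N) (pullback.lift z x h)
  refine ⟨T', π, hπ, y, ?_, ?_⟩
  · dsimp only [d']
    rw [← Category.assoc, ← hy, Category.assoc, pullback.lift_fst]
  · dsimp only [next]
    rw [← Category.assoc, ← hy, Category.assoc, pullback.lift_snd]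

lemma surjCycles_next : (s.next C).SurjCycles := by
  intro T x hx
  obtain ⟨T', π, hπ, y, h1, h2⟩ := s.exists_lift C (0 : T ⟶ s.Z) x (by rw [zero_comp, hx])
  rw [comp_zero] at h1
  have h3 : kernel.lift _ y h1 ≫ kernel.ι (s.d' C) = y := kernel.lift_ι _ _ _
  exact ⟨T', π, hπ, kernel.lift _ y h1,
    h2.symm.trans ((congrArg (· ≫ (s.next C).ρ) h3).symm.trans (Category.assoc _ _ _))⟩

lemma epi_next_ρ (hs : s.SurjCycles) : Epi (s.next C).ρ := by
  rw [epi_iff_surjective_up_to_refinements]
  intro T x
  obtain ⟨T', π, hπ, z, hz⟩ := hs (x ≫ M.d (n + 1) n) (by simp)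
  obtain ⟨T'', π', hπ', y, -, h2⟩ := s.exists_lift C z (π ≫ x) (by rw [← hz, Category.assoc])
  exact ⟨T'', π' ≫ π, epi_comp _ _, y, by rw [h2, Category.assoc]⟩

end Stage

/-- The stages of the construction. -/
noncomputable def stage : ∀ n, Stage M n
  | 0 => { R := C.obj (M.X 0), ρ := C.π _, Z := C.obj (M.X 0), i := 𝟙 _ }
  | n + 1 => (stage n).next C

instance mono_stage_i (n : ℕ) : Mono (stage C M n).i := by
  cases n with
  | zero => dsimp [stage]; infer_instance
  | succ n => dsimp [stage, Stage.next]; infer_instance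

lemma surjCycles_stage (n : ℕ) : (stage C M n).SurjCycles := by
  cases n with
  | zero =>
    intro T x _
    obtain ⟨T', π, hπ, y, hy⟩ := surjective_up_to_refinements_of_epi (C.π (M.X 0)) x
    exact ⟨T', π, hπ, y, by simpa [stage] using! hy⟩
  | succ n => exact (stage C M n).surjCycles_next C

instance epi_stage_ρ (n : ℕ) : Epi (stage C M n).ρ := by
  cases n with
  | zero => dsimp [stage]; infer_instance
  | succ n => exact (stage C M n).epi_next_ρ C (surjCycles_stage C M n)

lemma prop_stage_R (n : ℕ) : P (stage C M n).R := by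
  cases n with
  | zero => exact C.prop _
  | succ n => exact C.prop _

/-- The differential of the resolution. -/
noncomputable def resd (n : ℕ) : (stage C M (n + 1)).R ⟶ (stage C M n).R :=
  (stage C M n).d' C ≫ (stage C M n).i

lemma resd_comp (n : ℕ) : resd C M (n + 1) ≫ resd C M n = 0 := by
  dsimp [resd]
  rw [Category.assoc]
  have : (stage C M (n + 1)).i ≫ (stage C M n).d' C = 0 := (stage C M n).next_i_d' C
  rw [reassoc_of% this, zero_comp, comp_zero]

/-- The resolution as a chain complex. -/
noncomputable def res : ChainComplex A ℕ :=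
  ChainComplex.of (fun n => (stage C M n).R) (resd C M) (resd_comp C M)

lemma res_d (n : ℕ) : (res C M).d (n + 1) n = resd C M n := 
  ChainComplex.of_d (fun n => (stage C M n).R) (resd C M) n

/-- The augmentation of the resolution. -/
noncomputable def resπ : res C M ⟶ M where
  f n := (stage C M n).ρ
  comm' i j hij := by
    obtain rfl : j + 1 = i := hij
    rw [res_d, resd]
    exact ((stage C M j).comm C).symm.trans (Category.assoc _ _ _).symm

lemma resπ_f (n : ℕ) : (resπ C M).f n = (stage C M n).ρ := rfl

instance (n : ℕ) : Epi ((resπ C M).f n) := epi_stage_ρ C M n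

lemma prop_res_X (n : ℕ) : P ((res C M).X n) := prop_stage_R C M n

/-- Cycles of the resolution factor through `Z`. -/
lemma exists_factor_Z (n : ℕ) ⦃T : A⦄ (x : T ⟶ (res C M).X n) (hx : ∀ k, x ≫ (res C M).d n k = 0) :
    ∃ z : T ⟶ (stage C M n).Z, z ≫ (stage C M n).i = x := by
  cases n with
  | zero => exact ⟨x, Category.comp_id _⟩
  | succ n =>
    have h := hx n
    rw [res_d, resd] at h
    have h' : x ≫ (stage C M n).d' C = 0 := by
      rw [← cancel_mono (stage C M n).i, zero_comp]
      exact (Category.assoc _ _ _).trans h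
    exact ⟨kernel.lift _ x h', kernel.lift_ι _ _ _⟩

lemma i_comp_d (n k : ℕ) : (show (stage C M n).Z ⟶ (res C M).X n from (stage C M n).i) ≫
    (res C M).d n k = 0 := by
  by_cases h : k + 1 = n
  · subst h
    rw [res_d]
    dsimp [resd]
    have : (stage C M (k + 1)).i ≫ (stage C M k).d' C = 0 := (stage C M k).next_i_d' C
    exact (Category.assoc _ _ _).symm.trans ((congrArg (· ≫ (stage C M k).i) this).trans zero_comp)
  · rw [(res C M).shape _ _ h, comp_zero]

lemma quasiIsoAt_resπ (n : ℕ) : QuasiIsoAt (resπ C M) n := by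
  rw [quasiIsoAt_iff_isIso_homologyMap]
  have h1 : Mono (HomologicalComplex.homologyMap (resπ C M) n) := by
    rw [HomologicalComplex.mono_homologyMap_iff_up_to_refinements _ (n + 1) n _ (by simp) rfl]
    intro T x hx y hy
    obtain ⟨z, hz⟩ := exists_factor_Z C M n x (by
      intro k
      by_cases hk : (ComplexShape.down ℕ).Rel n k
      · obtain rfl := (ComplexShape.down ℕ).next_eq' hk
        exact hx
      · rw [(res C M).shape _ _ hk, comp_zero])
    obtain ⟨T', π, hπ, w, h1, -⟩ := (stage C M n).exists_lift C z y (by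
      rw [← Category.assoc, hz]
      exact hy)
    exact ⟨T', π, hπ, w, by
      rw [res_d, resd]
      rw [← hz]
      exact ((congrArg (· ≫ (stage C M n).i) h1).trans (Category.assoc _ _ _)).symm.trans
        (Category.assoc _ _ _)⟩
  have h2 : Epi (HomologicalComplex.homologyMap (resπ C M) n) := by
    rw [HomologicalComplex.epi_homologyMap_iff_up_to_refinements _ (n + 1) n _ (by simp) rfl]
    intro T x hx
    obtain ⟨T', π, hπ, z, hz⟩ := surjCycles_stage C M n x (by
      intro k
      by_cases hk : (ComplexShape.down ℕ).Rel n k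
      · obtain rfl := (ComplexShape.down ℕ).next_eq' hk
        exact hx
      · rw [M.shape _ _ hk, comp_zero])
    refine ⟨T', π, hπ, z ≫ (stage C M n).i, ?_, 0, ?_⟩
    · exact (Category.assoc _ _ _).trans ((congrArg (z ≫ ·) (i_comp_d C M n _)).trans comp_zero)
    · rw [zero_comp, add_zero, hz, resπ_f]
      exact (Category.assoc _ _ _).symm
  exact isIso_of_mono_of_epi _

instance : QuasiIso (resπ C M) where
  quasiIsoAt n := quasiIsoAt_resπ C M n

/-- A strictly supported complex is isomorphic to the extension of its restriction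
(embedding `embeddingUpIntLE`). -/
noncomputable def toExtend (K : CochainComplex A ℤ) (b : ℤ) :
    K ⟶ (K.restriction (ComplexShape.embeddingUpIntLE b)).extend
      (ComplexShape.embeddingUpIntLE b) :=
  (ComplexShape.embeddingUpIntLE b).liftExtend (𝟙 _) (by
    intro j hj i' hi'
    exfalso
    refine hj.notMem hi' (j + 1) ?_
    have : i' + 1 = b - (j : ℤ) := hi'
    show b - ((j + 1 : ℕ) : ℤ) = i'
    lia)

instance (K : CochainComplex A ℤ) (b : ℤ) [K.IsStrictlyLE b] : IsIso (toExtend K b) := by
  have : ∀ i, IsIso ((toExtend K b).f i) := by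
    intro i
    by_cases hi : b < i
    · exact IsZero.isIso (K.isZero_of_isStrictlyLE b i hi)
        (HomologicalComplex.isZero_extend_X _ _ _ (by
          rw [ComplexShape.notMem_range_embeddingUpIntLE_iff]
          exact hi)) _
    · have h : ¬ (∀ (j : ℕ), (ComplexShape.embeddingUpIntLE b).f j ≠ i) := by
        rw [ComplexShape.notMem_range_embeddingUpIntLE_iff]
        exact hi
      simp only [ne_eq, not_forall, not_not] at h
      obtain ⟨j, hj⟩ := h
      rw [toExtend, ComplexShape.Embedding.isIso_liftExtend_f_iff _ _ _ hj]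
      infer_instance
  exact HomologicalComplex.Hom.isIso_of_components _

/-- Every bounded above cochain complex admits a termwise epimorphic quasi-isomorphism from
a bounded above complex with terms in `P`. -/
theorem exists_resolution (C : Cover P) [P.IsClosedUnderIsomorphisms] (hP0 : ∃ Z : A, IsZero Z ∧ P Z)
    (K : CochainComplex A ℤ) (b : ℤ) [K.IsStrictlyLE b] :
    ∃ (R : CochainComplex A ℤ) (ρ : R ⟶ K), R.IsStrictlyLE b ∧ QuasiIso ρ ∧
      (∀ i, Epi (ρ.f i)) ∧ ∀ i, P (R.X i) := by
  let e := ComplexShape.embeddingUpIntLE b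
  let M : ChainComplex A ℕ := K.restriction e
  refine ⟨(res C M).extend e, HomologicalComplex.extendMap (resπ C M) e ≫ inv (toExtend K b),
    inferInstance, inferInstance, ?_, ?_⟩
  · intro i
    rw [HomologicalComplex.comp_f]
    have : Epi ((HomologicalComplex.extendMap (resπ C M) e).f i) := by
      by_cases hi : ∀ (j : ℕ), e.f j ≠ i
      · exact (HomologicalComplex.isZero_extend_X _ _ _ hi).epi _
      · simp only [ne_eq, not_forall, not_not] at hi
        obtain ⟨j, hj⟩ := hi
        rw [HomologicalComplex.extendMap_f _ _ hj]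
        infer_instance
    have : IsIso ((inv (toExtend K b)).f i) := inferInstance
    infer_instance
  · intro i
    by_cases hi : ∀ (j : ℕ), e.f j ≠ i
    · obtain ⟨Z, hZ, hZ'⟩ := hP0
      exact P.prop_of_iso (hZ.iso (HomologicalComplex.isZero_extend_X (res C M) e i hi)) hZ'
    · simp only [ne_eq, not_forall, not_not] at hi
      obtain ⟨j, hj⟩ := hi
      exact P.prop_of_iso ((res C M).extendXIso e hj).symm (prop_res_X C M j)

end Groth.Agent.Cohder.LeftRes
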