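import Mathlib.Algebra.Homology.DerivedCategory.ShortExact
import Mathlib.Algebra.Homology.HomologySequenceLemmas
import Mathlib.Algebra.Homology.Embedding.CochainComplex

/-!
Quasi-isomorphisms and morphisms of short exact sequences of cochain complexes
(two out of three for the middle and the left term), and the factorisation of a morphism
through `mappingCone (𝟙 K) ⊞ L`.
-/

universe v u
open CategoryTheory CategoryTheory.Limits CategoryTheory.Pretriangulated

namespace Groth.Agent.Cohder.SESQuasiIso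

variable {A : Type u} [Category.{v} A] [Abelian A]

/-- A morphism of short exact sequences of cochain complexes which is a quasi-isomorphism on the
outer terms is a quasi-isomorphism on the middle terms. -/
lemma quasiIso_τ₂ {S₁ S₂ : ShortComplex (CochainComplex A ℤ)} (φ : S₁ ⟶ S₂)
    (h₁ : S₁.ShortExact) (h₂ : S₂.ShortExact) (hτ₁ : QuasiIso φ.τ₁) (hτ₃ : QuasiIso φ.τ₃) :
    QuasiIso φ.τ₂ := by
  let _ := HasDerivedCategory.standard A
  rw [← DerivedCategory.isIso_Q_map_iff_quasiIso] at hτ₁ hτ₃ ⊢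
  exact isIso₂_of_isIso₁₃ (DerivedCategory.triangleOfSES.map h₁ h₂ φ)
    (DerivedCategory.triangleOfSES_distinguished h₁)
    (DerivedCategory.triangleOfSES_distinguished h₂) hτ₁ hτ₃

/-- A morphism of short exact sequences of cochain complexes which is a quasi-isomorphism on the
second and third terms is a quasi-isomorphism on the first terms. -/
lemma quasiIso_τ₁ {S₁ S₂ : ShortComplex (CochainComplex A ℤ)} (φ : S₁ ⟶ S₂)
    (h₁ : S₁.ShortExact) (h₂ : S₂.ShortExact) (hτ₂ : QuasiIso φ.τ₂) (hτ₃ : QuasiIso φ.τ₃) :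
    QuasiIso φ.τ₁ := by
  let _ := HasDerivedCategory.standard A
  rw [← DerivedCategory.isIso_Q_map_iff_quasiIso] at hτ₂ hτ₃ ⊢
  exact isIso₁_of_isIso₂₃ (DerivedCategory.triangleOfSES.map h₁ h₂ φ)
    (DerivedCategory.triangleOfSES_distinguished h₁)
    (DerivedCategory.triangleOfSES_distinguished h₂) hτ₂ hτ₃

variable (K L : CochainComplex A ℤ)

/-- The projection `mappingCone (𝟙 K) ⊞ L ⟶ L` is a homotopy equivalence. -/
noncomputable def homotopyEquivConeIdBiprod :
    HomotopyEquiv (CochainComplex.mappingCone (𝟙 K) ⊞ L) L where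
  hom := biprod.snd
  inv := biprod.inr
  homotopyHomInvId :=
    let h₀ : Homotopy (𝟙 (CochainComplex.mappingCone (𝟙 K))) 0 :=
      CochainComplex.mappingCone.liftHomotopy _ _ _ (CochainComplex.mappingCone.snd _) 0
        (by simp) (by simp)
    let h₁ := (h₀.compRight
      (biprod.inl : _ ⟶ CochainComplex.mappingCone (𝟙 K) ⊞ L)).compLeft
        (biprod.fst : CochainComplex.mappingCone (𝟙 K) ⊞ L ⟶ _)
    let h₂ := Homotopy.add h₁ (Homotopy.refl (biprod.snd ≫ biprod.inr))
    (Homotopy.ofEq (by simp)).trans (h₂.symm.trans (Homotopy.ofEq (by simp)))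
  homotopyInvHomId := Homotopy.ofEq (by simp)

instance quasiIso_snd_coneIdBiprod :
    QuasiIso (biprod.snd : CochainComplex.mappingCone (𝟙 K) ⊞ L ⟶ L) :=
  (homotopyEquivConeIdBiprod K L).quasiIso_hom

/-- `mappingCone (𝟙 K) ⊞ L` is bounded above when `K` and `L` are. -/
instance isStrictlyLE_coneIdBiprod (n : ℤ) [K.IsStrictlyLE n] [L.IsStrictlyLE n] :
    (CochainComplex.mappingCone (𝟙 K) ⊞ L).IsStrictlyLE n := by
  rw [CochainComplex.isStrictlyLE_iff]
  intro i hi
  refine IsZero.of_iso ?_ ((HomologicalComplex.eval A (ComplexShape.up ℤ) i).mapBiprod _ _)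
  simp only [HomologicalComplex.eval_obj, biprod_isZero_iff,
    CochainComplex.mappingCone.isZero_X_iff]
  exact ⟨⟨K.isZero_of_isStrictlyLE n _ (by lia), K.isZero_of_isStrictlyLE n _ (by lia)⟩,
    L.isZero_of_isStrictlyLE n i hi⟩

end Groth.Agent.Cohder.SESQuasiIso
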