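import Groth.Agent.Cohder.LeftRes
import Groth.Agent.Cohder.SESQuasiIso

/-!
Relative left resolutions: a morphism `f : Q ⟶ L` between bounded above complexes, where `Q` has
terms in `P`, factors as a degreewise split monomorphism with cokernel in `P` followed by a
termwise epimorphic quasi-isomorphism.
-/

universe v u
open CategoryTheory CategoryTheory.Limits

namespace Groth.Agent.Cohder.LeftRes

variable {A : Type u} [Category.{v} A] [Abelian A]

section PullbackSES

variable {C : Type u} [Category.{v} C] [Abelian C] {S : ShortComplex C} (hS : S.ShortExact)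
  {W : C} (ρ : W ⟶ S.X₃)

/-- The pull back of a short exact sequence along a morphism to its last term. -/
noncomputable abbrev pbSES : ShortComplex C where
  X₁ := S.X₁
  X₂ := pullback S.g ρ
  X₃ := W
  f := pullback.lift S.f 0 (by rw [S.zero, zero_comp])
  g := pullback.snd _ _
  zero := pullback.lift_snd _ _ _

/-- The canonical map from the pull back. -/
noncomputable def pbSESMap : pbSES ρ ⟶ S where
  τ₁ := 𝟙 _
  τ₂ := pullback.fst _ _
  τ₃ := ρ
  comm₁₂ := by
    dsimp [pbSES]
    rw [pullback.lift_fst, Category.id_comp]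
  comm₂₃ := by
    dsimp [pbSES]
    rw [pullback.condition]

include hS in
lemma pbSES_shortExact : (pbSES ρ).ShortExact where
  exact := by
    rw [ShortComplex.exact_iff_exact_up_to_refinements]
    intro T x hx
    have hx' : x ≫ pullback.snd S.g ρ = 0 := hx
    have h1 : (x ≫ pullback.fst S.g ρ) ≫ S.g = 0 := by
      rw [Category.assoc, pullback.condition, ← Category.assoc, hx', zero_comp]
    have := hS.mono_f
    refine ⟨T, 𝟙 T, inferInstance, hS.exact.lift _ h1, ?_⟩
    rw [Category.id_comp]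
    apply pullback.hom_ext
    · refine Eq.trans ?_ (Category.assoc _ _ _).symm
      refine Eq.trans ?_ (congrArg (hS.exact.lift _ h1 ≫ ·) (pullback.lift_fst _ _ _)).symm
      exact (hS.exact.lift_f _ h1).symm
    · refine Eq.trans ?_ (Category.assoc _ _ _).symm
      refine Eq.trans ?_ (congrArg (hS.exact.lift _ h1 ≫ ·) (pullback.lift_snd _ _ _)).symm
      exact hx'.trans comp_zero.symm
  mono_f := by
    have := hS.mono_f
    have h : (pbSES ρ).f ≫ (pbSESMap ρ).τ₂ = S.f := pullback.lift_fst _ _ _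
    exact @mono_of_mono_fac _ _ _ _ _ _ _ _ this h
  epi_g := by
    have := hS.epi_g
    dsimp [pbSES]
    infer_instance

end PullbackSES

open CochainComplex

variable {P : ObjectProperty A}

theorem exists_factorization (C : Cover P) [P.IsClosedUnderIsomorphisms]
    (hP0 : ∃ Z : A, IsZero Z ∧ P Z) (hPsum : ∀ X Y : A, P X → P Y → P (X ⊞ Y))
    {Q L : CochainComplex A ℤ} (f : Q ⟶ L) (b : ℤ) [Q.IsStrictlyLE b] [L.IsStrictlyLE b]
    (hQ : ∀ i, P (Q.X i)) :
    ∃ (Q' : CochainComplex A ℤ) (ι : Q ⟶ Q') (π : Q' ⟶ L), ι ≫ π = f ∧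
      Q'.IsStrictlyLE b ∧ (∀ i, P (Q'.X i)) ∧ QuasiIso π ∧ (∀ i, Epi (π.f i)) ∧
      (∀ i, (∃ r : Q'.X i ⟶ Q.X i, ι.f i ≫ r = 𝟙 _) ∧ P (cokernel (ι.f i))) := by
  let E := mappingCone (𝟙 Q) ⊞ L
  let j : Q ⟶ E := biprod.lift (mappingCone.inr (𝟙 Q)) f
  have hjsplit : ∀ i, j.f i ≫ ((biprod.fst : E ⟶ _).f i ≫ (mappingCone.snd (𝟙 Q)).v i i (add_zero i)) = 𝟙 _ := by
    intro i
    rw [← Category.assoc, ← HomologicalComplex.comp_f, biprod.lift_fst]
    simp
  have hjm : ∀ i, Mono (j.f i) := fun i => mono_of_mono_fac (hjsplit i)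
  have hj : Mono j := HomologicalComplex.mono_of_mono_f j inferInstance
  let S : ShortComplex (CochainComplex A ℤ) := ShortComplex.mk j (cokernel.π j) (cokernel.condition j)
  have hS : S.ShortExact :=
    { exact := ShortComplex.exact_cokernel j
      mono_f := hj
      epi_g := inferInstanceAs (Epi (cokernel.π j)) }
  have hE : E.IsStrictlyLE b := inferInstanceAs ((mappingCone (𝟙 Q) ⊞ L).IsStrictlyLE b)
  have hW : (cokernel j).IsStrictlyLE b := by
    rw [isStrictlyLE_iff]
    intro i hi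
    have : Epi ((cokernel.π j).f i) := inferInstance
    exact IsZero.of_epi ((cokernel.π j).f i) (E.isZero_of_isStrictlyLE b i hi)
  obtain ⟨R, ρ, hR, hρ, hρe, hRP⟩ := exists_resolution C hP0 (cokernel j) b
  have hρ' : Epi ρ := HomologicalComplex.epi_of_epi_f ρ hρe
  let T := pbSES (S := S) ρ
  have hT : T.ShortExact := pbSES_shortExact hS ρ
  let φ : T ⟶ S := pbSESMap (S := S) ρ
  have h2 : QuasiIso φ.τ₂ := SESQuasiIso.quasiIso_τ₂ φ hT hS
    (inferInstanceAs (QuasiIso (𝟙 Q))) hρ
  have h3 : Epi φ.τ₂ := inferInstanceAs (Epi (pullback.fst (cokernel.π j) ρ))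
  have h4 : T.f ≫ φ.τ₂ = j := pullback.lift_fst _ _ _
  have hret : ∀ i, T.f.f i ≫ (φ.τ₂.f i ≫ (biprod.fst : E ⟶ _).f i ≫
      (mappingCone.snd (𝟙 Q)).v i i (add_zero i)) = 𝟙 _ := by
    intro i
    rw [← Category.assoc, ← HomologicalComplex.comp_f, h4]
    exact hjsplit i
  have hTi : ∀ i, (T.map (HomologicalComplex.eval A (ComplexShape.up ℤ) i)).ShortExact :=
    fun i => hT.map_of_exact _
  refine ⟨T.X₂, T.f, φ.τ₂ ≫ biprod.snd, ?_, ?_, ?_, ?_, ?_, ?_⟩
  · rw [← Category.assoc, h4, biprod.lift_snd]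
  · rw [isStrictlyLE_iff]
    intro i hi
    exact ((hTi i).exact).isZero_of_both_zeros
      ((Q.isZero_of_isStrictlyLE b i hi).eq_of_src _ _) ((R.isZero_of_isStrictlyLE b i hi).eq_of_tgt _ _)
  · intro i
    have sp : (T.map (HomologicalComplex.eval A (ComplexShape.up ℤ) i)).Splitting :=
      have := (hTi i).epi_g
      ShortComplex.Splitting.ofExactOfRetraction _ (hTi i).exact _ (hret i) inferInstance
    exact P.prop_of_iso sp.isoBinaryBiproduct.symm (hPsum _ _ (hQ i) (hRP i))
  · infer_instance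
  · intro i
    have : Epi (φ.τ₂ ≫ (biprod.snd : E ⟶ L)) := inferInstance
    infer_instance
  · intro i
    refine ⟨⟨_, hret i⟩, ?_⟩
    refine P.prop_of_iso ?_ (hRP i)
    exact IsColimit.coconePointUniqueUpToIso (hTi i).gIsCokernel (colimit.isColimit _)

end Groth.Agent.Cohder.LeftRes
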