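import Groth.Agent.Cohder.StupidGE
import Groth.Agent.Cohder.FourLemma
import Groth.Agent.Dcoh.LocalD
import Groth.Agent.Dcoh.FinLocFree
import Groth.Agent.S0933

/-!
# Pseudo-coherence in distinguished triangles of `D(O_X)`

* `exists_local_lift`: morphisms from a strictly perfect complex lift locally, as chain maps,
  through a morphism which is an isomorphism in high degrees;
* `strPC_truncate`: the strictly perfect complex in the definition of `m`-pseudo-coherence can be
  taken to vanish in degrees `< m`;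
* `locally_strPC_obj₃`: part (1) of Stacks 08CD.
-/

set_option autoImplicit false
universe u
open CategoryTheory CategoryTheory.Limits AlgebraicGeometry
attribute [local instance] HasDerivedCategory.standard

namespace Groth.Agent.Cohder.PCTri

open Groth.Agent.Dcoh.LocalD

variable {X : Scheme.{u}}

section

variable {A : Type*} [Category* A] [Abelian A] [HasDerivedCategory A]

lemma isIso_homologyFunctor_Q_map_iff {K L : CochainComplex A ℤ} (f : K ⟶ L) (n : ℤ) :
    IsIso ((DerivedCategory.homologyFunctor A n).map (DerivedCategory.Q.map f)) ↔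
      IsIso (HomologicalComplex.homologyMap f n) :=
  NatIso.isIso_map_iff (DerivedCategory.homologyFunctorFactors A n) f

lemma epi_homologyFunctor_Q_map_iff {K L : CochainComplex A ℤ} (f : K ⟶ L) (n : ℤ) :
    Epi ((DerivedCategory.homologyFunctor A n).map (DerivedCategory.Q.map f)) ↔
      Epi (HomologicalComplex.homologyMap f n) :=
  (MorphismProperty.epimorphisms A).arrow_mk_iso_iff
    ((Functor.mapArrowFunctor _ _ |>.mapIso (DerivedCategory.homologyFunctorFactors A n)).app
      (Arrow.mk f))

/-- Two morphisms to the same object of the derived category can be simultaneously represented by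
morphisms of complexes to the same complex. -/
lemma exists_rep₂ {E F : CochainComplex A ℤ} {L : DerivedCategory A}
    (β : DerivedCategory.Q.obj F ⟶ L) (φ : DerivedCategory.Q.obj E ⟶ L) :
    ∃ (N : CochainComplex A ℤ) (u : L ≅ DerivedCategory.Q.obj N) (f : F ⟶ N) (g : E ⟶ N),
      β ≫ u.hom = DerivedCategory.Q.map f ∧ φ ≫ u.hom = DerivedCategory.Q.map g := by
  let e := DerivedCategory.Q.objObjPreimageIso L
  obtain ⟨L₁, b, s, hs, hb⟩ := DerivedCategory.left_fac (β ≫ e.inv)
  obtain ⟨L₂, g, t, ht, hg⟩ := DerivedCategory.left_fac (φ ≫ e.inv ≫ DerivedCategory.Q.map s)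
  refine ⟨L₂, e.symm ≪≫ asIso (DerivedCategory.Q.map s) ≪≫ asIso (DerivedCategory.Q.map t),
    b ≫ t, g, ?_, ?_⟩
  · rw [← cancel_mono (inv (DerivedCategory.Q.map t))]
    simp only [Iso.trans_hom, Iso.symm_hom, asIso_hom, Category.assoc, IsIso.hom_inv_id,
      Category.comp_id, Functor.map_comp]
    rw [reassoc_of% hb, IsIso.inv_hom_id, Category.comp_id]
  · simp only [Iso.trans_hom, Iso.symm_hom, asIso_hom, Category.assoc]
    rw [reassoc_of% hg, IsIso.inv_hom_id, Category.comp_id]

end

lemma QRestrict_inv_naturality {U : Scheme.{u}} (j : U ⟶ X) [IsOpenImmersion j]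
    {K L : CochainComplex X.Modules ℤ} (f : K ⟶ L) :
    DerivedCategory.Q.map (((Scheme.Modules.restrictFunctor j).mapHomologicalComplex
      (ComplexShape.up ℤ)).map f) ≫ (QRestrict j L).inv =
      (QRestrict j K).inv ≫ (DCoh.restrictD j).map (DerivedCategory.Q.map f) :=
  (Scheme.Modules.restrictFunctor j).mapDerivedCategoryFactors.inv.naturality f

/-- Local lifting of morphisms in the derived category from a strictly perfect complex, as a
morphism of complexes. -/
theorem exists_local_lift {E F : CochainComplex X.Modules ℤ} (hE : DCoh.IsStrictlyPerfect E)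
    (a : ℤ) (hEa : ∀ j : ℤ, j < a → IsZero (E.X j)) {L : DCoh.D X}
    (β : DerivedCategory.Q.obj F ⟶ L)
    (hβ : ∀ j : ℤ, a < j → IsIso ((DerivedCategory.homologyFunctor _ j).map β))
    (hβa : Epi ((DerivedCategory.homologyFunctor _ a).map β))
    (φ : DerivedCategory.Q.obj E ⟶ L) (x : X) :
    ∃ (V : X.Opens) (γ : (DCoh.restrictCx V).obj E ⟶ (DCoh.restrictCx V).obj F), x ∈ V ∧
      DerivedCategory.Q.map γ ≫ (QRestrict V.ι F).inv ≫ (DCoh.restrictD V.ι).map β =
        (QRestrict V.ι E).inv ≫ (DCoh.restrictD V.ι).map φ := by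
  obtain ⟨N, u, f, g, hf, hg⟩ := exists_rep₂ β φ
  obtain ⟨V, γ, hx, ⟨h⟩⟩ := Groth.Agent.S0933.result g f hE a hEa
    (fun j hj => by
      have := hβ j hj
      rw [← isIso_homologyFunctor_Q_map_iff, ← hf, Functor.map_comp]
      infer_instance)
    (by
      rw [← epi_homologyFunctor_Q_map_iff, ← hf, Functor.map_comp]
      exact epi_comp _ _) x
  refine ⟨V, γ, hx, ?_⟩
  have h1 := DerivedCategory.Q_map_eq_of_homotopy _ h
  rw [Functor.map_comp] at h1
  rw [← cancel_mono ((DCoh.restrictD V.ι).map u.hom), Category.assoc, Category.assoc,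
    Category.assoc, ← Functor.map_comp, ← Functor.map_comp, hf, hg]
  have h2 := QRestrict_inv_naturality V.ι f
  have h3 := QRestrict_inv_naturality V.ι g
  rw [← h2, ← h3, ← Category.assoc]
  exact congrArg (· ≫ (QRestrict V.ι N).inv) h1

/-- The stupid truncation of a strictly perfect complex is strictly perfect. -/
lemma isStrictlyPerfect_σ {E : CochainComplex X.Modules ℤ} (hE : DCoh.IsStrictlyPerfect E)
    (m : ℤ) : DCoh.IsStrictlyPerfect (StupidGE.σ E m) := by
  obtain ⟨⟨a, b, hab⟩, h⟩ := hE
  refine ⟨⟨a, b, fun i hi => ?_⟩, fun i => ?_⟩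
  · by_cases hm : m ≤ i
    · exact (hab i hi).of_iso (StupidGE.σXIso E m i hm)
    · exact StupidGE.isZero_σ_X E m i (by omega)
  · by_cases hm : m ≤ i
    · exact isFinLocFree_of_iso (StupidGE.σXIso E m i hm).symm (h i)
    · exact Dcoh.FinLocFree.isFinLocFree_of_isZero (StupidGE.isZero_σ_X E m i (by omega))

/-- The mapping cone of a morphism of strictly perfect complexes is strictly perfect. -/
lemma isStrictlyPerfect_mappingCone {E F : CochainComplex X.Modules ℤ} (φ : E ⟶ F)
    (hE : DCoh.IsStrictlyPerfect E) (hF : DCoh.IsStrictlyPerfect F) :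
    DCoh.IsStrictlyPerfect (CochainComplex.mappingCone φ) := by
  obtain ⟨⟨a, b, hab⟩, h⟩ := hE
  obtain ⟨⟨a', b', hab'⟩, h'⟩ := hF
  have e : ∀ i : ℤ, (CochainComplex.mappingCone φ).X i ≅ E.X (i + 1) ⊞ F.X i := fun i =>
    HomologicalComplex.homotopyCofiber.XIsoBiprod φ i (i + 1) rfl
  refine ⟨⟨min (a - 1) a', max b b', fun i hi => ?_⟩, fun i => ?_⟩
  · refine IsZero.of_iso ?_ (e i)
    rw [biprod_isZero_iff]
    exact ⟨hab (i + 1) (by omega), hab' i (by omega)⟩
  · exact isFinLocFree_of_iso (e i).symm
      (Dcoh.FinLocFree.isFinLocFree_biprod (h (i + 1)) (h' i))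

/-- The strictly perfect complex in `StrPC m` can be taken to vanish below degree `m`. -/
lemma strPC_truncate {m : ℤ} {K : DCoh.D X} (h : StrPC m X K) :
    ∃ (E : CochainComplex X.Modules ℤ) (α : DerivedCategory.Q.obj E ⟶ K),
      DCoh.IsStrictlyPerfect E ∧ (∀ i : ℤ, i < m → IsZero (E.X i)) ∧
      (∀ i : ℤ, m < i → IsIso ((DerivedCategory.homologyFunctor _ i).map α)) ∧
      Epi ((DerivedCategory.homologyFunctor _ m).map α) := by
  obtain ⟨E, α, hE, h1, h2⟩ := h
  refine ⟨StupidGE.σ E m, DerivedCategory.Q.map (StupidGE.σι E m) ≫ α,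
    isStrictlyPerfect_σ hE m, fun i hi => StupidGE.isZero_σ_X E m i hi, fun i hi => ?_, ?_⟩
  · have := h1 i hi
    have : IsIso ((DerivedCategory.homologyFunctor _ i).map
        (DerivedCategory.Q.map (StupidGE.σι E m))) := by
      rw [isIso_homologyFunctor_Q_map_iff]
      exact StupidGE.isIso_homologyMap_σι E m i hi
    rw [Functor.map_comp]
    infer_instance
  · have : Epi ((DerivedCategory.homologyFunctor _ m).map
        (DerivedCategory.Q.map (StupidGE.σι E m))) := by
      rw [epi_homologyFunctor_Q_map_iff]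
      exact StupidGE.epi_homologyMap_σι E m
    rw [Functor.map_comp]
    exact epi_comp _ _

end Groth.Agent.Cohder.PCTri
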