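import Groth.Agent.Cohder.PCTri

/-!
# Pseudo-coherence in distinguished triangles of `D(O_X)`, continued

* `locally_strPC_obj₃`: part (1) of Stacks 08CD;
* `isPseudoCoherentD_shift_iff`: pseudo-coherence and shifts.
-/

set_option autoImplicit false
universe u
open CategoryTheory CategoryTheory.Limits AlgebraicGeometry CategoryTheory.Pretriangulated
attribute [local instance] HasDerivedCategory.standard

namespace Groth.Agent.Cohder.PCTri2

open Groth.Agent.Dcoh.LocalD Groth.Agent.Cohder.PCTri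

variable {X : Scheme.{u}}

lemma locally_strPC_obj₃_aux (m : ℤ) (T : Triangle (DCoh.D X)) (hT : T ∈ distinguishedTriangles)
    (h₁ : StrPC (m + 1) X T.obj₁) (h₂ : StrPC m X T.obj₂) : Locally (StrPC m) X T.obj₃ := by
  intro x
  obtain ⟨E, α, hE, hE0, hα, hα'⟩ := strPC_truncate h₁
  obtain ⟨F, β, hF, hβ, hβ'⟩ := h₂
  obtain ⟨V, γ, hx, hγ⟩ := exists_local_lift hE (m + 1) hE0 β (fun j hj => hβ j (by omega))
    (by have := hβ (m + 1) (by omega); infer_instance) (α ≫ T.mor₁) x
  refine ⟨V, hx, ?_⟩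
  let r := DCoh.restrictD V.ι
  let T₁ := DerivedCategory.Q.mapTriangle.obj (CochainComplex.mappingCone.triangle γ)
  let T₂ := r.mapTriangle.obj T
  have hT₁ : T₁ ∈ distinguishedTriangles := DerivedCategory.mappingCone_triangle_distinguished γ
  have hT₂ : T₂ ∈ distinguishedTriangles := r.map_distinguished _ hT
  let a : T₁.obj₁ ⟶ T₂.obj₁ := (QRestrict V.ι E).inv ≫ r.map α
  let b : T₁.obj₂ ⟶ T₂.obj₂ := (QRestrict V.ι F).inv ≫ r.map β
  have comm : T₁.mor₁ ≫ b = a ≫ T₂.mor₁ := by
    refine hγ.trans ?_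
    rw [Functor.map_comp]
    exact (Category.assoc _ _ _).symm
  let c : T₁ ⟶ T₂ := completeDistinguishedTriangleMorphism T₁ T₂ hT₁ hT₂ a b comm
  have ha : ∀ i : ℤ, m + 1 < i →
      IsIso (((DerivedCategory.homologyFunctor _ 0).shift i).map c.hom₁) := by
    intro i hi
    change IsIso ((DerivedCategory.homologyFunctor _ i).map ((QRestrict V.ι E).inv ≫ r.map α))
    have := Dcoh.MapDer.isIso_homology_map (Scheme.Modules.restrictFunctor V.ι) α i (hα i hi)
    rw [Functor.map_comp]
    infer_instance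
  have ha' : ∀ i : ℤ, m + 1 ≤ i →
      Epi (((DerivedCategory.homologyFunctor _ 0).shift i).map c.hom₁) := by
    intro i hi
    rcases hi.eq_or_lt with rfl | hi
    · change Epi ((DerivedCategory.homologyFunctor _ (m + 1)).map
        ((QRestrict V.ι E).inv ≫ r.map α))
      have := Dcoh.MapDer.epi_homology_map (Scheme.Modules.restrictFunctor V.ι) α (m + 1) hα'
      rw [Functor.map_comp]
      exact epi_comp _ _
    · have := ha i hi
      infer_instance
  have hb : ∀ i : ℤ, m < i →
      IsIso (((DerivedCategory.homologyFunctor _ 0).shift i).map c.hom₂) := by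
    intro i hi
    change IsIso ((DerivedCategory.homologyFunctor _ i).map ((QRestrict V.ι F).inv ≫ r.map β))
    have := Dcoh.MapDer.isIso_homology_map (Scheme.Modules.restrictFunctor V.ι) β i (hβ i hi)
    rw [Functor.map_comp]
    infer_instance
  have hb' : ∀ i : ℤ, m ≤ i →
      Epi (((DerivedCategory.homologyFunctor _ 0).shift i).map c.hom₂) := by
    intro i hi
    rcases hi.eq_or_lt with rfl | hi
    · change Epi ((DerivedCategory.homologyFunctor _ m).map
        ((QRestrict V.ι F).inv ≫ r.map β))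
      have := Dcoh.MapDer.epi_homology_map (Scheme.Modules.restrictFunctor V.ι) β m hβ'
      rw [Functor.map_comp]
      exact epi_comp _ _
    · have := hb i hi
      infer_instance
  have hc : ∀ i : ℤ, m ≤ i →
      Epi (((DerivedCategory.homologyFunctor _ 0).shift i).map c.hom₃) := by
    intro i hi
    have := hb (i + 1) (by omega)
    exact FourLemma.epi_hom₃ _ c hT₁ hT₂ i (i + 1) rfl (hb' i hi) (ha' (i + 1) (by omega))
      inferInstance
  refine ⟨CochainComplex.mappingCone γ, c.hom₃, isStrictlyPerfect_mappingCone γ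
    (isStrictlyPerfect_restrict V.ι hE) (isStrictlyPerfect_restrict V.ι hF), ?_, hc m le_rfl⟩
  intro i hi
  have h1 : Epi (((DerivedCategory.homologyFunctor _ 0).shift i).map c.hom₃) := hc i hi.le
  have h2 : Mono (((DerivedCategory.homologyFunctor _ 0).shift i).map c.hom₃) := by
    have := hb i hi
    have := ha (i + 1) (by omega)
    exact FourLemma.mono_hom₃ _ c hT₁ hT₂ i (i + 1) rfl (ha' i (by omega)) inferInstance
      inferInstance
  exact isIso_of_mono_of_epi (((DerivedCategory.homologyFunctor _ 0).shift i).map c.hom₃)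

/-- Stacks 08CD (1). -/
theorem isPseudoCoherentD_obj₃ (m : ℤ) (T : Triangle (DCoh.D X))
    (hT : T ∈ distinguishedTriangles) (h₁ : DCoh.IsPseudoCoherentD (m + 1) T.obj₁)
    (h₂ : DCoh.IsPseudoCoherentD m T.obj₂) : DCoh.IsPseudoCoherentD m T.obj₃ := by
  rw [isPseudoCoherentD_iff_locally] at h₁ h₂ ⊢
  refine locally_of_locally (isStable_strPC m) fun x => ?_
  obtain ⟨V, hx, h₁V, h₂V⟩ := locally_and (isStable_strPC (m + 1)) (isStable_strPC m) h₁ h₂ x
  exact ⟨V, hx, locally_strPC_obj₃_aux m ((DCoh.restrictD V.ι).mapTriangle.obj T)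
    ((DCoh.restrictD V.ι).map_distinguished _ hT) h₁V h₂V⟩

lemma isIso_homology_shift_map_iff {A : Type*} [Category* A] [Abelian A] [HasDerivedCategory A]
    {K L : DerivedCategory A} (f : K ⟶ L) (n i i' : ℤ) (h : n + i = i') :
    IsIso ((DerivedCategory.homologyFunctor A i).map ((shiftFunctor _ n).map f)) ↔
      IsIso ((DerivedCategory.homologyFunctor A i').map f) :=
  NatIso.isIso_map_iff ((DerivedCategory.homologyFunctor A 0).shiftIso n i i' h) f

lemma epi_homology_shift_map_iff {A : Type*} [Category* A] [Abelian A] [HasDerivedCategory A]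
    {K L : DerivedCategory A} (f : K ⟶ L) (n i i' : ℤ) (h : n + i = i') :
    Epi ((DerivedCategory.homologyFunctor A i).map ((shiftFunctor _ n).map f)) ↔
      Epi ((DerivedCategory.homologyFunctor A i').map f) :=
  (MorphismProperty.epimorphisms A).arrow_mk_iso_iff
    ((Functor.mapArrowFunctor _ _ |>.mapIso
      ((DerivedCategory.homologyFunctor A 0).shiftIso n i i' h)).app (Arrow.mk f))

lemma isStrictlyPerfect_shift {E : CochainComplex X.Modules ℤ} (hE : DCoh.IsStrictlyPerfect E)
    (n : ℤ) : DCoh.IsStrictlyPerfect (E⟦n⟧) := by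
  obtain ⟨⟨a, b, hab⟩, h⟩ := hE
  refine ⟨⟨a - n, b - n, fun i hi => ?_⟩, fun i => ?_⟩
  · exact (hab (i + n) (by omega)).of_iso (CochainComplex.shiftFunctorObjXIso E n i (i + n) rfl)
  · exact isFinLocFree_of_iso (CochainComplex.shiftFunctorObjXIso E n i (i + n) rfl).symm
      (h (i + n))

lemma strPC_shift (m n m' : ℤ) (hm : n + m = m') {K : DCoh.D X} (h : StrPC m' X K) :
    StrPC m X (K⟦n⟧) := by
  obtain ⟨E, α, hE, h1, h2⟩ := h
  refine ⟨E⟦n⟧, (DerivedCategory.Q.commShiftIso n).hom.app E ≫ α⟦n⟧',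
    isStrictlyPerfect_shift hE n, fun i hi => ?_, ?_⟩
  · have := (isIso_homology_shift_map_iff α n i (n + i) rfl).2 (h1 _ (by omega))
    rw [Functor.map_comp]
    infer_instance
  · have := (epi_homology_shift_map_iff α n m m' hm).2 h2
    rw [Functor.map_comp]
    exact epi_comp _ _

lemma isPseudoCoherentD_shift {m n m' : ℤ} (hm : n + m = m') {K : DCoh.D X}
    (h : DCoh.IsPseudoCoherentD m' K) : DCoh.IsPseudoCoherentD m (K⟦n⟧) := by
  rw [isPseudoCoherentD_iff_locally] at h ⊢
  intro x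
  obtain ⟨V, hx, hV⟩ := h x
  exact ⟨V, hx, (isStable_strPC m).iso (((DCoh.restrictD V.ι).commShiftIso n).app K).symm
    (strPC_shift m n m' hm hV)⟩

lemma isPseudoCoherentD_shift_iff {m n m' : ℤ} (hm : n + m = m') (K : DCoh.D X) :
    DCoh.IsPseudoCoherentD m (K⟦n⟧) ↔ DCoh.IsPseudoCoherentD m' K := by
  refine ⟨fun h => ?_, isPseudoCoherentD_shift hm⟩
  exact isPseudoCoherentD_of_iso (shiftShiftNeg K n) (isPseudoCoherentD_shift (n := -n) (by omega) h)

/-- Stacks 08CD (2). -/
theorem isPseudoCoherentD_obj₂ (m : ℤ) (T : Triangle (DCoh.D X))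
    (hT : T ∈ distinguishedTriangles) (h₁ : DCoh.IsPseudoCoherentD m T.obj₁)
    (h₃ : DCoh.IsPseudoCoherentD m T.obj₃) : DCoh.IsPseudoCoherentD m T.obj₂ :=
  isPseudoCoherentD_obj₃ m T.invRotate (inv_rot_of_distTriang _ hT)
    (isPseudoCoherentD_shift (by omega) h₃) h₁

/-- Stacks 08CD (3). -/
theorem isPseudoCoherentD_obj₁ (m : ℤ) (T : Triangle (DCoh.D X))
    (hT : T ∈ distinguishedTriangles) (h₂ : DCoh.IsPseudoCoherentD (m + 1) T.obj₂)
    (h₃ : DCoh.IsPseudoCoherentD m T.obj₃) : DCoh.IsPseudoCoherentD (m + 1) T.obj₁ :=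
  (isPseudoCoherentD_shift_iff (n := 1) (by omega) T.obj₁).1
    (isPseudoCoherentD_obj₃ m T.rotate (rot_of_distTriang _ hT) h₂ h₃)

end Groth.Agent.Cohder.PCTri2
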