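import Mathlib.LinearAlgebra.TensorProduct.Basis
import Mathlib.LinearAlgebra.TensorProduct.Tower
import Mathlib.RingTheory.Polynomial.Basic
import Mathlib.Algebra.Polynomial.AlgebraMap
import Mathlib.Algebra.Polynomial.Module.Basic
import Mathlib.Algebra.Exact.Basic
import Mathlib.LinearAlgebra.StdBasis
import Mathlib.Algebra.Polynomial.Basis

/-!
# The exact sequence `0 → A[X] ⊗_A M → A[X] ⊗_A M → M → 0` for an `A[X]`-module `M`
-/

set_option autoImplicit false
universe u v

open Polynomial TensorProduct

namespace Groth.Agent.Cohder.PolySeq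

variable {A : Type u} [CommRing A] (M : Type v) [AddCommGroup M] [Module A M]
  [Module A[X] M] [IsScalarTower A A[X] M]

/-- multiplication by `X` on `M` as an `A`-linear map. -/
noncomputable def mulX : M →ₗ[A] M where
  toFun m := (X : A[X]) • m
  map_add' := smul_add _
  map_smul' a m := by
    simp only [RingHom.id_apply]
    rw [← algebraMap_smul A[X] a m, ← algebraMap_smul A[X] a ((X : A[X]) • m), smul_smul,
      smul_smul, mul_comm]

@[simp] lemma mulX_apply (m : M) : mulX (A := A) M m = (X : A[X]) • m := rfl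

/-- `X ⊗ 1 - 1 ⊗ X`. -/
noncomputable def dX : A[X] ⊗[A] M →ₗ[A[X]] A[X] ⊗[A] M :=
  LinearMap.lsmul A[X] _ (X : A[X]) - (mulX (A := A) M).baseChange A[X]

@[simp] lemma dX_tmul (p : A[X]) (m : M) :
    dX M (p ⊗ₜ[A] m) = (X * p) ⊗ₜ m - p ⊗ₜ ((X : A[X]) • m) := by
  simp [dX, TensorProduct.smul_tmul']

/-- The action map. -/
noncomputable def act : A[X] ⊗[A] M →ₗ[A[X]] M :=
  TensorProduct.AlgebraTensorModule.lift
    { toFun := fun p => (LinearMap.lsmul A[X] M p).restrictScalars A
      map_add' := fun p q => by ext m; simp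
      map_smul' := fun p q => by ext m; simp [mul_smul] }

@[simp] lemma act_tmul (p : A[X]) (m : M) : act M (p ⊗ₜ[A] m) = p • m := rfl

lemma act_surjective : Function.Surjective (act (A := A) M) := fun m =>
  ⟨1 ⊗ₜ m, by simp⟩

lemma act_dX (t : A[X] ⊗[A] M) : act M (dX M t) = 0 := by
  induction t using TensorProduct.induction_on with
  | zero => simp
  | tmul p m => rw [dX_tmul, map_sub, act_tmul, act_tmul, smul_smul, mul_comm, sub_self]
  | add x y hx hy => rw [map_add, map_add, hx, hy, add_zero]

lemma sub_mem_range (t : A[X] ⊗[A] M) :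
    t - 1 ⊗ₜ (act M t) ∈ LinearMap.range (dX (A := A) M) := by
  induction t using TensorProduct.induction_on with
  | zero => simp
  | tmul p m =>
    rw [act_tmul]
    induction p using Polynomial.induction_on' with
    | add p q hp hq =>
      have : (p + q) ⊗ₜ[A] m - (1 : A[X]) ⊗ₜ[A] ((p + q) • m) =
        (p ⊗ₜ[A] m - (1 : A[X]) ⊗ₜ[A] (p • m)) + (q ⊗ₜ[A] m - (1 : A[X]) ⊗ₜ[A] (q • m)) := by
        rw [TensorProduct.add_tmul, add_smul, TensorProduct.tmul_add]
        abel
      rw [this]
      exact Submodule.add_mem _ hp hq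
    | monomial n a =>
      induction n generalizing m with
      | zero =>
        rw [Polynomial.monomial_zero_left]
        have : (C a) ⊗ₜ[A] m - (1 : A[X]) ⊗ₜ[A] ((C a : A[X]) • m) = 0 := by
          rw [← Polynomial.algebraMap_eq, algebraMap_smul, TensorProduct.tmul_smul,
            TensorProduct.smul_tmul', Algebra.smul_def, mul_one, sub_self]
        rw [this]
        exact Submodule.zero_mem _
      | succ n ih =>
        have h1 : monomial (n + 1) a = X * monomial n a := by
          rw [Polynomial.X_mul_monomial]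
        have h2 : (monomial (n + 1) a) ⊗ₜ[A] m - (1 : A[X]) ⊗ₜ[A] (monomial (n + 1) a • m) =
          dX M (monomial n a ⊗ₜ m) + ((monomial n a) ⊗ₜ[A] ((X : A[X]) • m) -
            (1 : A[X]) ⊗ₜ[A] (monomial n a • ((X : A[X]) • m))) := by
          rw [dX_tmul, h1, smul_smul, mul_comm (monomial n a)]
          abel
        rw [h2]
        exact Submodule.add_mem _ ⟨_, rfl⟩ (ih _)
  | add x y hx hy =>
    have : x + y - (1 : A[X]) ⊗ₜ[A] (act M (x + y)) =
      (x - (1 : A[X]) ⊗ₜ[A] (act M x)) + (y - (1 : A[X]) ⊗ₜ[A] (act M y)) := by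
      rw [map_add, TensorProduct.tmul_add]
      abel
    rw [this]
    exact Submodule.add_mem _ hx hy

lemma dX_exact_act : Function.Exact (dX (A := A) M) (act M) := by
  intro t
  constructor
  · intro h
    have := sub_mem_range M t
    rw [h, TensorProduct.tmul_zero, sub_zero] at this
    exact this
  · rintro ⟨s, rfl⟩
    exact act_dX M s

/-- The coefficients of an element of `A[X] ⊗ M`. -/
noncomputable def coeffs : A[X] ⊗[A] M ≃ₗ[A] (ℕ →₀ M) :=
  TensorProduct.equivFinsuppOfBasisLeft (Polynomial.basisMonomials A)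

omit [Module A[X] M] [IsScalarTower A A[X] M] in
lemma coeffs_tmul (p : A[X]) (m : M) (n : ℕ) : coeffs M (p ⊗ₜ m) n = p.coeff n • m := by
  rw [coeffs, TensorProduct.equivFinsuppOfBasisLeft_apply_tmul_apply]
  rfl

lemma coeffs_dX (t : A[X] ⊗[A] M) (n : ℕ) :
    coeffs M (dX M t) (n + 1) = coeffs M t n - (X : A[X]) • coeffs M t (n + 1) := by
  induction t using TensorProduct.induction_on with
  | zero => simp
  | tmul p m =>
    rw [dX_tmul, map_sub, Finsupp.sub_apply, coeffs_tmul, coeffs_tmul, coeffs_tmul, coeffs_tmul,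
      Polynomial.coeff_X_mul]
    congr 1
    exact ((mulX (A := A) M).map_smul _ _).symm
  | add x y hx hy =>
    rw [LinearMap.map_add, LinearEquiv.map_add, Finsupp.add_apply, hx, hy, LinearEquiv.map_add,
      Finsupp.add_apply, Finsupp.add_apply, smul_add]
    abel

lemma dX_injective : Function.Injective (dX (A := A) M) := by
  rw [injective_iff_map_eq_zero]
  intro t ht
  have h : ∀ n, coeffs M t n = (X : A[X]) • coeffs M t (n + 1) := by
    intro n
    have := coeffs_dX M t n
    rw [ht, map_zero, Finsupp.zero_apply] at this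
    exact (sub_eq_zero.1 this.symm)
  have h2 : ∀ k n, coeffs M t n = (X : A[X]) ^ k • coeffs M t (n + k) := by
    intro k
    induction k with
    | zero => intro n; simp
    | succ k ih =>
      intro n
      rw [ih n, h (n + k), smul_smul, ← pow_succ]
      rfl
  apply (coeffs M).injective
  rw [map_zero]
  ext n
  obtain ⟨N, hN⟩ : ∃ N, ∀ m, N ≤ m → coeffs M t m = 0 := by
    refine ⟨(coeffs M t).support.sup id + 1, fun m hm => ?_⟩
    by_contra hne
    have : m ≤ (coeffs M t).support.sup id :=
      Finset.le_sup (f := id) (Finsupp.mem_support_iff.2 hne)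
    omega
  rw [h2 N n, hN (n + N) (by omega), smul_zero, Finsupp.zero_apply]

end Groth.Agent.Cohder.PolySeq
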