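import Groth.Agent.LoccohB.InjRep
import Groth.Agent.LoccohB.FlatLBC
import Groth.Agent.LoccohB.LBC2
import Groth.Agent.LoccohB.GorInjDim
import Groth.Agent.Cohder.PolySeq

/-!
# Finite injective dimension of `ω ⊗ A[X]`
-/

set_option autoImplicit false
universe u

open CategoryTheory CategoryTheory.Limits CochainComplex HomComplex Polynomial TensorProduct

attribute [local instance] HasDerivedCategory.standard

namespace Groth.Agent.Cohder.PolyInj

open DerivedCategory Groth.Agent.LoccohB Groth.Agent.LoccohB.InjRep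

section

variable {A : Type u} [CommRing A]

/-- `Hom(M, (Q J)[i]) = 0` when `J` is K-injective with `J.X i = 0`. -/
lemma subsingleton_of_isZero (J : CochainComplex (ModuleCat.{u} A) ℤ) [J.IsKInjective]
    (M : Type u) [AddCommGroup M] [Module A M] (i : ℤ) (h : IsZero (J.X i)) :
    Subsingleton (Dual.inD A M ⟶ (Q.obj J)⟦i⟧) := by
  refine subsingleton_of_iso_left (isoInD M) ⟨?_⟩
  have key : ∀ f : Q.obj ((CochainComplex.singleFunctor (ModuleCat.{u} A) 0).obj
      (ModuleCat.of A M)) ⟶ (Q.obj J)⟦i⟧, f = 0 := by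
    intro f
    obtain ⟨z, rfl⟩ := ofCocycle_surjective_of_isKInjective _ J i f
    have hz : z = 0 := by
      apply Cocycle.ext
      apply Cochain.ext
      intro p q hpq
      by_cases hp : p = 0
      · subst hp
        obtain rfl : q = i := by omega
        exact h.eq_of_tgt _ _
      · exact (HomologicalComplex.isZero_single_obj_X (.up ℤ) 0 _ p hp).eq_of_src _ _
    rw [hz, ofCocycle_zero]
  intro f g
  rw [key f, key g]

end

section

variable {A B : Type u} [CommRing A] [CommRing B] (φ : A →+* B) (hφ : φ.Flat)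

/-- The restriction to `A` of `Q I ⊗_A B`. -/
noncomputable def restrictFlatIso (I : CochainComplex (ModuleCat.{u} A) ℤ) :
    (DRing.restrictD φ).obj ((FlatLBC.flatBC φ hφ).obj (Q.obj I)) ≅
      Q.obj (((ModuleCat.restrictScalars.{u} φ).mapHomologicalComplex (ComplexShape.up ℤ)).obj
        (((ModuleCat.extendScalars.{u, u, u} φ).mapHomologicalComplex (ComplexShape.up ℤ)).obj I)) :=
  haveI := ModuleCat.preservesFiniteLimits_extendScalars_of_flat hφ
  (DRing.restrictD φ).mapIso
    ((ModuleCat.extendScalars.{u, u, u} φ).mapDerivedCategoryFactors.app I) ≪≫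
  (ModuleCat.restrictScalars.{u} φ).mapDerivedCategoryFactors.app _

end

section

variable (A : Type u) [CommRing A]

lemma flat_polynomial : (algebraMap A A[X]).Flat := by
  rw [RingHom.flat_algebraMap_iff]
  infer_instance

end

section

variable (A B : Type u) [CommRing A] [CommRing B] [Algebra A B]

/-- The underlying `A`-module of the extension of scalars. -/
noncomputable def restrictExtendEquiv (M : ModuleCat.{u} A) :
    B ⊗[A] M ≃ₗ[A] ((ModuleCat.restrictScalars.{u} (algebraMap A B)).obj
      ((ModuleCat.extendScalars.{u, u, u} (algebraMap A B)).obj M)) where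
  toFun x := FlatLBC.extEquiv A B M x
  invFun x := (FlatLBC.extEquiv A B M).symm x
  left_inv := (FlatLBC.extEquiv A B M).left_inv
  right_inv := (FlatLBC.extEquiv A B M).right_inv
  map_add' := (FlatLBC.extEquiv A B M).map_add
  map_smul' a x := by
    have h : a • x = algebraMap A B a • x := (algebraMap_smul B a x).symm
    rw [h, map_smul]
    rfl

end

section

variable {A : Type u} [CommRing A] [IsNoetherianRing A]

lemma injective_restrict_extend (M : ModuleCat.{u} A) [Injective M] :
    Injective ((ModuleCat.restrictScalars.{u} (algebraMap A A[X])).obj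
      ((ModuleCat.extendScalars.{u, u, u} (algebraMap A A[X])).obj M)) := by
  rw [← Module.injective_iff_injective_object]
  have h1 : Module.Injective A M := by
    rw [Module.injective_iff_injective_object]
    infer_instance
  have h2 := GorInjDim.injective_finsupp (R := A) (ULift.{u} ℕ) M h1
  let e : (ULift.{u} ℕ →₀ M) ≃ₗ[A]
      ((ModuleCat.restrictScalars.{u} (algebraMap A A[X])).obj
      ((ModuleCat.extendScalars.{u, u, u} (algebraMap A A[X])).obj M)) :=
    (Finsupp.domLCongr Equiv.ulift) ≪≫ₗ (TensorProduct.equivFinsuppOfBasisLeft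
      (Polynomial.basisMonomials A)).symm ≪≫ₗ restrictExtendEquiv A A[X] M
  rw [← Module.Baer.iff_injective] at h2 ⊢
  exact h2.of_equiv e

/-- The restriction to `A` of `ω ⊗ A[X]` has no maps from modules outside of the bounds. -/
lemma subsingleton_restrict_flatBC (ω : Dual.D A) (a b : ℤ)
    (h : ∀ (M : Type u) [AddCommGroup M] [Module A M] (i : ℤ), (i < a ∨ b < i) →
      Subsingleton (Dual.inD A M ⟶ ω⟦i⟧)) (M : Type u) [AddCommGroup M] [Module A M] (i : ℤ)
      (hi : i < a ∨ b < i) :
    Subsingleton (Dual.inD A M ⟶ ((DRing.restrictD (algebraMap A A[X])).obj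
      ((FlatLBC.flatBC (algebraMap A A[X]) (flat_polynomial A)).obj ω))⟦i⟧) := by
  obtain ⟨I, hI1, hI2, hI3, ⟨e⟩⟩ := exists_injective_representative_of_subsingleton ω a b h
  let J : CochainComplex (ModuleCat.{u} A) ℤ :=
    (((ModuleCat.restrictScalars.{u} (algebraMap A A[X])).mapHomologicalComplex
    (ComplexShape.up ℤ)).obj (((ModuleCat.extendScalars.{u, u, u}
      (algebraMap A A[X])).mapHomologicalComplex (ComplexShape.up ℤ)).obj I))
  let e' : (DRing.restrictD (algebraMap A A[X])).obj
      ((FlatLBC.flatBC (algebraMap A A[X]) (flat_polynomial A)).obj ω) ≅ Q.obj J :=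
    (DRing.restrictD (algebraMap A A[X])).mapIso
      ((FlatLBC.flatBC (algebraMap A A[X]) (flat_polynomial A)).mapIso e.symm) ≪≫
      restrictFlatIso _ _ I
  refine subsingleton_of_iso e' i ?_
  have hz (n : ℤ) (h : IsZero (I.X n)) : IsZero (J.X n) :=
    Functor.map_isZero (ModuleCat.restrictScalars.{u} (algebraMap A A[X]))
      (Functor.map_isZero (ModuleCat.extendScalars.{u, u, u} (algebraMap A A[X])) h)
  have hJ1 : J.IsStrictlyGE a := by
    rw [CochainComplex.isStrictlyGE_iff]
    intro i hi
    exact hz i (I.isZero_of_isStrictlyGE a i hi)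
  have hJ2 : ∀ n, Injective (J.X n) := fun n => by
    have := hI3 n
    exact injective_restrict_extend (I.X n)
  have hJ3 : J.IsKInjective := isKInjective_of_injective J a
  apply subsingleton_of_isZero J M i
  apply hz
  obtain hi | hi := hi
  · exact I.isZero_of_isStrictlyGE a i hi
  · exact I.isZero_of_isStrictlyLE b i hi

end

section

variable {A : Type u} [CommRing A]

/-- A morphism of `ModuleCat` from a linear map, with explicit objects. -/
def mkHom {R : Type u} [CommRing R] (X Y : ModuleCat.{u} R) (f : X →ₗ[R] Y) : X ⟶ Y :=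
  ModuleCat.ofHom f

/-- The short exact sequence `0 → A[X] ⊗ M → A[X] ⊗ M → M → 0` of `A[X]`-modules, with
`A[X] ⊗ M` being the extension of scalars of the restriction of scalars of `M`. -/
lemma exists_shortExact (M : ModuleCat.{u} A[X]) :
    ∃ (f : (ModuleCat.extendScalars.{u, u, u} (algebraMap A A[X])).obj
        ((ModuleCat.restrictScalars.{u} (algebraMap A A[X])).obj M) ⟶
        (ModuleCat.extendScalars.{u, u, u} (algebraMap A A[X])).obj
          ((ModuleCat.restrictScalars.{u} (algebraMap A A[X])).obj M))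
      (g : (ModuleCat.extendScalars.{u, u, u} (algebraMap A A[X])).obj
        ((ModuleCat.restrictScalars.{u} (algebraMap A A[X])).obj M) ⟶ M) (w : f ≫ g = 0),
      (ShortComplex.mk f g w).ShortExact := by
  let N := (ModuleCat.restrictScalars.{u} (algebraMap A A[X])).obj M
  let _ : Module A[X] N := inferInstanceAs (Module A[X] M)
  have : IsScalarTower A A[X] N := ⟨fun a b x => by
    change (a • b) • (show M from x) = algebraMap A A[X] a • (b • (show M from x))
    rw [smul_smul, Algebra.smul_def]⟩
  let E := (FlatLBC.extEquiv A A[X] N)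
  let f := mkHom ((ModuleCat.extendScalars.{u, u, u} (algebraMap A A[X])).obj N)
      ((ModuleCat.extendScalars.{u, u, u} (algebraMap A A[X])).obj N)
      (E.toLinearMap ∘ₗ PolySeq.dX (A := A) N ∘ₗ E.symm.toLinearMap)
  let g := mkHom ((ModuleCat.extendScalars.{u, u, u} (algebraMap A A[X])).obj N) M
    (PolySeq.act (A := A) N ∘ₗ E.symm.toLinearMap)
  have w : f ≫ g = 0 := by
    apply ModuleCat.hom_ext
    apply LinearMap.ext
    intro x
    change PolySeq.act (A := A) N (E.symm (E (PolySeq.dX (A := A) N (E.symm x)))) = 0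
    rw [LinearEquiv.symm_apply_apply, PolySeq.act_dX]
  refine ⟨f, g, w, ?_⟩
  refine { exact := ?_, mono_f := ?_, epi_g := ?_ }
  · rw [ShortComplex.moduleCat_exact_iff]
    intro x hx
    obtain ⟨y, hy⟩ := (PolySeq.dX_exact_act (A := A) N (E.symm x)).1 hx
    refine ⟨E y, ?_⟩
    change E (PolySeq.dX (A := A) N (E.symm (E y))) = x
    rw [LinearEquiv.symm_apply_apply, hy, LinearEquiv.apply_symm_apply]
  · rw [ModuleCat.mono_iff_injective]
    exact E.injective.comp ((PolySeq.dX_injective (A := A) N).comp E.symm.injective)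
  · rw [ModuleCat.epi_iff_surjective]
    exact (PolySeq.act_surjective (A := A) N).comp E.symm.surjective

end

section

variable {A B : Type u} [CommRing A] [CommRing B] [Algebra A B]

/-- Maps from an extended module, by adjunction. -/
lemma subsingleton_of_extend (h : (algebraMap A B).Flat) (N : ModuleCat.{u} A) (L : Dual.D B) (i : ℤ)
    (hN : Subsingleton (Dual.inD A N ⟶ ((DRing.restrictD (algebraMap A B)).obj L)⟦i⟧)) :
    Subsingleton (Dual.inD B ((ModuleCat.extendScalars.{u, u, u} (algebraMap A B)).obj N) ⟶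
      L⟦i⟧) := by
  have := LBC.hasLBaseChange (algebraMap A B)
  let e1 : Dual.inD B ((ModuleCat.extendScalars.{u, u, u} (algebraMap A B)).obj N) ≅
      (DRing.LBaseChange (algebraMap A B)).obj (Dual.inD A N) :=
    (FlatLBC.flatBCSingle (algebraMap A B) h 0).symm.app N ≪≫
      (FlatLBC.LBaseChangeIso (algebraMap A B) h).symm.app _
  refine subsingleton_of_iso_left e1 ?_
  let e2 := (LBC.lbcAdj (algebraMap A B)).homEquiv (Dual.inD A N) (L⟦i⟧)
  refine e2.subsingleton_congr.2 ⟨fun x y => ?_⟩
  rw [← cancel_mono (((DRing.restrictD (algebraMap A B)).commShiftIso i).hom.app L)]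
  exact hN.elim _ _

/-- If `L` in `D(A[X])` restricts to an object of `D(A)` of finite injective dimension, then it is
of finite injective dimension. -/
lemma subsingleton_of_restrict (L : Dual.D A[X]) (a b : ℤ)
    (h : ∀ (M : Type u) [AddCommGroup M] [Module A M] (i : ℤ), (i < a ∨ b < i) →
      Subsingleton (Dual.inD A M ⟶ ((DRing.restrictD (algebraMap A A[X])).obj L)⟦i⟧))
    (M : Type u) [AddCommGroup M] [Module A[X] M] (i : ℤ) (hi : i < a ∨ b + 1 < i) :
    Subsingleton (Dual.inD A[X] M ⟶ L⟦i⟧) := by
  obtain ⟨f, g, w, hS⟩ := exists_shortExact (A := A) (ModuleCat.of A[X] M)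
  have key : ∀ (j : ℤ), (j < a ∨ b < j) → Subsingleton (Dual.inD A[X]
      ((ModuleCat.extendScalars.{u, u, u} (algebraMap A A[X])).obj
        ((ModuleCat.restrictScalars.{u} (algebraMap A A[X])).obj (ModuleCat.of A[X] M))) ⟶
      L⟦j⟧) := fun j hj => subsingleton_of_extend (flat_polynomial A) _ _ _ (h _ j hj)
  have hT := hS.singleTriangle_distinguished
  have key2 : ∀ x : Dual.inD A[X] M ⟶ L⟦i⟧, x = 0 := by
    intro x
    have h1 := key i (by omega)
    have h2 := key (i - 1) (by omega)
    obtain ⟨y, hy⟩ := Pretriangulated.Triangle.yoneda_exact₃ _ hT x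
      (Subsingleton.elim (α := Dual.inD A[X]
        ((ModuleCat.extendScalars.{u, u, u} (algebraMap A A[X])).obj
          ((ModuleCat.restrictScalars.{u} (algebraMap A A[X])).obj (ModuleCat.of A[X] M))) ⟶
            L⟦i⟧) _ _)
    have hy0 : y = 0 := by
      rw [← cancel_mono ((CategoryTheory.shiftFunctorAdd' (Dual.D A[X]) (i - 1) 1 i (by omega)).hom.app L)]
      obtain ⟨z, hz⟩ := (CategoryTheory.shiftFunctor (Dual.D A[X]) (1 : ℤ)).map_surjective
        (y ≫ (CategoryTheory.shiftFunctorAdd' (Dual.D A[X]) (i - 1) 1 i (by omega)).hom.app L)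
      have hz0 : z = 0 := Subsingleton.elim (α := Dual.inD A[X]
        ((ModuleCat.extendScalars.{u, u, u} (algebraMap A A[X])).obj
          ((ModuleCat.restrictScalars.{u} (algebraMap A A[X])).obj (ModuleCat.of A[X] M))) ⟶
            L⟦i - 1⟧) _ _
      rw [← hz, hz0, Functor.map_zero, Limits.zero_comp]
    rw [hy, hy0, Limits.comp_zero]
    rfl
  exact ⟨fun x y => by rw [key2 x, key2 y]⟩

/-- Finite injective dimension of `ω ⊗ A[X]`. -/
theorem subsingleton_LBaseChange [IsNoetherianRing A] [DRing.HasLBaseChange (algebraMap A A[X])]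
    (ω : Dual.D A) (a b : ℤ)
    (h : ∀ (M : Type u) [AddCommGroup M] [Module A M] (i : ℤ), (i < a ∨ b < i) →
      Subsingleton (Dual.inD A M ⟶ ω⟦i⟧))
    (M : Type u) [AddCommGroup M] [Module A[X] M] (i : ℤ) (hi : i < a ∨ b + 1 < i) :
    Subsingleton (Dual.inD A[X] M ⟶ ((DRing.LBaseChange (algebraMap A A[X])).obj ω)⟦i⟧) := by
  refine subsingleton_of_iso ((FlatLBC.LBaseChangeIso (algebraMap A A[X])
    (flat_polynomial A)).app ω) i ?_
  exact subsingleton_of_restrict _ a b
    (fun M _ _ i hi => subsingleton_restrict_flatBC ω a b h M i hi) M i hi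

end

end Groth.Agent.Cohder.PolyInj
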