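import Groth.Agent.LoccohB.HomBC2
import Groth.Agent.Cohder.PolyInj

/-!
# Flat base change of dualizing complexes, up to the finite injective dimension
-/

set_option autoImplicit false
universe u

open CategoryTheory CategoryTheory.Limits
open scoped TensorProduct

attribute [local instance] HasDerivedCategory.standard

namespace Groth.Agent.Cohder.PolyDual

open DerivedCategory Groth.Agent.LoccohB Groth.Agent.LoccohB.HomBC

variable {A : Type u} (B : Type u) [CommRing A] [CommRing B] [Algebra A B]
  (h : (algebraMap A B).Flat)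

/-- `ω ⊗ B` is dualizing as soon as it is of finite injective dimension. -/
theorem isDualizing_flatBC [IsNoetherianRing B] {ω : Dual.D A} (hω : Dual.IsDualizing A ω)
    (hinj : ∃ a b : ℤ, ∀ (M : Type u) [AddCommGroup M] [Module B M] (i : ℤ), (i < a ∨ b < i) →
      Subsingleton (Dual.inD B M ⟶ ((FlatLBC.flatBC (algebraMap A B) h).obj ω)⟦i⟧)) :
    Dual.IsDualizing B ((FlatLBC.flatBC (algebraMap A B) h).obj ω) := by
  have := hω.isNoetherianRing
  obtain ⟨a, b, ha, hb, -⟩ := exists_bounds_of_isDualizing hω
  refine ⟨inferInstance, hinj, fun i => ?_, ?_, fun i hi => ?_⟩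
  · have := hω.finite_cohomology i
    exact Module.Finite.equiv (flatHDEquiv B h ω i)
  · have h1 := bc_bijective_of_bounded B h ω a b hω.finite_cohomology ω a
    let e : A ≃ₗ[A] (ω ⟶ ω) := LinearEquiv.ofBijective
      (LinearMap.toSpanSingleton A (ω ⟶ ω) (𝟙 ω)) hω.toEnd_bijective
    have h2 := ((TensorProduct.rid A B).symm ≪≫ₗ
      TensorProduct.congr (LinearEquiv.refl A B) e).bijective
    convert h1.comp h2 using 1
    ext b
    simp [e]
  · have h1 := hω.ext_self_subsingleton i hi
    have h2 := homBCEquiv B h ω a b hω.finite_cohomology ω a i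
    exact h2.symm.injective.subsingleton

end Groth.Agent.Cohder.PolyDual
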