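import Mathlib.Algebra.Homology.Refinements
import Mathlib.Algebra.Homology.HomologicalComplexLimits
import Mathlib.Algebra.Homology.HomotopyCategory.KInjective
import Mathlib.CategoryTheory.Abelian.GrothendieckAxioms.Basic
import Mathlib.CategoryTheory.Limits.Preserves.Shapes.Products
import Mathlib.Algebra.Homology.QuasiIso

/-!
# Products of quasi-isomorphisms when products of shape `J` are exact,
and products of K-injective complexes
-/

set_option autoImplicit false
universe v u w
open CategoryTheory CategoryTheory.Limits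

namespace Groth.Agent.Cohder.ProdExact

variable {A : Type u} [Category.{v} A] [Abelian A]

section
variable {J : Type w} [HasLimitsOfShape (Discrete J) A] [HasExactLimitsOfShape (Discrete J) A]

lemma epi_pi_map {X Y : J → A} (p : ∀ j, X j ⟶ Y j) [∀ j, Epi (p j)] : Epi (Limits.Pi.map p) := by
  have h : Epi (Discrete.natTrans (fun j : Discrete J => p j.as) :
      Discrete.functor X ⟶ Discrete.functor Y) := by
    have : ∀ j : Discrete J, Epi ((Discrete.natTrans (fun j : Discrete J => p j.as) :
      Discrete.functor X ⟶ Discrete.functor Y).app j) := fun ⟨j⟩ => by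
        change Epi (p j)
        infer_instance
    exact NatTrans.epi_of_epi_app _
  exact inferInstanceAs (Epi (lim.map (Discrete.natTrans (fun j : Discrete J => p j.as) :
      Discrete.functor X ⟶ Discrete.functor Y)))

/-- A family of epimorphisms onto the same object has a common refinement when products
indexed by `J` are exact. -/
lemma exists_common_refinement {X : A} {E : J → A} (p : ∀ j, E j ⟶ X) (hp : ∀ j, Epi (p j)) :
    ∃ (Y : A) (q : Y ⟶ X) (_ : Epi q) (r : ∀ j, Y ⟶ E j), ∀ j, r j ≫ p j = q := by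
  have := epi_pi_map p
  refine ⟨pullback (Limits.Pi.map p) (Limits.Pi.lift (fun _ : J => 𝟙 X)),
    pullback.snd _ _, inferInstance, fun j => pullback.fst _ _ ≫ Pi.π _ j, fun j => ?_⟩
  have h := pullback.condition (f := Limits.Pi.map p) (g := Limits.Pi.lift (fun _ : J => 𝟙 X))
  have h' := h =≫ Pi.π _ j
  simpa using h'

variable {ι : Type*} {c : ComplexShape ι}

/-- A product of quasi-isomorphisms is a quasi-isomorphism when products are exact. -/
lemma quasiIso_of_isLimit_fan {K L : J → HomologicalComplex A c} (f : ∀ j, K j ⟶ L j)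
    (hf : ∀ j, QuasiIso (f j)) {P Q : HomologicalComplex A c}
    (p : ∀ j, P ⟶ K j) (hP : IsLimit (Fan.mk P p))
    (q : ∀ j, Q ⟶ L j) (hQ : IsLimit (Fan.mk Q q))
    (φ : P ⟶ Q) (hφ : ∀ j, φ ≫ q j = p j ≫ f j) : QuasiIso φ := by
  have hφi (i : ι) (j : J) : φ.f i ≫ (q j).f i = (p j).f i ≫ (f j).f i := by
    rw [← HomologicalComplex.comp_f, hφ, HomologicalComplex.comp_f]
  have hPi (i : ι) : IsLimit (Fan.mk (P.X i) (fun j => (p j).f i)) :=
    isLimitFanMkObjOfIsLimit (HomologicalComplex.eval A c i) _ _ hP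
  have hQi (i : ι) : IsLimit (Fan.mk (Q.X i) (fun j => (q j).f i)) :=
    isLimitFanMkObjOfIsLimit (HomologicalComplex.eval A c i) _ _ hQ
  rw [quasiIso_iff]
  intro i
  rw [quasiIsoAt_iff_isIso_homologyMap]
  have h1 : Mono (HomologicalComplex.homologyMap φ i) := by
    rw [HomologicalComplex.mono_homologyMap_iff_up_to_refinements φ _ i _ rfl rfl]
    intro X x₂ hx₂ y₁ hy₁
    have key : ∀ j, ∃ (A' : A) (π : A' ⟶ X) (_ : Epi π) (x₁ : A' ⟶ (K j).X (c.prev i)),
        π ≫ (x₂ ≫ (p j).f i) = x₁ ≫ (K j).d _ i := by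
      intro j
      have := hf j
      have : Mono (HomologicalComplex.homologyMap (f j) i) := inferInstance
      rw [HomologicalComplex.mono_homologyMap_iff_up_to_refinements (f j) _ i _ rfl rfl] at this
      refine this (x₂ ≫ (p j).f i) ?_ (y₁ ≫ (q j).f _) ?_
      · rw [Category.assoc, (p j).comm, reassoc_of% hx₂, zero_comp]
      · rw [Category.assoc, ← hφi, reassoc_of% hy₁, Category.assoc, (q j).comm]
    choose A' π hπ x₁ hx₁ using key
    obtain ⟨Y, r, hr, s, hs⟩ := exists_common_refinement π hπ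
    refine ⟨Y, r, hr, Fan.IsLimit.lift (hPi _) (fun j => s j ≫ x₁ j), ?_⟩
    refine Fan.IsLimit.hom_ext (hPi _) _ _ (fun j => ?_)
    change _ ≫ (p j).f i = _ ≫ (p j).f i
    rw [Category.assoc, Category.assoc, ← (p j).comm]
    have := Fan.IsLimit.fac (hPi (c.prev i)) (fun j => s j ≫ x₁ j) j
    dsimp at this
    rw [reassoc_of% this, ← hx₁, reassoc_of% (hs j)]
  have h2 : Epi (HomologicalComplex.homologyMap φ i) := by
    rw [HomologicalComplex.epi_homologyMap_iff_up_to_refinements φ _ i _ rfl rfl]
    intro X y₂ hy₂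
    have key : ∀ j, ∃ (A' : A) (π : A' ⟶ X) (_ : Epi π) (x₂ : A' ⟶ (K j).X i)
        (_ : x₂ ≫ (K j).d i (c.next i) = 0) (y₁ : A' ⟶ (L j).X (c.prev i)),
        π ≫ (y₂ ≫ (q j).f i) = x₂ ≫ (f j).f i + y₁ ≫ (L j).d _ i := by
      intro j
      have := hf j
      have : Epi (HomologicalComplex.homologyMap (f j) i) := inferInstance
      rw [HomologicalComplex.epi_homologyMap_iff_up_to_refinements (f j) _ i _ rfl rfl] at this
      refine this (y₂ ≫ (q j).f i) ?_
      rw [Category.assoc, (q j).comm, reassoc_of% hy₂, zero_comp]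
    choose A' π hπ x₂ hx₂ y₁ h using key
    obtain ⟨Y, r, hr, s, hs⟩ := exists_common_refinement π hπ
    refine ⟨Y, r, hr, Fan.IsLimit.lift (hPi _) (fun j => s j ≫ x₂ j), ?_,
      Fan.IsLimit.lift (hQi _) (fun j => s j ≫ y₁ j), ?_⟩
    · refine Fan.IsLimit.hom_ext (hPi _) _ _ (fun j => ?_)
      change _ ≫ (p j).f _ = _ ≫ (p j).f _
      rw [Category.assoc, ← (p j).comm]
      have := Fan.IsLimit.fac (hPi i) (fun j => s j ≫ x₂ j) j
      dsimp at this
      rw [reassoc_of% this, hx₂, comp_zero, zero_comp]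
    · refine Fan.IsLimit.hom_ext (hQi _) _ _ (fun j => ?_)
      change _ ≫ (q j).f _ = _ ≫ (q j).f _
      rw [Preadditive.add_comp, Category.assoc, Category.assoc, Category.assoc,
        ← (q j).comm, hφi]
      have e1 := Fan.IsLimit.fac (hPi i) (fun j => s j ≫ x₂ j) j
      have e2 := Fan.IsLimit.fac (hQi (c.prev i)) (fun j => s j ≫ y₁ j) j
      dsimp at e1 e2
      rw [reassoc_of% e1, reassoc_of% e2, ← Preadditive.comp_add, ← h, reassoc_of% (hs j)]
  exact isIso_of_mono_of_epi _

end

section KInj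

variable {J : Type w} {L : J → CochainComplex A ℤ}

/-- A product of K-injective complexes is K-injective (the product is assumed to be
computed termwise). -/
lemma isKInjective_of_isLimit_fan (hL : ∀ j, (L j).IsKInjective)
    {Q : CochainComplex A ℤ} (q : ∀ j, Q ⟶ L j)
    (hQi : ∀ i : ℤ, Nonempty (IsLimit (Fan.mk (Q.X i) (fun j => (q j).f i)))) :
    Q.IsKInjective where
  nonempty_homotopy_zero {K} f hK := by
    have h (j : J) : Homotopy (f ≫ q j) 0 :=
      CochainComplex.IsKInjective.homotopyZero (f ≫ q j) hK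
    let hQ' (i : ℤ) := (hQi i).some
    refine ⟨{ hom := fun i k => Fan.IsLimit.lift (hQ' k) (fun j => (h j).hom i k)
              zero := fun i k hik => ?_
              comm := fun i => ?_ }⟩
    · refine Fan.IsLimit.hom_ext (hQ' _) _ _ (fun j => ?_)
      have := Fan.IsLimit.fac (hQ' k) (fun j => (h j).hom i k) j
      rw [this, (h j).zero i k hik, zero_comp]
    · refine Fan.IsLimit.hom_ext (hQ' _) _ _ (fun j => ?_)
      change _ ≫ (q j).f _ = _ ≫ (q j).f _
      have e := (h j).comm i
      rw [dNext_eq _ (show (ComplexShape.up ℤ).Rel i (i + 1) by simp),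
        prevD_eq _ (show (ComplexShape.up ℤ).Rel (i - 1) i by simp)] at e ⊢
      simp only [HomologicalComplex.comp_f, HomologicalComplex.zero_f, add_zero,
        Preadditive.add_comp, Category.assoc] at e ⊢
      have e1 := Fan.IsLimit.fac (hQ' i) (fun j => (h j).hom (i + 1) i) j
      have e2 := Fan.IsLimit.fac (hQ' (i - 1)) (fun j => (h j).hom i (i - 1)) j
      dsimp at e1 e2
      rw [e1, ← (q j).comm, reassoc_of% e2, e]

end KInj

end Groth.Agent.Cohder.ProdExact
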