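import Mathlib.RingTheory.Length
import Mathlib.RingTheory.Ideal.KrullsHeightTheorem
import Mathlib.RingTheory.HopkinsLevitzki
import Mathlib.Algebra.Module.Torsion.Basic

/-!
# Algebra behind "the punctured spectrum of a local ring of dimension ≥ 2 is not affine"

Let `R` be a Noetherian local domain, `x, y` elements of the maximal ideal generating an
ideal primary to the maximal ideal, and suppose that `x` is not nilpotent modulo `y`. Then there is
`n` such that `(xy)^k = β x^(k+n) + γ y^(k+n)` never holds. (In other words `H²_m(R) ≠ 0`.)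
-/

set_option autoImplicit false

namespace Groth.Agent.Cohder.PunctAlg

open Module

section General

variable {R : Type*} [CommRing R]

lemma length_ker_eq {L : Type*} [AddCommGroup L] [Module R L] [IsArtinian R L]
    [IsNoetherian R L] (φ : L →ₗ[R] L) :
    Module.length R (LinearMap.ker φ) = Module.length R (L ⧸ LinearMap.range φ) := by
  have h1 := Module.length_eq_add_of_exact (LinearMap.ker φ).subtype φ.rangeRestrict
    (Submodule.subtype_injective _) φ.surjective_rangeRestrict (by
      rw [LinearMap.exact_iff, LinearMap.ker_rangeRestrict, Submodule.range_subtype])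
  have h2 := Module.length_eq_add_of_exact (LinearMap.range φ).subtype (LinearMap.range φ).mkQ
    (Submodule.subtype_injective _) (Submodule.mkQ_surjective _) (by
      rw [LinearMap.exact_iff, Submodule.ker_mkQ, Submodule.range_subtype])
  have h3 : Module.length R (LinearMap.range φ) ≠ ⊤ := Module.length_ne_top
  rw [h1, add_comm] at h2
  exact ENat.add_right_injective_of_ne_top h3 h2

lemma exists_pow_smul_eq_zero {M : Type*} [AddCommGroup M] [Module R M] [Module.Finite R M]
    (y : R) (h : ∀ m : M, ∃ k : ℕ, y ^ k • m = 0) : ∃ K : ℕ, ∀ m : M, y ^ K • m = 0 := by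
  obtain ⟨s, hs⟩ := Module.Finite.fg_top (R := R) (M := M)
  choose k hk using h
  refine ⟨s.sup k, fun m => ?_⟩
  have : (⊤ : Submodule R M) ≤ LinearMap.ker (LinearMap.lsmul R M (y ^ s.sup k)) := by
    rw [← hs, Submodule.span_le]
    intro m hm
    have hle : k m ≤ s.sup k := Finset.le_sup (f := k) hm
    simp only [SetLike.mem_coe, LinearMap.mem_ker, LinearMap.lsmul_apply]
    obtain ⟨j, hj⟩ := Nat.exists_eq_add_of_le hle
    rw [hj, add_comm, pow_add, mul_smul, hk, smul_zero]
  simpa using this (Submodule.mem_top (x := m))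

/-- The submodule of elements killed by a power of `y`. -/
def tors (M : Type*) [AddCommGroup M] [Module R M] (y : R) : Submodule R M where
  carrier := {m | ∃ k : ℕ, y ^ k • m = 0}
  zero_mem' := ⟨0, by simp⟩
  add_mem' := by
    rintro a b ⟨k, hk⟩ ⟨l, hl⟩
    refine ⟨k + l, ?_⟩
    have h1 : y ^ (k + l) • a = 0 := by rw [add_comm, pow_add, mul_smul, hk, smul_zero]
    have h2 : y ^ (k + l) • b = 0 := by rw [pow_add, mul_smul, hl, smul_zero]
    rw [smul_add, h1, h2, add_zero]
  smul_mem' := by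
    rintro r a ⟨k, hk⟩
    exact ⟨k, by rw [smul_comm, hk, smul_zero]⟩

lemma mem_tors {M : Type*} [AddCommGroup M] [Module R M] {y : R} {m : M} :
    m ∈ tors M y ↔ ∃ k : ℕ, y ^ k • m = 0 := Iff.rfl

end General

section Local

variable {R : Type*} [CommRing R] [IsNoetherianRing R] [IsLocalRing R]

lemma isArtinian_of_killed {x y : R}
    (hm : IsLocalRing.maximalIdeal R ≤ (Ideal.span {x, y}).radical)
    (M : Type*) [AddCommGroup M] [Module R M] [Module.Finite R M] (a b : ℕ)
    (ha : ∀ m : M, x ^ a • m = 0) (hb : ∀ m : M, y ^ b • m = 0) : IsArtinian R M := by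
  let I : Ideal R := Ideal.span {x ^ a, y ^ b}
  have hI : Module.IsTorsionBySet R M I := by
    rw [← Module.isTorsionBySet_iff_is_torsion_by_span]
    rintro m ⟨r, hr⟩
    rcases hr with rfl | rfl
    · exact ha m
    · exact hb m
  rcases subsingleton_or_nontrivial M with hM | hM
  · infer_instance
  have hItop : I ≠ ⊤ := by
    intro h
    obtain ⟨m, hm⟩ := exists_ne (0 : M)
    apply hm
    have := @hI m ⟨1, by rw [h]; trivial⟩
    simpa using this
  have hle : I ≤ IsLocalRing.maximalIdeal R := IsLocalRing.le_maximalIdeal hItop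
  have hmin : IsLocalRing.maximalIdeal R ∈ I.minimalPrimes := by
    refine ⟨⟨inferInstance, hle⟩, fun q hq _ => ?_⟩
    refine hm.trans ?_
    have hqp := hq.1
    rw [hqp.radical_le_iff, Ideal.span_le]
    have hx' : x ^ a ∈ q := hq.2 (Ideal.subset_span (by simp))
    have hy' : y ^ b ∈ q := hq.2 (Ideal.subset_span (by simp))
    rintro r (rfl | rfl)
    · exact hqp.mem_of_pow_mem _ hx'
    · exact hqp.mem_of_pow_mem _ hy'
  have := IsLocalRing.quotient_artinian_of_mem_minimalPrimes_of_isLocalRing I hmin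
  let _ := hI.module
  have : IsScalarTower R (R ⧸ I) M := hI.isScalarTower
  have : Module.Finite (R ⧸ I) M := Module.Finite.of_restrictScalars_finite R (R ⧸ I) M
  have : IsArtinian (R ⧸ I) M := inferInstance
  exact isArtinian_of_surjective_algebraMap (R := R ⧸ I) Ideal.Quotient.mk_surjective

end Local

section Domain

variable {R : Type*} [CommRing R] [IsDomain R] [IsNoetherianRing R] [IsLocalRing R]

/-- Multiplication by `b` as a map `R/a → R/(ab)`. -/
def mulQ (a b : R) : (R ⧸ Ideal.span {a}) →ₗ[R] (R ⧸ Ideal.span {a * b}) :=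
  Submodule.mapQ (Ideal.span {a}) (Ideal.span {a * b}) (LinearMap.lsmul R R b) (by
    rw [Ideal.span, Submodule.span_le]
    rintro r rfl
    simp only [Submodule.comap_coe, LinearMap.lsmul_apply, smul_eq_mul, Set.mem_preimage,
      SetLike.mem_coe]
    rw [mul_comm]
    exact Ideal.mem_span_singleton_self _)

omit [IsDomain R] [IsNoetherianRing R] [IsLocalRing R] in
lemma mulQ_mk (a b r : R) : mulQ a b (Ideal.Quotient.mk _ r) = Ideal.Quotient.mk _ (b * r) := rfl

omit [IsNoetherianRing R] [IsLocalRing R] in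
lemma mulQ_injective (a b : R) (hb : b ≠ 0) : Function.Injective (mulQ a b) := by
  rw [injective_iff_map_eq_zero]
  intro t ht
  obtain ⟨r, rfl⟩ := Ideal.Quotient.mk_surjective t
  rw [mulQ_mk, Ideal.Quotient.eq_zero_iff_mem, Ideal.mem_span_singleton] at ht
  rw [Ideal.Quotient.eq_zero_iff_mem, Ideal.mem_span_singleton]
  obtain ⟨c, hc⟩ := ht
  refine ⟨c, mul_left_cancel₀ hb ?_⟩
  rw [hc]; ring

omit [IsNoetherianRing R] [IsLocalRing R] in
/-- The module `T_y(R/x^N)` has multiplication by `y` with kernel embedding in `T_x(R/y)`. -/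
lemma length_ker_le {x y : R} (hx : x ≠ 0) (hy : y ≠ 0) (N : ℕ) :
    Module.length R (LinearMap.ker
      (LinearMap.lsmul R (tors (R ⧸ Ideal.span {x ^ N}) y) y)) ≤
    Module.length R (tors (R ⧸ Ideal.span {y}) x) := by
  let T := tors (R ⧸ Ideal.span {x ^ N}) y
  let j₁ := mulQ (x ^ N) y ∘ₗ T.subtype
  have hj₁ : Function.Injective j₁ :=
    (mulQ_injective (x ^ N) y hy).comp (Submodule.subtype_injective T)
  let e : (R ⧸ Ideal.span {y * x ^ N}) ≃ₗ[R] (R ⧸ Ideal.span {x ^ N * y}) :=
    Submodule.quotEquivOfEq _ _ (by rw [mul_comm])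
  let j₂ := e.toLinearMap ∘ₗ mulQ y (x ^ N)
  have hj₂ : Function.Injective j₂ :=
    e.injective.comp (mulQ_injective y (x ^ N) (pow_ne_zero _ hx))
  have h1 : Submodule.map j₁ (LinearMap.ker (LinearMap.lsmul R T y)) ≤
      Submodule.map j₂ (tors (R ⧸ Ideal.span {y}) x) := by
    rintro _ ⟨⟨t, ht⟩, hty, rfl⟩
    obtain ⟨r, rfl⟩ := Ideal.Quotient.mk_surjective t
    have h2 : y • (Ideal.Quotient.mk (Ideal.span {x ^ N}) r) = 0 := congrArg Subtype.val hty
    have h3 : Ideal.Quotient.mk (Ideal.span {x ^ N}) (y * r) = 0 := h2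
    rw [Ideal.Quotient.eq_zero_iff_mem, Ideal.mem_span_singleton] at h3
    obtain ⟨c, hc⟩ := h3
    refine ⟨Ideal.Quotient.mk _ c, ⟨N, ?_⟩, ?_⟩
    · change Ideal.Quotient.mk _ (x ^ N * c) = 0
      rw [← hc, Ideal.Quotient.eq_zero_iff_mem]
      exact Ideal.mul_mem_right _ _ (Ideal.mem_span_singleton_self _)
    · change Ideal.Quotient.mk (Ideal.span {x ^ N * y}) (x ^ N * c) =
        Ideal.Quotient.mk (Ideal.span {x ^ N * y}) (y * r)
      rw [hc]
  rw [(Submodule.equivMapOfInjective j₁ hj₁ (LinearMap.ker (LinearMap.lsmul R T y))).length_eq,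
    (Submodule.equivMapOfInjective j₂ hj₂ (tors (R ⧸ Ideal.span {y}) x)).length_eq]
  exact Module.length_le_of_injective (Submodule.inclusion h1) (Submodule.inclusion_injective h1)

omit [IsDomain R] [IsNoetherianRing R] [IsLocalRing R] in
/-- Strictly decreasing chain of submodules gives a lower bound on the length. -/
lemma le_length_of_chain {M : Type*} [AddCommGroup M] [Module R M] [IsArtinian R M]
    [IsNoetherian R M] (F : ℕ → Submodule R M) (n : ℕ) (hF : ∀ i < n, F (i + 1) < F i) :
    (n : ℕ∞) ≤ Module.length R (F 0) := by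
  suffices h : ∀ i j : ℕ, j + i = n → (i : ℕ∞) ≤ Module.length R (F j) from h n 0 (by simp)
  intro i
  induction i with
  | zero => simp
  | succ i ih =>
    intro j hj
    have h1 := ih (j + 1) (by lia)
    have h2 := hF j (by lia)
    rw [Module.length_submodule] at h1 ⊢
    have h3 := Submodule.height_strictMono h2
    rw [Nat.cast_succ]
    exact Order.add_one_le_of_lt (lt_of_le_of_lt h1 h3)

/-- Non-vanishing of the top local cohomology in dimension two, in elementary terms. -/
theorem exists_forall_ne {x y : R} (hx : x ∈ IsLocalRing.maximalIdeal R)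
    (hy0 : y ≠ 0)
    (hm : IsLocalRing.maximalIdeal R ≤ (Ideal.span {x, y}).radical)
    (hxy : ∀ a : ℕ, x ^ a ∉ Ideal.span {y}) :
    ∃ n : ℕ, ∀ (k : ℕ) (β γ : R), (x * y) ^ k ≠ β * x ^ (k + n) + γ * y ^ (k + n) := by
  have hx0 : x ≠ 0 := by
    rintro rfl
    exact hxy 1 (by simp)
  -- the bounded length
  let Γ := tors (R ⧸ Ideal.span {y}) x
  obtain ⟨K, hK⟩ := exists_pow_smul_eq_zero (M := Γ) x (fun ⟨m, k, hk⟩ => ⟨k, Subtype.ext hk⟩)
  have hΓart : IsArtinian R Γ := isArtinian_of_killed hm Γ K 1 hK (fun ⟨m, hm⟩ => by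
    apply Subtype.ext
    obtain ⟨r, rfl⟩ := Ideal.Quotient.mk_surjective m
    change Ideal.Quotient.mk _ (y ^ 1 * r) = 0
    rw [Ideal.Quotient.eq_zero_iff_mem, pow_one]
    exact Ideal.mul_mem_right _ _ (Ideal.mem_span_singleton_self _))
  have hΓ : Module.length R Γ ≠ ⊤ := Module.length_ne_top
  obtain ⟨c, hc⟩ := ENat.ne_top_iff_exists.1 hΓ
  refine ⟨c + 1, fun k β γ heq => ?_⟩
  set N := k + (c + 1) with hN
  let T := tors (R ⧸ Ideal.span {x ^ N}) y
  obtain ⟨K', hK'⟩ := exists_pow_smul_eq_zero (M := T) y (fun ⟨m, k, hk⟩ => ⟨k, Subtype.ext hk⟩)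
  have hTart : IsArtinian R T := isArtinian_of_killed hm T N K' (fun ⟨m, hm⟩ => by
    apply Subtype.ext
    obtain ⟨r, rfl⟩ := Ideal.Quotient.mk_surjective m
    change Ideal.Quotient.mk _ (x ^ N * r) = 0
    rw [Ideal.Quotient.eq_zero_iff_mem]
    exact Ideal.mul_mem_right _ _ (Ideal.mem_span_singleton_self _)) hK'
  let φ := LinearMap.lsmul R T y
  have hφ := length_ker_eq φ
  have hker := length_ker_le hx0 hy0 N
  -- Q = R/(x^N, y)
  let I : Ideal R := Ideal.span {x ^ N, y}
  let Q := R ⧸ I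
  have hQart : IsArtinian R Q := isArtinian_of_killed hm Q N 1 (fun m => by
    obtain ⟨r, rfl⟩ := Ideal.Quotient.mk_surjective m
    change Ideal.Quotient.mk _ (x ^ N * r) = 0
    rw [Ideal.Quotient.eq_zero_iff_mem]
    exact Ideal.mul_mem_right _ _ (Ideal.subset_span (by simp))) (fun m => by
    obtain ⟨r, rfl⟩ := Ideal.Quotient.mk_surjective m
    change Ideal.Quotient.mk _ (y ^ 1 * r) = 0
    rw [Ideal.Quotient.eq_zero_iff_mem, pow_one]
    exact Ideal.mul_mem_right _ _ (Ideal.subset_span (by simp)))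
  let p : (R ⧸ Ideal.span {x ^ N}) →ₗ[R] Q := Submodule.factor (Ideal.span_mono (by simp))
  let q : T →ₗ[R] Q := p ∘ₗ T.subtype
  have hkq : LinearMap.ker q = LinearMap.range φ := by
    ext ⟨t, ht⟩
    obtain ⟨r, rfl⟩ := Ideal.Quotient.mk_surjective t
    constructor
    · intro h
      have h' : Ideal.Quotient.mk I r = 0 := h
      rw [Ideal.Quotient.eq_zero_iff_mem, Ideal.mem_span_pair] at h'
      obtain ⟨a, b, hab⟩ := h'
      have h1 : (Ideal.Quotient.mk (Ideal.span {x ^ N}) r) =
          y • Ideal.Quotient.mk (Ideal.span {x ^ N}) b := by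
        change _ = Ideal.Quotient.mk _ (y * b)
        rw [Ideal.Quotient.eq, Ideal.mem_span_singleton]
        exact ⟨a, by rw [← hab]; ring⟩
      obtain ⟨l, hl⟩ := ht
      have hb : Ideal.Quotient.mk (Ideal.span {x ^ N}) b ∈ T := by
        refine ⟨l + 1, ?_⟩
        rw [pow_succ, mul_smul, ← h1, hl]
      exact ⟨⟨_, hb⟩, Subtype.ext h1.symm⟩
    · rintro ⟨⟨t', ht'⟩, h⟩
      obtain ⟨r', rfl⟩ := Ideal.Quotient.mk_surjective t'
      have h1 : y • Ideal.Quotient.mk (Ideal.span {x ^ N}) r' =
        Ideal.Quotient.mk (Ideal.span {x ^ N}) r := congrArg Subtype.val h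
      change Ideal.Quotient.mk I r = 0
      have h2 : Ideal.Quotient.mk (Ideal.span {x ^ N}) (y * r') =
        Ideal.Quotient.mk (Ideal.span {x ^ N}) r := h1
      rw [Ideal.Quotient.eq, Ideal.mem_span_singleton] at h2
      obtain ⟨d, hd⟩ := h2
      rw [Ideal.Quotient.eq_zero_iff_mem, Ideal.mem_span_pair]
      exact ⟨-d, r', by linear_combination hd⟩
  have hlen : Module.length R (T ⧸ LinearMap.range φ) = Module.length R (LinearMap.range q) := by
    rw [← hkq]
    exact q.quotKerEquivRange.length_eq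
  let F : ℕ → Submodule R Q := fun i => Submodule.span R {Ideal.Quotient.mk I (x ^ (k + i))}
  have hF0 : F 0 ≤ LinearMap.range q := by
    rw [Submodule.span_le]
    rintro _ rfl
    have hj : Ideal.Quotient.mk (Ideal.span {x ^ N}) (x ^ k - γ * y ^ (c + 1)) ∈ T := by
      refine ⟨k, ?_⟩
      change Ideal.Quotient.mk _ (y ^ k * (x ^ k - γ * y ^ (c + 1))) = 0
      rw [Ideal.Quotient.eq_zero_iff_mem, Ideal.mem_span_singleton]
      refine ⟨β, ?_⟩
      rw [hN]
      have : y ^ (k + (c + 1)) = y ^ k * y ^ (c + 1) := pow_add _ _ _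
      rw [this] at heq
      rw [mul_pow] at heq
      linear_combination heq
    refine ⟨⟨_, hj⟩, ?_⟩
    change Ideal.Quotient.mk I (x ^ k - γ * y ^ (c + 1)) = Ideal.Quotient.mk I (x ^ (k + 0))
    rw [Ideal.Quotient.eq, Ideal.mem_span_pair]
    exact ⟨0, - γ * y ^ c, by rw [add_zero]; ring⟩
  have hunit : ∀ {z : R}, z ∈ IsLocalRing.maximalIdeal R → IsUnit (1 - z) := by
    intro z hz
    by_contra h
    have h' : 1 - z ∈ IsLocalRing.maximalIdeal R := (IsLocalRing.mem_maximalIdeal _).2 h
    have := Ideal.add_mem _ h' hz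
    rw [sub_add_cancel] at this
    exact (Ideal.ne_top_iff_one _).1 (IsLocalRing.maximalIdeal.isMaximal R).ne_top this
  have hchain : ∀ i < c + 1, F (i + 1) < F i := by
    intro i hi
    rw [lt_iff_le_and_ne]
    constructor
    · rw [Submodule.span_le]
      rintro _ rfl
      rw [SetLike.mem_coe, Submodule.mem_span_singleton]
      refine ⟨x, ?_⟩
      change Ideal.Quotient.mk I (x * x ^ (k + i)) = _
      congr 1
      ring
    · intro h
      have h1 : Ideal.Quotient.mk I (x ^ (k + i)) ∈ F (i + 1) := by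
        rw [h]
        exact Submodule.mem_span_singleton_self _
      rw [Submodule.mem_span_singleton] at h1
      obtain ⟨r, hr⟩ := h1
      have h2 : Ideal.Quotient.mk I (r * x ^ (k + (i + 1))) = Ideal.Quotient.mk I (x ^ (k + i)) :=
        hr
      rw [Ideal.Quotient.eq, Ideal.mem_span_pair] at h2
      obtain ⟨a, b, hab⟩ := h2
      obtain ⟨d, hd⟩ := Nat.exists_eq_add_of_lt (show k + i < N by lia)
      -- N = k + i + d + 1
      have h3 : x ^ (k + i) * (1 - x * (r - a * x ^ d)) = y * (-b) := by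
        rw [hd] at hab
        have e1 : x ^ (k + (i + 1)) = x ^ (k + i) * x := by ring
        have e2 : x ^ (k + i + d + 1) = x ^ (k + i) * x ^ d * x := by ring
        rw [e1, e2] at hab
        linear_combination hab
      obtain ⟨u, hu⟩ := hunit (Ideal.mul_mem_right (r - a * x ^ d) _ hx)
      apply hxy (k + i)
      rw [Ideal.mem_span_singleton]
      refine ⟨-b * ((u⁻¹ : Rˣ) : R), ?_⟩
      have h4 : x ^ (k + i) = x ^ (k + i) * (u : R) * ((u⁻¹ : Rˣ) : R) := by simp
      rw [h4, hu, h3]
      ring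
  have h1 := le_length_of_chain F (c + 1) hchain
  have h2 := Module.length_le_of_injective (Submodule.inclusion hF0)
    (Submodule.inclusion_injective hF0)
  have h3 : ((c + 1 : ℕ) : ℕ∞) ≤ (c : ℕ∞) := by
    calc ((c + 1 : ℕ) : ℕ∞) ≤ _ := h1
      _ ≤ _ := h2
      _ = _ := hlen.symm
      _ = _ := hφ.symm
      _ ≤ _ := hker
      _ = c := hc.symm
  have h4 := ENat.natCast_le_natCast.1 h3
  lia

end Domain

end Groth.Agent.Cohder.PunctAlg
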