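import Groth.Agent.Cohder.PunctAlg
import Mathlib.RingTheory.KrullDimension.Basic
import Mathlib.RingTheory.Ideal.MinimalPrime.Noetherian

/-!
# Reduction to two-dimensional local domains

* `exists_params`: parameters `x, y` in a two-dimensional Noetherian local domain
* `exists_prime_dim_two`: a Noetherian local ring of dimension `≥ 2` has a two-dimensional quotient
  domain.
* `exists_quotient_params`: combination.
-/

set_option autoImplicit false

namespace Groth.Agent.Cohder.PunctDim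

open IsLocalRing

lemma finite_minimalPrimes {R : Type*} [CommRing R] [IsNoetherianRing R] (I : Ideal R) :
    I.minimalPrimes.Finite := Ideal.finite_minimalPrimes_of_isNoetherianRing R I

lemma exists_params {R : Type*} [CommRing R] [IsDomain R] [IsNoetherianRing R] [IsLocalRing R]
    (h1 : ∃ q : Ideal R, q.IsPrime ∧ q ≠ ⊥ ∧ q ≠ maximalIdeal R)
    (h2 : ∀ P Q : Ideal R, P.IsPrime → Q.IsPrime → P ≠ ⊥ → P < Q → Q = maximalIdeal R) :
    ∃ x y : R, x ∈ maximalIdeal R ∧ y ≠ 0 ∧ maximalIdeal R ≤ (Ideal.span {x, y}).radical ∧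
      ∀ a : ℕ, x ^ a ∉ Ideal.span {y} := by
  obtain ⟨q, hq, hq0, hqm⟩ := h1
  obtain ⟨x, hxq, hx0⟩ := Submodule.exists_mem_ne_zero_of_ne_bot hq0
  have hxm : x ∈ maximalIdeal R := le_maximalIdeal hq.ne_top hxq
  have hmin : ∀ P ∈ (Ideal.span {x}).minimalPrimes, P ≠ maximalIdeal R := by
    intro P hP hPm
    have h3 : P ≤ q := by
      have : q ≤ P := by rw [hPm]; exact le_maximalIdeal hq.ne_top
      exact hP.2 ⟨hq, by rwa [Ideal.span_singleton_le_iff_mem]⟩ this
    rw [hPm] at h3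
    exact hqm (le_antisymm (le_maximalIdeal hq.ne_top) h3)
  have havoid : ¬ ((maximalIdeal R : Set R) ⊆ ⋃ P ∈ (Ideal.span {x}).minimalPrimes, (P : Set R)) := by
    intro hsub
    obtain ⟨P, hP, hle⟩ := (Ideal.subset_union_prime_finite
      (finite_minimalPrimes (Ideal.span {x})) (f := fun P => P) ⊥ ⊥
      (fun P hP _ _ => hP.1.1)).1 hsub
    exact hmin P hP (le_antisymm (le_maximalIdeal hP.1.1.ne_top) hle)
  rw [Set.not_subset] at havoid
  obtain ⟨y, hym, hyP⟩ := havoid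
  simp only [Set.mem_iUnion, not_exists] at hyP
  have hne : (Ideal.span {x} : Ideal R) ≠ ⊤ := by
    intro h
    rw [Ideal.span_singleton_eq_top] at h
    exact hxm h
  have hy0 : y ≠ 0 := by
    rintro rfl
    obtain ⟨P, hP, -⟩ := Ideal.exists_minimalPrimes_le (le_maximalIdeal hne)
    exact hyP P hP P.zero_mem
  refine ⟨x, y, hxm, hy0, ?_, ?_⟩
  · rw [Ideal.radical_eq_sInf]
    apply le_sInf
    rintro Q ⟨hQ, hQp⟩
    have hxQ : x ∈ Q := hQ (Ideal.subset_span (by simp))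
    have hyQ : y ∈ Q := hQ (Ideal.subset_span (by simp))
    obtain ⟨P, hP, hPQ⟩ := Ideal.exists_minimalPrimes_le
      (show Ideal.span {x} ≤ Q by rwa [Ideal.span_singleton_le_iff_mem])
    have hPx : x ∈ P := hP.1.2 (Ideal.mem_span_singleton_self x)
    have hPQ' : P < Q := lt_of_le_of_ne hPQ (by
      rintro rfl
      exact hyP P hP hyQ)
    have hP0 : P ≠ ⊥ := by
      rintro rfl
      exact hx0 hPx
    exact (h2 P Q hP.1.1 hQp hP0 hPQ').ge
  · intro a ha
    have hmy : maximalIdeal R ∈ (Ideal.span {y}).minimalPrimes := by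
      refine ⟨⟨inferInstance, by rwa [Ideal.span_singleton_le_iff_mem]⟩, fun Q hQ _ => ?_⟩
      have hQp := hQ.1
      have hyQ : y ∈ Q := hQ.2 (Ideal.mem_span_singleton_self y)
      have hxQ : x ∈ Q := hQp.mem_of_pow_mem a (hQ.2 ha)
      obtain ⟨P, hP, hPQ⟩ := Ideal.exists_minimalPrimes_le
        (show Ideal.span {x} ≤ Q by rwa [Ideal.span_singleton_le_iff_mem])
      have hPx : x ∈ P := hP.1.2 (Ideal.mem_span_singleton_self x)
      have hPQ' : P < Q := lt_of_le_of_ne hPQ (by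
        rintro rfl
        exact hyP P hP hyQ)
      have hP0 : P ≠ ⊥ := by
        rintro rfl
        exact hx0 hPx
      exact (h2 P Q hP.1.1 hQp hP0 hPQ').ge
    have hht := Ideal.height_le_one_of_isPrincipal_of_mem_minimalPrimes (Ideal.span {y})
      (maximalIdeal R) hmy
    have h3 : q < maximalIdeal R := lt_of_le_of_ne (le_maximalIdeal hq.ne_top) hqm
    have h4 : (⊥ : Ideal R) < q := bot_lt_iff_ne_bot.2 hq0
    have h5 := Ideal.height_add_one_le_of_lt_of_isPrime h3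
    have h6 := Ideal.height_add_one_le_of_lt_of_isPrime h4
    rw [Ideal.height_bot, zero_add] at h6
    have h7 : (2 : ℕ∞) ≤ 1 := by
      calc (2 : ℕ∞) = 1 + 1 := by norm_num
        _ ≤ q.height + 1 := by gcongr
        _ ≤ _ := h5
        _ ≤ 1 := hht
    exact absurd h7 (by norm_num)

lemma exists_prime_dim_two {A : Type*} [CommRing A] [IsNoetherianRing A] [IsLocalRing A]
    (hA : 2 ≤ ringKrullDim A) :
    ∃ p : Ideal A, p.IsPrime ∧
      (∃ q : Ideal A, q.IsPrime ∧ p < q ∧ q < maximalIdeal A) ∧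
      (∀ P Q : Ideal A, P.IsPrime → Q.IsPrime → p < P → P < Q → Q = maximalIdeal A) := by
  let S : Set (Ideal A) := {p | p.IsPrime ∧ ∃ q : Ideal A, q.IsPrime ∧ p < q ∧ q < maximalIdeal A}
  have hS : S.Nonempty := by
    rw [ringKrullDim, show (2 : WithBot ℕ∞) = ((2 : ℕ) : WithBot ℕ∞) from rfl,
      Order.le_krullDim_iff] at hA
    obtain ⟨l, hl⟩ := hA
    refine ⟨(l ⟨0, by lia⟩).asIdeal, (l ⟨0, by lia⟩).2, (l ⟨1, by lia⟩).asIdeal,
      (l ⟨1, by lia⟩).2, ?_, ?_⟩
    · exact l.strictMono (a := ⟨0, by lia⟩) (b := ⟨1, by lia⟩) (Fin.mk_lt_mk.2 (by lia))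
    · refine lt_of_lt_of_le (b := (l ⟨2, by lia⟩).asIdeal) ?_
        (le_maximalIdeal (l ⟨2, by lia⟩).2.ne_top)
      exact l.strictMono (a := ⟨1, by lia⟩) (b := ⟨2, by lia⟩) (Fin.mk_lt_mk.2 (by lia))
  obtain ⟨p, hpS, hpmax⟩ := set_has_maximal_iff_noetherian.2 ‹IsNoetherianRing A› S hS
  refine ⟨p, hpS.1, hpS.2, fun P Q hP hQ hpP hPQ => ?_⟩
  by_contra hQm
  exact hpmax P ⟨hP, Q, hQ, hPQ, lt_of_le_of_ne (le_maximalIdeal hQ.ne_top) hQm⟩ hpP

/-- A Noetherian local ring of dimension `≥ 2` has a quotient domain with parameters `x, y`. -/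
theorem exists_quotient_params {A : Type*} [CommRing A] [IsNoetherianRing A] [IsLocalRing A]
    (hA : 2 ≤ ringKrullDim A) :
    ∃ p : Ideal A, p.IsPrime ∧ ∀ [IsLocalRing (A ⧸ p)],
      ∃ x y : A ⧸ p, x ∈ maximalIdeal (A ⧸ p) ∧ y ≠ 0 ∧
        maximalIdeal (A ⧸ p) ≤ (Ideal.span {x, y}).radical ∧
        ∀ a : ℕ, x ^ a ∉ Ideal.span {y} := by
  obtain ⟨p, hp, ⟨q, hq, hpq, hqm⟩, h2⟩ := exists_prime_dim_two hA
  refine ⟨p, hp, fun {_} => ?_⟩
  have hcomap : (maximalIdeal (A ⧸ p)).comap (Ideal.Quotient.mk p) = maximalIdeal A :=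
    ((IsLocalRing.local_hom_TFAE (Ideal.Quotient.mk p)).out 0 4).1
      (IsLocalHom.of_surjective _ Ideal.Quotient.mk_surjective)
  apply exists_params
  · refine ⟨q.map (Ideal.Quotient.mk p), ?_, ?_, ?_⟩
    · exact Ideal.map_isPrime_of_surjective Ideal.Quotient.mk_surjective (by
        rw [Ideal.mk_ker]; exact hpq.le)
    · intro h
      rw [Ideal.map_eq_bot_iff_le_ker, Ideal.mk_ker] at h
      exact hpq.not_ge h
    · intro h
      have := congrArg (Ideal.comap (Ideal.Quotient.mk p)) h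
      rw [Ideal.comap_map_of_surjective' _ Ideal.Quotient.mk_surjective, Ideal.mk_ker,
        sup_eq_left.2 hpq.le, hcomap] at this
      exact hqm.ne this
  · intro P Q hP hQ hP0 hPQ
    have hmono : ∀ {I J : Ideal (A ⧸ p)}, I < J →
        I.comap (Ideal.Quotient.mk p) < J.comap (Ideal.Quotient.mk p) := fun {I J} hIJ =>
      lt_of_le_of_ne (Ideal.comap_mono hIJ.le) (fun h => hIJ.ne
        (Ideal.comap_injective_of_surjective _ Ideal.Quotient.mk_surjective h))
    have h3 : p < P.comap (Ideal.Quotient.mk p) := by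
      have := hmono (bot_lt_iff_ne_bot.2 hP0)
      rwa [← RingHom.ker_eq_comap_bot, Ideal.mk_ker] at this
    have h4 := h2 _ _ (Ideal.IsPrime.comap _) (Ideal.IsPrime.comap _) h3 (hmono hPQ)
    apply Ideal.comap_injective_of_surjective (Ideal.Quotient.mk p) Ideal.Quotient.mk_surjective
    rw [h4, hcomap]

end Groth.Agent.Cohder.PunctDim
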