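import Groth.Agent.Cohder.RDUnbdd
import Mathlib.Algebra.Homology.DerivedCategory.RightDerivedFunctorPlus

/-!
# Leray's acyclicity lemma for the bounded below right derived functor
-/

set_option autoImplicit false

universe w w' v v' u u'

open CategoryTheory Category Limits HomologicalComplex CochainComplex

namespace Groth.Agent.Cohder.RDPlusAcyc

open RDAcyc

/-- `F` preserves quasi-isomorphisms between bounded below complexes of `F`-acyclic objects. -/
lemma quasiIso_map {C : Type u} [Category.{v} C] [Abelian C] [HasInjectiveResolutions C]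
    {D : Type u'} [Category.{v'} D] [Abelian D] (F : C ⥤ D) [F.Additive] [PreservesFiniteLimits F]
    {K L : CochainComplex C ℤ} (f : K ⟶ L) [QuasiIso f] (n₁ n₂ : ℤ) [K.IsStrictlyGE n₁]
    [L.IsStrictlyGE n₂] (hK : ∀ p, IsAcyc F (K.X p)) (hL : ∀ p, IsAcyc F (L.X p)) :
    QuasiIso ((F.mapHomologicalComplex (ComplexShape.up ℤ)).map f) := by
  rw [← CoconeSES.acyclic_mappingCone_iff]
  have h1 : (mappingCone f).Acyclic := (CoconeSES.acyclic_mappingCone_iff f).2 inferInstance
  have := CochainComplex.isStrictlyGE_mappingCone f n₁ n₂ (min (n₁ - 1) n₂) (by lia) (by lia)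
  have h2 := acyclic_map_of_bounded F (min (n₁ - 1) n₂) h1 (fun p => RDUnbdd.isAcyc_of_iso F
    (HomologicalComplex.homotopyCofiber.XIsoBiprod f p (p + 1) rfl).symm
      (RDUnbdd.isAcyc_biprod F (hK _) (hL _)))
  intro p
  exact (h2 p).of_iso (mappingCone.mapHomologicalComplexIso f F)

/-- Leray's acyclicity lemma. -/
theorem isIso_unit_app {C : Type u} [Category.{v} C] [Abelian C] [HasDerivedCategory.{w} C]
    [EnoughInjectives C]
    {D : Type u'} [Category.{v'} D] [Abelian D] [HasDerivedCategory.{w'} D]
    (F : C ⥤ D) [F.Additive] [PreservesFiniteLimits F] (K : CochainComplex.Plus C)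
    (hK : ∀ (m : ℤ) (i : ℕ), 0 < i → IsZero ((F.rightDerived i).obj (K.obj.X m))) :
    IsIso (F.rightDerivedFunctorPlusUnit.app ((HomotopyCategory.Plus.quotient C).obj K)) := by
  obtain ⟨n, hn⟩ := K.property
  obtain ⟨L, hL, i, hi⟩ := CochainComplex.Plus.exists_quasiIso_injective K n
  let L' := (InjectiveObject.ι C).mapCochainComplexPlus.obj L
  have hi' : QuasiIso i.hom := hi
  have hL' : L'.obj.IsStrictlyGE n := by
    have := hL
    exact inferInstanceAs (CochainComplex.IsStrictlyGE
      (((InjectiveObject.ι C).mapHomologicalComplex (.up ℤ)).obj L.obj) n)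
  have h1 : QuasiIso ((F.mapHomologicalComplex (ComplexShape.up ℤ)).map i.hom) :=
    quasiIso_map F i.hom n n hK (fun p => by
      have : Injective (L'.obj.X p) := (L.obj.X p).property
      exact isAcyc_injective F _)
  let α := F.rightDerivedFunctorPlusUnit
  have h2 := α.naturality ((HomotopyCategory.Plus.quotient C).map i)
  have h3 : IsIso (α.app ((HomotopyCategory.Plus.quotient C).obj L')) :=
    inferInstanceAs (IsIso (F.rightDerivedFunctorPlusUnit.app
      ((InjectiveObject.ι C).mapHomotopyCategoryPlus.obj
        ((HomotopyCategory.Plus.quotient _).obj L))))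
  have h4 : IsIso ((F.mapHomotopyCategoryPlus ⋙ DerivedCategory.Plus.Qh).map
      ((HomotopyCategory.Plus.quotient C).map i)) := by
    have h5 : HomotopyCategory.Plus.quasiIso D (F.mapHomotopyCategoryPlus.map
        ((HomotopyCategory.Plus.quotient C).map i)) := by
      have h6 : HomotopyCategory.quasiIso D (ComplexShape.up ℤ)
        ((F.mapHomotopyCategory (ComplexShape.up ℤ)).map
          ((HomotopyCategory.quotient _ _).map i.hom)) :=
        (HomotopyCategory.quotient_map_mem_quasiIso_iff
          ((F.mapHomologicalComplex (ComplexShape.up ℤ)).map i.hom)).2 h1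
      exact h6
    exact Localization.inverts DerivedCategory.Plus.Qh (HomotopyCategory.Plus.quasiIso D) _ h5
  have h5 : IsIso ((DerivedCategory.Plus.Qh ⋙ F.rightDerivedFunctorPlus).map
      ((HomotopyCategory.Plus.quotient C).map i)) := by
    have h6 : HomotopyCategory.Plus.quasiIso C ((HomotopyCategory.Plus.quotient C).map i) :=
      (HomotopyCategory.quotient_map_mem_quasiIso_iff i.hom).2 hi'
    have := Localization.inverts DerivedCategory.Plus.Qh (HomotopyCategory.Plus.quasiIso C) _ h6
    rw [Functor.comp_map]
    infer_instance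
  have h6 : IsIso (α.app ((HomotopyCategory.Plus.quotient C).obj K) ≫
      (DerivedCategory.Plus.Qh ⋙ F.rightDerivedFunctorPlus).map
      ((HomotopyCategory.Plus.quotient C).map i)) := by
    rw [← h2]
    infer_instance
  exact IsIso.of_isIso_comp_right _ ((DerivedCategory.Plus.Qh ⋙ F.rightDerivedFunctorPlus).map
      ((HomotopyCategory.Plus.quotient C).map i))

end Groth.Agent.Cohder.RDPlusAcyc
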