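import Groth.Agent.Cohder.RDAcyc
import Groth.Agent.Cohder.CoconeSES
import Groth.Agent.Cohder.DerivCalc

/-!
# Unbounded right derived functors of functors of finite cohomological dimension
(Stacks 07K7)
-/

set_option autoImplicit false

universe w w' v v' u u'

open CategoryTheory Category Limits HomologicalComplex CochainComplex ZeroObject

namespace Groth.Agent.Cohder.RDUnbdd

variable {C : Type u} [Category.{v} C] [Abelian C] [HasInjectiveResolutions C]
variable {D : Type u'} [Category.{v'} D] [Abelian D] (F : C ⥤ D) [F.Additive]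

open RDAcyc

omit [HasInjectiveResolutions C] in
lemma injective_biprod {X Y : C} (_ : Injective X) (_ : Injective Y) : Injective (X ⊞ Y) :=
  inferInstance

omit [HasInjectiveResolutions C] in
/-- Any complex embeds in a complex with injective terms. -/
lemma exists_mono_injective [EnoughInjectives C] (K : CochainComplex C ℤ) :
    ∃ (I : CochainComplex C ℤ) (i : K ⟶ I), Mono i ∧ ∀ p, Injective (I.X p) := by
  refine ⟨mappingCone (𝟙 (cm5b.I K)) ⊞ 0, cm5b.i (0 : K ⟶ 0), inferInstance, fun p => ?_⟩
  have h1 : Injective ((mappingCone (𝟙 (cm5b.I K))).X p) := inferInstance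
  have h2 : Injective ((0 : CochainComplex C ℤ).X p) :=
    ((HomologicalComplex.eval C (ComplexShape.up ℤ) p).map_isZero (isZero_zero _)).injective
  exact Injective.of_iso ((HomologicalComplex.eval C (ComplexShape.up ℤ) p).mapBiprod _ _).symm
    (injective_biprod h1 h2)

lemma isAcyc_biprod {X Y : C} (hX : IsAcyc F X) (hY : IsAcyc F Y) : IsAcyc F (X ⊞ Y) :=
  isAcyc_X₂ F (S := ShortComplex.mk (biprod.inl : X ⟶ X ⊞ Y) (biprod.snd : X ⊞ Y ⟶ Y) (by simp))
    { exact := (ShortComplex.Splitting.ofHasBinaryBiproduct X Y).exact } hX hY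

lemma isAcyc_of_iso {X Y : C} (e : X ≅ Y) (hX : IsAcyc F X) : IsAcyc F Y :=
  fun i hi => (hX i hi).of_iso ((F.rightDerived i).mapIso e.symm)

/-- Complexes with terms of `F`-dimension `≤ m` admit quasi-isomorphisms to complexes with
`F`-acyclic terms. -/
lemma exists_res (m : ℕ) : ∀ (K : CochainComplex C ℤ)
    (_ : ∀ (p : ℤ) (i : ℕ), m < i → IsZero ((F.rightDerived i).obj (K.X p))),
    ∃ (L : CochainComplex C ℤ) (f : K ⟶ L), QuasiIso f ∧ ∀ p, IsAcyc F (L.X p) := by
  have := RDLES.enoughInjectives (C := C)
  induction m with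
  | zero => intro K hK; exact ⟨K, 𝟙 K, inferInstance, fun p i hi => hK p i hi⟩
  | succ m ih =>
    intro K hK
    obtain ⟨I, i, hi, hI⟩ := exists_mono_injective K
    have hS : (ShortComplex.mk i (cokernel.π i) (cokernel.condition i)).ShortExact :=
      { exact := ShortComplex.exact_cokernel i }
    obtain ⟨L, g, hg, hL⟩ := ih (cokernel i) (fun p j hj => by
      have hp := hS.map_of_exact (HomologicalComplex.eval C (ComplexShape.up ℤ) p)
      have := hI p
      exact isZero_X₃ F hp j (isAcyc_injective F (I.X p) j (by lia)) (hK p (j + 1) (by lia)))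
    refine ⟨mappingCocone (cokernel.π i ≫ g), CoconeSES.k g (cokernel.condition i),
      CoconeSES.quasiIso_k hS g, fun p => ?_⟩
    have := hI p
    exact isAcyc_of_iso F (CoconeSES.mappingCoconeXIso _ p (p + -1) rfl).symm
      (isAcyc_biprod F (isAcyc_injective F _) (hL _))

/-- The objects of the homotopy category with `F`-acyclic terms. -/
def AcycTerms : ObjectProperty (HomotopyCategory C (ComplexShape.up ℤ)) :=
  fun X => ∀ p, IsAcyc F (X.as.X p)

variable [PreservesFiniteLimits F] (n : ℕ) (hn : ∀ X : C, IsZero ((F.rightDerived n).obj X))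

include hn in
omit [PreservesFiniteLimits F] in
lemma hasRes : DerivCalc.HasRes (HomotopyCategory.quasiIso C (ComplexShape.up ℤ)) (AcycTerms F) where
  exists_res X := by
    obtain ⟨K, rfl⟩ := HomotopyCategory.quotient_obj_surjective X
    obtain ⟨L, f, hf, hL⟩ := exists_res F n K (fun p i hi => isZero_of_le F n hn i hi.le _)
    exact ⟨(HomotopyCategory.quotient _ _).obj L, (HomotopyCategory.quotient _ _).map f, hL,
      (HomotopyCategory.quotient_map_mem_quasiIso_iff _).2 hf⟩

include hn in
/-- `F` preserves quasi-isomorphisms between complexes of acyclics. -/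
lemma quasiIso_map {K L : CochainComplex C ℤ} (f : K ⟶ L) [QuasiIso f]
    (hK : ∀ p, IsAcyc F (K.X p)) (hL : ∀ p, IsAcyc F (L.X p)) :
    QuasiIso ((F.mapHomologicalComplex (ComplexShape.up ℤ)).map f) := by
  rw [← CoconeSES.acyclic_mappingCone_iff]
  have h1 : (mappingCone f).Acyclic := (CoconeSES.acyclic_mappingCone_iff f).2 inferInstance
  have h2 := acyclic_map_of_finite F n hn h1 (fun p => isAcyc_of_iso F
    (HomologicalComplex.homotopyCofiber.XIsoBiprod f p (p + 1) rfl).symm
      (isAcyc_biprod F (hK _) (hL _)))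
  intro p
  exact (h2 p).of_iso (mappingCone.mapHomologicalComplexIso f F)

variable [HasDerivedCategory.{w'} D]

include hn in
lemma isIso_map (X Y : HomotopyCategory C (ComplexShape.up ℤ)) (f : X ⟶ Y)
    (hX : AcycTerms F X) (hY : AcycTerms F Y)
    (hf : HomotopyCategory.quasiIso C (ComplexShape.up ℤ) f) :
    IsIso ((F.mapHomotopyCategory (ComplexShape.up ℤ) ⋙ DerivedCategory.Qh).map f) := by
  obtain ⟨K, rfl⟩ := HomotopyCategory.quotient_obj_surjective X
  obtain ⟨L, rfl⟩ := HomotopyCategory.quotient_obj_surjective Y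
  obtain ⟨f, rfl⟩ := (HomotopyCategory.quotient _ _).map_surjective f
  have hf' : QuasiIso f := (HomotopyCategory.quotient_map_mem_quasiIso_iff _).1 hf
  have h1 := quasiIso_map F n hn f hX hY
  have h2 : HomotopyCategory.quasiIso D (ComplexShape.up ℤ)
    ((F.mapHomotopyCategory (ComplexShape.up ℤ)).map ((HomotopyCategory.quotient _ _).map f)) :=
    (HomotopyCategory.quotient_map_mem_quasiIso_iff
      ((F.mapHomologicalComplex (ComplexShape.up ℤ)).map f)).2 h1
  exact Localization.inverts DerivedCategory.Qh (HomotopyCategory.quasiIso D (ComplexShape.up ℤ))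
    _ h2

end Groth.Agent.Cohder.RDUnbdd
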