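import Groth.Agent.Sga67.BlowPerf1
import Groth.Agent.Flat2H.KoszulRes
import Groth.Agent.Sga5.ProjSmooth
import Groth.Agent.PerfC.PerfLocal
import Groth.Agent.PerfC.ClosedImmPc
import Groth.Agent.S1105
import Groth.Agent.Ega1.TildePullback
import Groth.Agent.Ega1.QcqsPush
import Groth.Agent.PerfB.StructFlat
import Groth.Agent.PerfA.QCohEpi
import Groth.Agent.PerfC.LpullFlat
import Groth.Agent.PerfB.TildeExact
import Groth.Agent.Dcoh.DerSch
import Mathlib.AlgebraicGeometry.Morphisms.Separated

/-!
# The graph of a chart: a perfect closed subscheme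

`X ⟶ Spec A` separated, `U ⟶ X` an open immersion over `Spec A` with `U = Spec S` affine, `g : A[x] ⟶ S`
surjective.  Then `U ⟶ X ×_A A^n` is a closed immersion whose direct image of the structure sheaf is perfect.
-/

set_option autoImplicit false

universe u

open CategoryTheory CategoryTheory.Limits AlgebraicGeometry

attribute [local instance] HasDerivedCategory.standard

namespace Groth.Agent.Cohder.RelPCGraph

section Alg

variable {S : Type u} [CommRing S] {n : ℕ} (b : Fin n → S)

/-- The evaluation morphism `S[x_1, …, x_n] ⟶ S`. -/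
noncomputable abbrev ev : MvPolynomial (Fin n) S →+* S := (MvPolynomial.aeval b).toRingHom

lemma ev_surjective : Function.Surjective (ev b) := fun s => ⟨MvPolynomial.C s, by simp [ev]⟩

lemma ker_ev : RingHom.ker (ev b) = Ideal.ofList (Groth.Agent.Sga67.BlowPerf.eqs (1 : S) b) := by
  rw [Groth.Agent.Sga67.BlowPerf.eqs, Groth.Agent.Sga67.BlowPerf.ofList_ofFn]
  apply le_antisymm
  · intro p hp
    rw [RingHom.mem_ker] at hp
    have key : ∀ p : MvPolynomial (Fin n) S,
        p - MvPolynomial.C (ev b p) ∈ Ideal.span (Set.range fun i : Fin n =>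
          MvPolynomial.C (1 : S) * MvPolynomial.X i - MvPolynomial.C (b i)) := by
      intro p
      induction p using MvPolynomial.induction_on with
      | C a => simp [ev]
      | add p q hp hq =>
        have : p + q - MvPolynomial.C (ev b (p + q)) =
          (p - MvPolynomial.C (ev b p)) + (q - MvPolynomial.C (ev b q)) := by
          rw [map_add, map_add]; ring
        rw [this]
        exact Ideal.add_mem _ hp hq
      | mul_X p i hp =>
        have : p * MvPolynomial.X i - MvPolynomial.C (ev b (p * MvPolynomial.X i)) =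
          (p - MvPolynomial.C (ev b p)) * MvPolynomial.X i +
            MvPolynomial.C (ev b p) *
              (MvPolynomial.C (1 : S) * MvPolynomial.X i - MvPolynomial.C (b i)) := by
          rw [map_mul, map_mul]
          have : ev b (MvPolynomial.X i) = b i := by simp [ev]
          rw [this, map_one]
          ring
        rw [this]
        exact Ideal.add_mem _ (Ideal.mul_mem_right _ _ hp)
          (Ideal.mul_mem_left _ _ (Ideal.subset_span ⟨i, rfl⟩))
    have := key p
    rwa [hp, map_zero, sub_zero] at this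
  · rw [Ideal.span_le]
    rintro _ ⟨i, rfl⟩
    simp [RingHom.mem_ker, ev]

/-- `S` is a perfect module over `S[x_1, …, x_n]` via any evaluation morphism. -/
theorem isPerfect_quotient :
    DRing.IsPerfectModule (MvPolynomial (Fin n) S)
      (MvPolynomial (Fin n) S ⧸ RingHom.ker (ev b)) := by
  rw [ker_ev]
  exact Groth.Agent.Flat2H.KoszulRes.isPerfectModule_quotient
    (Groth.Agent.Sga67.BlowPerf.isKoszulRegularSeq_eqs_of_isUnit (1 : S) b isUnit_one)

end Alg

section Push

variable {R S : Type u} [CommRing R] [CommRing S] (φ : R →+* S) (hφ : Function.Surjective φ)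

/-- The morphism of affine schemes. -/
noncomputable abbrev sp : Spec (CommRingCat.of S) ⟶ Spec (CommRingCat.of R) :=
  Spec.map (CommRingCat.ofHom φ)

/-- The `R`-module `Γ(Spec R, φ_* O)`. -/
noncomputable def gammaIso :
    (moduleSpecΓFunctor (R := CommRingCat.of R)).obj ((Scheme.Modules.pushforward (sp φ)).obj
      (Coh.structureModule (Spec (CommRingCat.of S)))) ≅
      (ModuleCat.restrictScalars (CommRingCat.ofHom φ).hom).obj
        (ModuleCat.of (CommRingCat.of S) (CommRingCat.of S)) :=
  (Groth.Agent.Ega1.TildePullback.pushforwardCompΓIso (CommRingCat.ofHom φ)).app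
      (Coh.structureModule (Spec (CommRingCat.of S))) ≪≫
    (ModuleCat.restrictScalars (CommRingCat.ofHom φ).hom).mapIso
      ((tilde.toTildeΓNatIso (R := CommRingCat.of S)).symm.app
        (ModuleCat.of (CommRingCat.of S) (CommRingCat.of S)))

include hφ in
/-- The `R`-module `S` for a surjection `R ⟶ S`. -/
lemma nonempty_quotIso : Nonempty ((ModuleCat.restrictScalars (CommRingCat.ofHom φ).hom).obj
      (ModuleCat.of (CommRingCat.of S) (CommRingCat.of S)) ≅
    ModuleCat.of (CommRingCat.of R) (R ⧸ RingHom.ker φ)) :=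
  let L : (ModuleCat.of (CommRingCat.of R) (R ⧸ RingHom.ker φ)) →ₗ[CommRingCat.of R]
      ((ModuleCat.restrictScalars (CommRingCat.ofHom φ).hom).obj
        (ModuleCat.of (CommRingCat.of S) (CommRingCat.of S))) :=
    { toFun := (RingHom.kerLift φ : R ⧸ RingHom.ker φ → S)
      map_add' := map_add (RingHom.kerLift φ)
      map_smul' := fun r x => by
        obtain ⟨y, rfl⟩ := Ideal.Quotient.mk_surjective x
        exact map_mul φ r y }
  have hL : Function.Bijective L :=
    ⟨RingHom.kerLift_injective φ, fun s => by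
      obtain ⟨r, hr⟩ := hφ s
      exact ⟨Ideal.Quotient.mk _ r, hr⟩⟩
  ⟨(LinearEquiv.toModuleIso (LinearEquiv.ofBijective L hL)).symm⟩

include hφ in
/-- The direct image of the structure sheaf along a closed immersion of affine schemes. -/
lemma nonempty_pushIso : Nonempty ((Scheme.Modules.pushforward (sp φ)).obj
      (Coh.structureModule (Spec (CommRingCat.of S))) ≅
      (tilde.functor (CommRingCat.of R)).obj
        (ModuleCat.of (CommRingCat.of R) (R ⧸ RingHom.ker φ))) := by
  obtain ⟨e⟩ := nonempty_quotIso φ hφ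
  have hO : Coh.IsQCoh (Coh.structureModule (Spec (CommRingCat.of S))) :=
    Groth.Agent.PerfA.QCohEpi.isQCoh_of_isFinLocFree Groth.Agent.PerfB.StructFlat.isFinLocFree_structure
  have hq : Coh.IsQCoh ((Scheme.Modules.pushforward (sp φ)).obj
      (Coh.structureModule (Spec (CommRingCat.of S)))) :=
    Groth.Agent.Ega1.QcqsPush.isQCoh_pushforward (sp φ) _ hO
  exact ⟨(Groth.Agent.PerfB.QCohLocal.tildeΓIso _ hq).symm ≪≫
    (tilde.functor (CommRingCat.of R)).mapIso (gammaIso φ ≪≫ e)⟩

end Push

/-- `(M[0])~ = M~[0]`. -/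
noncomputable def tildeSingle (R : CommRingCat.{u}) [PreservesFiniteLimits (tilde.functor R)]
    (M : ModuleCat.{u} R) :
    (DCoh.tildeD R).obj ((DerivedCategory.singleFunctor (ModuleCat.{u} R) 0).obj M) ≅
      DCoh.inD (Spec R) ((tilde.functor R).obj M) :=
  ((tilde.functor R).mapDerivedCategorySingleFunctor 0).app M

section PerfAff

variable {S : Type u} [CommRing S] {n : ℕ} (b : Fin n → S)

theorem isPerfect_inD_push : DCoh.IsPerfect (DCoh.inD _ ((Scheme.Modules.pushforward (sp (ev b))).obj
    (Coh.structureModule (Spec (CommRingCat.of S))))) := by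
  obtain ⟨e⟩ := nonempty_pushIso (ev b) (ev_surjective b)
  have hlim : PreservesFiniteLimits (tilde.functor (CommRingCat.of (MvPolynomial (Fin n) S))) :=
    Groth.Agent.PerfB.TildeExact.preservesFiniteLimits_tilde _
  refine Groth.Agent.PerfC.PerfLocal.perf_of_iso ?_
    ((Groth.Agent.S1105.result (MvPolynomial (Fin n) S)
      (Dual.inD (MvPolynomial (Fin n) S) (MvPolynomial (Fin n) S ⧸ RingHom.ker (ev b)))).2
        (isPerfect_quotient b))
  exact tildeSingle (CommRingCat.of (MvPolynomial (Fin n) S)) _ ≪≫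
    (DerivedCategory.singleFunctor _ 0).mapIso e.symm

/-- A surjective ring map defines a closed immersion. -/
instance isClosedImmersion_sp_ev : IsClosedImmersion (sp (ev b)) :=
  IsClosedImmersion.spec_of_surjective _ (ev_surjective b)

/-- `Ri_* O` for a closed immersion `i`. -/
noncomputable def rpushInD {Z X : Scheme.{u}} (i : Z ⟶ X) [IsClosedImmersion i] [DCoh.HasRpush i]
    (M : Z.Modules) : (DCoh.Rpush i).obj (DCoh.inD Z M) ≅
      DCoh.inD X ((Scheme.Modules.pushforward i).obj M) :=
  (Groth.Agent.PerfC.LpullFlat.rpushIso i).app _ ≪≫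
    ((Scheme.Modules.pushforward i).mapDerivedCategorySingleFunctor 0).app M

theorem isPerfect_rpush_ev [DCoh.HasRpush (sp (ev b))] :
    DCoh.IsPerfect ((DCoh.Rpush (sp (ev b))).obj (DCoh.inD _
      (Coh.structureModule (Spec (CommRingCat.of S))))) :=
  Groth.Agent.PerfC.PerfLocal.perf_of_iso (rpushInD (sp (ev b)) _).symm (isPerfect_inD_push b)

end PerfAff

section Graph

variable {A S : Type u} [CommRing A] [CommRing S] {n : ℕ} (φ : MvPolynomial (Fin n) A →+* S)

/-- The coordinate functions. -/
noncomputable def coords (i : Fin n) : S := φ (MvPolynomial.X i)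

/-- The map on coefficients. -/
noncomputable abbrev ψ : A →+* S := φ.comp MvPolynomial.C

lemma ev_map : (ev (coords φ)).comp (MvPolynomial.map (ψ φ)) = φ := by
  apply MvPolynomial.ringHom_ext
  · intro r; simp [ev]
  · intro i; simp [ev, coords]

variable (S n) in
/-- The structure morphism of affine space. -/
noncomputable abbrev cc : Spec (CommRingCat.of (MvPolynomial (Fin n) S)) ⟶ Spec (CommRingCat.of S) :=
  sp (MvPolynomial.C : S →+* MvPolynomial (Fin n) S)

lemma isPullback_cc (ψ : A →+* S) : IsPullback (sp (MvPolynomial.map ψ)) (cc S n) (cc A n) (sp ψ) := by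
  let := ψ.toAlgebra
  let := MvPolynomial.algebraMvPolynomial (σ := Fin n) (R := A) (S := S)
  have h := (CommRingCat.isPushout_iff_isPushout (R := A) (S := S) (R' := MvPolynomial (Fin n) A)
    (S' := MvPolynomial (Fin n) S)).2 inferInstance
  exact isPullback_SpecMap_of_isPushout _ _ _ _ h

variable {X : Scheme.{u}} (f : X ⟶ Spec (CommRingCat.of A)) (k : Spec (CommRingCat.of S) ⟶ X)
  (hk : k ≫ f = sp (ψ φ))

/-- The chart `A^n_S ⟶ X × A^n`. -/
noncomputable def chartMap : Spec (CommRingCat.of (MvPolynomial (Fin n) S)) ⟶ pullback f (cc A n) :=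
  pullback.lift (cc S n ≫ k) (sp (MvPolynomial.map (ψ φ))) (by
    rw [Category.assoc, hk, (isPullback_cc (n := n) (ψ φ)).w])

@[reassoc]
lemma chartMap_fst : chartMap φ f k hk ≫ pullback.fst f (cc A n) = cc S n ≫ k :=
  pullback.lift_fst _ _ _

@[reassoc]
lemma chartMap_snd : chartMap φ f k hk ≫ pullback.snd f (cc A n) = sp (MvPolynomial.map (ψ φ)) :=
  pullback.lift_snd _ _ _

lemma isPullback_chartMap : IsPullback (chartMap φ f k hk) (cc S n) (pullback.fst f (cc A n)) k := by
  refine IsPullback.of_right ?_ ?_ (IsPullback.of_hasPullback f (cc A n)).flip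
  · rw [chartMap_snd, hk]
    exact isPullback_cc (ψ φ)
  · exact chartMap_fst φ f k hk

instance isOpenImmersion_chartMap [IsOpenImmersion k] : IsOpenImmersion (chartMap φ f k hk) :=
  MorphismProperty.of_isPullback (P := @IsOpenImmersion) (isPullback_chartMap φ f k hk).flip ‹_›

/-- The graph `Spec S ⟶ X × A^n`. -/
noncomputable def graph : Spec (CommRingCat.of S) ⟶ pullback f (cc A n) :=
  pullback.lift k (sp φ) (by rw [hk, ← Spec.map_comp, ← CommRingCat.ofHom_comp])

@[reassoc]
lemma graph_fst : graph φ f k hk ≫ pullback.fst f (cc A n) = k := pullback.lift_fst _ _ _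

@[reassoc]
lemma graph_snd : graph φ f k hk ≫ pullback.snd f (cc A n) = sp φ := pullback.lift_snd _ _ _

/-- The graph is a closed immersion. -/
lemma isClosedImmersion_graph [IsSeparated f] (hφ : Function.Surjective φ) :
    IsClosedImmersion (graph φ f k hk) := by
  have h1 : IsClosedImmersion (graph φ f k hk ≫ pullback.snd f (cc A n)) := by
    rw [graph_snd]
    exact IsClosedImmersion.spec_of_surjective _ hφ
  exact IsClosedImmersion.of_comp _ (pullback.snd f (cc A n))

@[reassoc]
lemma ev_cc (b : Fin n → S) : sp (ev b) ≫ cc S n = 𝟙 _ := by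
  rw [← Spec.map_comp, ← CommRingCat.ofHom_comp, ← Spec.map_id]
  congr 2
  ext s
  simp [ev]

@[reassoc]
lemma ev_chartMap : sp (ev (coords φ)) ≫ chartMap φ f k hk = graph φ f k hk := by
  apply pullback.hom_ext
  · rw [Category.assoc, chartMap_fst, graph_fst, ev_cc_assoc]
  · rw [Category.assoc, chartMap_snd, graph_snd, ← Spec.map_comp, ← CommRingCat.ofHom_comp, ev_map]

lemma isPullback_graph [Mono k] : IsPullback (𝟙 _) (sp (ev (coords φ))) (graph φ f k hk)
    (chartMap φ f k hk) := by
  have h := IsPullback.of_right (h₁₁ := sp (ev (coords φ))) (h₂₁ := graph φ f k hk)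
    (v₁₁ := 𝟙 (Spec (CommRingCat.of S))) (h₁₂ := cc S n) (h₂₂ := pullback.fst f (cc A n))
    (v₁₂ := chartMap φ f k hk) (v₁₃ := k) ?_ ?_ (isPullback_chartMap φ f k hk).flip
  · exact h.flip
  · rw [ev_cc, graph_fst]
    exact IsKernelPair.id_of_mono k
  · rw [ev_chartMap, Category.id_comp]

/-- Restriction of an object placed in degree `0`. -/
noncomputable def restrictInD {U Y : Scheme.{u}} (j : U ⟶ Y) [IsOpenImmersion j] (M : Y.Modules) :
    (Groth.Agent.PerfA.Restrict.restrictD j).obj (DCoh.inD Y M) ≅ DCoh.inD U (M.restrict j) :=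
  ((Scheme.Modules.restrictFunctor j).mapDerivedCategorySingleFunctor 0).app M

/-- The direct image of an object along a closed immersion vanishes on the complement. -/
lemma isZero_restrict_rpush {Z Y : Scheme.{u}} (i : Z ⟶ Y) [IsClosedImmersion i] [DCoh.HasRpush i]
    (K : DCoh.D Z) {V : Scheme.{u}} (j : V ⟶ Y) [IsOpenImmersion j]
    (hj : Disjoint (Set.range i) (Set.range j)) :
    IsZero ((Groth.Agent.PerfA.Restrict.restrictD j).obj ((DCoh.Rpush i).obj K)) := by
  have hc : IsClosedImmersion (pullback.snd i j) := inferInstance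
  have hR : DCoh.HasRpush (pullback.snd i j) := Groth.Agent.Dcoh.DerSch.hasRpush _
  obtain ⟨e⟩ := Groth.Agent.Dcoh.DerSch.exists_rpushRestrictIso i (pullback.snd i j)
    (pullback.fst i j) j (IsPullback.of_hasPullback i j)
  have hE : IsEmpty (pullback i j : Scheme.{u}) := by
    refine ⟨fun x => ?_⟩
    refine Set.disjoint_left.1 hj ⟨(pullback.fst i j) x, rfl⟩ ⟨(pullback.snd i j) x, ?_⟩
    have := congrArg (fun g : (pullback i j : Scheme.{u}) ⟶ Y => g x) (pullback.condition (f := i) (g := j))
    exact this.symm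
  refine IsZero.of_iso ?_ (e.app K)
  refine IsZero.of_iso ?_ ((Groth.Agent.PerfC.LpullFlat.rpushIso (pullback.snd i j)).app _)
  exact Functor.map_isZero _ (Groth.Agent.PerfC.ClosedImmPc.isZero_of_isEmpty hE _)

/-- The direct image of the structure sheaf along the graph is perfect. -/
theorem isPerfect_graph [IsSeparated f] [IsOpenImmersion k] (hφ : Function.Surjective φ)
    [DCoh.HasRpush (graph φ f k hk)] :
    DCoh.IsPerfect ((DCoh.Rpush (graph φ f k hk)).obj
      (DCoh.inD _ (Coh.structureModule (Spec (CommRingCat.of S))))) := by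
  have hcl := isClosedImmersion_graph φ f k hk hφ
  apply Groth.Agent.PerfC.PerfLocal.perf_of_cover
  intro x
  by_cases hx : x ∈ Set.range (graph φ f k hk)
  · obtain ⟨z, rfl⟩ := hx
    refine ⟨_, chartMap φ f k hk, inferInstance, sp (ev (coords φ)) z, ?_, ?_⟩
    · have := congrArg (fun g : Spec (CommRingCat.of S) ⟶ pullback f (cc A n) => g z)
        (ev_chartMap φ f k hk)
      exact this
    · have hR : DCoh.HasRpush (sp (ev (coords φ))) := Groth.Agent.Dcoh.DerSch.hasRpush _
      obtain ⟨e⟩ := Groth.Agent.Dcoh.DerSch.exists_rpushRestrictIso (graph φ f k hk)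
        (sp (ev (coords φ))) (𝟙 _) (chartMap φ f k hk) (isPullback_graph φ f k hk)
      refine Groth.Agent.PerfC.PerfLocal.perf_of_iso (e.app _).symm ?_
      refine Groth.Agent.PerfC.PerfLocal.perf_of_iso ?_ (isPerfect_rpush_ev (coords φ))
      exact (DCoh.Rpush _).mapIso ((DerivedCategory.singleFunctor _ 0).mapIso
        (Groth.Agent.Dcoh.Restrict.restrictUnit (𝟙 _)).symm ≪≫ (restrictInD (𝟙 _) _).symm)
  · let V : (pullback f (cc A n) : Scheme.{u}).Opens :=
      ⟨(Set.range (graph φ f k hk))ᶜ, hcl.isClosedEmbedding.isClosed_range.isOpen_compl⟩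
    refine ⟨V, V.ι, inferInstance, ⟨x, hx⟩, rfl, ?_⟩
    apply Groth.Agent.PerfC.PerfLocal.perf_of_isZero
    apply isZero_restrict_rpush
    rw [Scheme.Opens.range_ι]
    exact Set.disjoint_left.2 fun y hy hy' => hy' hy

end Graph


end Groth.Agent.Cohder.RelPCGraph
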