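import Groth.Agent.PerfC.DTens
import Groth.Agent.Dcoh.ModD
import Groth.Agent.Dcoh.LTMod
import Groth.Agent.Dcoh.TensSingle
import Groth.Agent.PerfB.StructFlat
import Groth.Agent.Dcoh.Spread

/-!
# Commutation isomorphisms for `LTensorCx` and `LTensorMod`
-/

set_option autoImplicit false

universe u

open CategoryTheory Limits MonoidalCategory AlgebraicGeometry

attribute [local instance] HasDerivedCategory.standard

namespace Groth.Agent.Cohder.RelPCMon

open DCoh Groth.Agent.PerfC.DTens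

variable {X : Scheme.{u}}

/-- The tensor product of complexes (a definition, to keep type checking fast). -/
noncomputable def tt (P N : CochainComplex X.Modules ℤ) : CochainComplex X.Modules ℤ :=
  (tensorCx.obj P).obj N

/-- Symmetry. -/
noncomputable def ttBraid (P N : CochainComplex X.Modules ℤ) : tt P N ≅ tt N P :=
  Groth.Agent.Dcoh.TensSymm.tensorCxIso P N

/-- Functoriality. -/
noncomputable def ttRight (P : CochainComplex X.Modules ℤ) {N M : CochainComplex X.Modules ℤ}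
    (e : N ≅ M) : tt P N ≅ tt P M :=
  (tensorCx.obj P).mapIso e

open scoped Groth.Agent.Dcoh.MonCat in
/-- Associativity. -/
noncomputable def ttAssoc (P N M : CochainComplex X.Modules ℤ) : tt (tt P N) M ≅ tt P (tt N M) :=
  α_ P N M

/-- `(P ⊗ N) ⊗ M ≅ (P ⊗ M) ⊗ N`. -/
noncomputable def ttSwap (P N M : CochainComplex X.Modules ℤ) : tt (tt P N) M ≅ tt (tt P M) N :=
  ttAssoc P N M ≪≫ ttRight P (ttBraid N M) ≪≫ (ttAssoc P M N).symm

/-- `K ⊗ᴸ E = K ⊗ E` for `K` K-flat. -/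
noncomputable def cxIso (K E : CochainComplex X.Modules ℤ) (hK : IsKFlat K) [HasLTensorCx E] :
    (LTensorCx E).obj (DerivedCategory.Q.obj K) ≅ DerivedCategory.Q.obj (tt K E) :=
  (LTXcxObj (DerivedCategory.Q.obj K) E).symm ≪≫ κIso K E hK

/-- `K ⊗ᴸ E = K ⊗ E` for `E` K-flat. -/
noncomputable def cxIso' (K E : CochainComplex X.Modules ℤ) (hE : IsKFlat E) [HasLTensorCx E] :
    (LTensorCx E).obj (DerivedCategory.Q.obj K) ≅ DerivedCategory.Q.obj (tt K E) :=
  (LTXcxObj (DerivedCategory.Q.obj K) E).symm ≪≫ κIso' K E hE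

/-- `- ⊗ᴸ E` only depends on `Q E`. -/
noncomputable def congrCx {E E' : CochainComplex X.Modules ℤ} [HasLTensorCx E] [HasLTensorCx E']
    (e : DerivedCategory.Q.obj E ≅ DerivedCategory.Q.obj E') : LTensorCx E ≅ LTensorCx E' :=
  (LTXcx E).symm ≪≫ (LTX X).flip.mapIso e ≪≫ LTXcx E'

/-- Every object is represented by a K-flat complex. -/
lemma exists_kflat (R : D X) : ∃ P : CochainComplex X.Modules ℤ, IsKFlat P ∧
    Nonempty (DerivedCategory.Q.obj P ≅ R) := by
  obtain ⟨P, w, hP, hw⟩ := hasRes X (DerivedCategory.Q.objPreimage R)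
  have i' : IsIso (DerivedCategory.Q.map w) := (DerivedCategory.isIso_Q_map_iff_quasiIso _ _).2 hw
  exact ⟨P, hP, ⟨asIso (DerivedCategory.Q.map w) ≪≫ DerivedCategory.Q.objObjPreimageIso R⟩⟩

/-- Derived tensor products commute with each other. -/
theorem nonempty_comm (M N : CochainComplex X.Modules ℤ) [HasLTensorCx M] [HasLTensorCx N] (R : D X) :
    Nonempty ((LTensorCx M).obj ((LTensorCx N).obj R) ≅ (LTensorCx N).obj ((LTensorCx M).obj R)) := by
  obtain ⟨M', hM', ⟨eM⟩⟩ := exists_kflat (DerivedCategory.Q.obj M)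
  obtain ⟨N', hN', ⟨eN⟩⟩ := exists_kflat (DerivedCategory.Q.obj N)
  obtain ⟨P, hP, ⟨eP⟩⟩ := exists_kflat R
  have h1 := hasLTensorCx M'
  have h2 := hasLTensorCx N'
  have a1 : (LTensorCx M').obj ((LTensorCx N').obj (DerivedCategory.Q.obj P)) ≅
      DerivedCategory.Q.obj (tt (tt P N') M') :=
    (LTensorCx M').mapIso (cxIso P N' hP) ≪≫ cxIso' _ M' hM'
  have a2 : (LTensorCx N').obj ((LTensorCx M').obj (DerivedCategory.Q.obj P)) ≅
      DerivedCategory.Q.obj (tt (tt P M') N') :=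
    (LTensorCx N').mapIso (cxIso P M' hP) ≪≫ cxIso' _ N' hN'
  exact ⟨(congrCx eM).symm.app _ ≪≫ (LTensorCx M').mapIso ((congrCx eN).symm.app R ≪≫
      (LTensorCx N').mapIso eP.symm) ≪≫ a1 ≪≫ DerivedCategory.Q.mapIso (ttSwap P N' M') ≪≫ a2.symm ≪≫
      (LTensorCx N').mapIso ((LTensorCx M').mapIso eP ≪≫ (congrCx eM).app R) ≪≫ (congrCx eN).app _⟩

/-- `L[0]` as a complex. -/
noncomputable abbrev sgl (L : X.Modules) : CochainComplex X.Modules ℤ :=
  (HomologicalComplex.single X.Modules (ComplexShape.up ℤ) 0).obj L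

/-- `- ⊗ᴸ L` for a module is `- ⊗ᴸ L[0]`. -/
theorem nonempty_mod (L : X.Modules) [HasLTensorMod L] [HasLTensorCx (sgl L)] (R : D X) :
    Nonempty ((LTensorMod L).obj R ≅ (LTensorCx (sgl L)).obj R) := by
  obtain ⟨P, hP, ⟨eP⟩⟩ := exists_kflat R
  obtain ⟨s⟩ := Groth.Agent.Dcoh.LTMod.nonempty_singleIso' L
  exact ⟨(LTensorMod L).mapIso eP.symm ≪≫ Groth.Agent.Dcoh.LTMod.isoQ L hP ≪≫
    DerivedCategory.Q.mapIso (s.app P : _ ≅ tt P (sgl L)) ≪≫ (cxIso P (sgl L) hP).symm ≪≫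
    (LTensorCx (sgl L)).mapIso eP⟩

/-- `- ⊗ᴸ L` commutes with `- ⊗ᴸ M`. -/
theorem nonempty_comm_mod (M : CochainComplex X.Modules ℤ) [HasLTensorCx M] (L : X.Modules)
    [HasLTensorMod L] (R : D X) :
    Nonempty ((LTensorMod L).obj ((LTensorCx M).obj R) ≅ (LTensorCx M).obj ((LTensorMod L).obj R)) := by
  have h1 := hasLTensorCx (sgl L)
  obtain ⟨a⟩ := nonempty_mod L ((LTensorCx M).obj R)
  obtain ⟨b⟩ := nonempty_mod L R
  obtain ⟨c⟩ := nonempty_comm (sgl L) M R
  exact ⟨a ≪≫ c ≪≫ (LTensorCx M).mapIso b.symm⟩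

lemma isKFlat_sgl_unit : IsKFlat (sgl (Coh.structureModule X)) :=
  Groth.Agent.Dcoh.KFlatMod.isKFlat_single _
    (Groth.Agent.Dcoh.Spread.isFlat_of_isFinLocFree
      Groth.Agent.PerfB.StructFlat.isFinLocFree_structure) 0

/-- Symmetry. -/
theorem nonempty_symm (M N : CochainComplex X.Modules ℤ) (hN : IsKFlat N) [HasLTensorCx M]
    [HasLTensorCx N] :
    Nonempty ((LTensorCx M).obj (DerivedCategory.Q.obj N) ≅
      (LTensorCx N).obj (DerivedCategory.Q.obj M)) :=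
  ⟨cxIso N M hN ≪≫ DerivedCategory.Q.mapIso (ttBraid N M) ≪≫ (cxIso' M N hN).symm⟩

/-- The structure sheaf is a unit. -/
theorem nonempty_unit (M : CochainComplex X.Modules ℤ) [HasLTensorCx M] :
    Nonempty ((LTensorCx M).obj (inD X (Coh.structureModule X)) ≅ DerivedCategory.Q.obj M) := by
  have h1 := hasLTensorCx (sgl (Coh.structureModule X))
  have h2 := Groth.Agent.Dcoh.LTMod.hasLTensorMod (Coh.structureModule X)
  obtain ⟨a⟩ := nonempty_symm M (sgl (Coh.structureModule X)) isKFlat_sgl_unit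
  obtain ⟨b⟩ := nonempty_mod (Coh.structureModule X) (DerivedCategory.Q.obj M)
  obtain ⟨c⟩ := Groth.Agent.Dcoh.LTMod.nonempty_unitIso (DerivedCategory.Q.obj M)
  exact ⟨(LTensorCx M).mapIso ((DerivedCategory.singleFunctorIsoCompQ X.Modules 0).app _) ≪≫
    a ≪≫ b.symm ≪≫ c⟩

end Groth.Agent.Cohder.RelPCMon
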