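import Groth.Agent.PerfA.HypAct
import Groth.Agent.Dcoh.DerSch

/-!
# Hypercohomology of `Rf_*`

For `φ : H^m(f⁻¹ V, K)`, i.e. `φ : P m (f⁻¹ V) ⟶ K`, we construct `pushP f φ : P m V ⟶ Rf_* K`, naturally in `K`
and `V`, linear over `Γ(S, V)`, and show that it is locally surjective and that `toHD (pushP f φ) = 0` implies that
`φ` is zero locally on `V`.
-/

set_option autoImplicit false

universe w₁ w₂ v₁ v₂ u₁ u₂ u

open CategoryTheory CategoryTheory.Limits AlgebraicGeometry Opposite TopologicalSpace DerivedCategory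
open HomologicalComplex
open Groth.Agent.PerfA.ExtZero Groth.Agent.PerfA.Hyp0 Groth.Agent.PerfA.Hyp1 Groth.Agent.PerfA.HypAct

namespace Groth.Agent.Cohder.RpushHyp

section Abs

variable {A : Type u₁} [Category.{v₁} A] [Abelian A] [HasDerivedCategory.{w₁} A]
  {B : Type u₂} [Category.{v₂} B] [Abelian B] [HasDerivedCategory.{w₂} B]

omit [HasDerivedCategory A] in
lemma single_map_eq_cocycleHom {G G' : A} (a : G ⟶ G') (m : ℤ) :
    (HomologicalComplex.single A (.up ℤ) m).map a =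
      cocycleHom (a ≫ (singleObjXSelf (.up ℤ) m G').inv) (by simp) := by
  apply HomologicalComplex.from_single_hom_ext
  rw [cocycleHom_f, single_map_f_self]

variable (F : A ⥤ B) [F.Additive]

/-- The map `H ⟶ F (L^m)` attached to `H ⟶ F G` and `G ⟶ L^m`. -/
def zF {G : A} {H : B} (g : H ⟶ F.obj G) {m : ℤ} {L : CochainComplex A ℤ} (z : G ⟶ L.X m) :
    H ⟶ ((F.mapHomologicalComplex (ComplexShape.up ℤ)).obj L).X m :=
  g ≫ F.map z

omit [HasDerivedCategory A] [HasDerivedCategory B] in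
lemma zF_d {G : A} {H : B} (g : H ⟶ F.obj G) {m : ℤ} {L : CochainComplex A ℤ} (z : G ⟶ L.X m)
    (hz : z ≫ L.d m (m + 1) = 0) :
    zF F g z ≫ ((F.mapHomologicalComplex (ComplexShape.up ℤ)).obj L).d m (m + 1) = 0 := by
  change (g ≫ F.map z) ≫ F.map (L.d m (m + 1)) = 0
  rw [Category.assoc, ← F.map_comp, hz, F.map_zero, comp_zero]

omit [HasDerivedCategory A] [HasDerivedCategory B] in
lemma zF_comp_f {G : A} {H : B} (g : H ⟶ F.obj G) {m : ℤ} {L L' : CochainComplex A ℤ} (z : G ⟶ L.X m)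
    (u : L ⟶ L') :
    zF F g z ≫ ((F.mapHomologicalComplex (ComplexShape.up ℤ)).map u).f m = zF F g (z ≫ u.f m) := by
  change (g ≫ F.map z) ≫ F.map (u.f m) = g ≫ F.map (z ≫ u.f m)
  rw [Category.assoc, ← F.map_comp]

omit [HasDerivedCategory A] [HasDerivedCategory B] [F.Additive] in
lemma zF_map_comp [F.Additive] {G G' : A} {H : B} (g : H ⟶ F.obj G) (a : G ⟶ G') {m : ℤ} {L : CochainComplex A ℤ}
    (z : G' ⟶ L.X m) : zF F g (a ≫ z) = zF F (g ≫ F.map a) z := by
  change g ≫ F.map (a ≫ z) = (g ≫ F.map a) ≫ F.map z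
  rw [Category.assoc, ← F.map_comp]

omit [HasDerivedCategory A] [HasDerivedCategory B] in
lemma comp_zF {G : A} {H H' : B} (g' : H' ⟶ H) (g : H ⟶ F.obj G) {m : ℤ} {L : CochainComplex A ℤ}
    (z : G ⟶ L.X m) : g' ≫ zF F g z = zF F (g' ≫ g) z := by
  change g' ≫ g ≫ F.map z = (g' ≫ g) ≫ F.map z
  rw [Category.assoc]

variable (RF : DerivedCategory A ⥤ DerivedCategory B)
  (α : F.mapHomologicalComplex (ComplexShape.up ℤ) ⋙ Q ⟶ Q ⋙ RF)

/-- The component of `α` at `L`. -/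
def αQ (L : CochainComplex A ℤ) :
    Q.obj ((F.mapHomologicalComplex (ComplexShape.up ℤ)).obj L) ⟶ RF.obj (Q.obj L) := α.app L

/-- The component of `α` at `G[-m]`. -/
noncomputable def αS (G : A) (m : ℤ) :
    Q.obj ((F.mapHomologicalComplex (ComplexShape.up ℤ)).obj ((HomologicalComplex.single A (.up ℤ) m).obj G)) ⟶
      RF.obj ((singleFunctor A m).obj G) := α.app _

lemma αS_ofCocycle {G : A} {m : ℤ} {L : CochainComplex A ℤ} (z : G ⟶ L.X m)
    (hz : z ≫ L.d m (m + 1) = 0) :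
    αS F RF α G m ≫ RF.map (ofCocycle z hz) =
      Q.map ((F.mapHomologicalComplex (ComplexShape.up ℤ)).map (cocycleHom z hz)) ≫ αQ F RF α L :=
  (α.naturality (cocycleHom z hz)).symm

/-- The map `H[-m] ⟶ RF (G[-m])` attached to `H ⟶ F G`. -/
noncomputable def uA {G : A} {H : B} (g : H ⟶ F.obj G) (m : ℤ) :
    (singleFunctor B m).obj H ⟶ RF.obj ((singleFunctor A m).obj G) :=
  ofCocycle (L := (F.mapHomologicalComplex (ComplexShape.up ℤ)).obj
      ((HomologicalComplex.single A (.up ℤ) m).obj G))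
    (zF F g (singleObjXSelf (.up ℤ) m G).inv) (zF_d F g _ (by simp)) ≫ αS F RF α G m

/-- Computation of `uA` followed by `RF` of the map attached to a cocycle. -/
lemma uA_ofCocycle {G : A} {H : B} (g : H ⟶ F.obj G) {m : ℤ} {L : CochainComplex A ℤ} (z : G ⟶ L.X m)
    (hz : z ≫ L.d m (m + 1) = 0) :
    uA F RF α g m ≫ RF.map (ofCocycle z hz) =
      ofCocycle (L := (F.mapHomologicalComplex (ComplexShape.up ℤ)).obj L) (zF F g z) (zF_d F g z hz) ≫
        αQ F RF α L := by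
  rw [uA, Category.assoc, αS_ofCocycle, ← Category.assoc, ofCocycle_comp]
  congr 1
  have h2 : zF F g (singleObjXSelf (.up ℤ) m G).inv ≫
      ((F.mapHomologicalComplex (ComplexShape.up ℤ)).map (cocycleHom z hz)).f m = zF F g z := by
    rw [zF_comp_f, cocycleHom_f, Iso.inv_hom_id_assoc]
  congr 1

lemma uA_map {G G' : A} {H : B} (g : H ⟶ F.obj G) (a : G ⟶ G') (m : ℤ) :
    uA F RF α g m ≫ RF.map ((singleFunctor A m).map a) = uA F RF α (g ≫ F.map a) m := by
  have h1 : (singleFunctor A m).map a =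
      ofCocycle (L := (HomologicalComplex.single A (.up ℤ) m).obj G')
        (a ≫ (singleObjXSelf (.up ℤ) m G').inv) (by simp) :=
    congrArg Q.map (single_map_eq_cocycleHom a m)
  refine (congrArg (fun t => uA F RF α g m ≫ RF.map t) h1).trans ?_
  refine (uA_ofCocycle F RF α g _ _).trans ?_
  rw [uA]
  have h2 := zF_map_comp F g a (singleObjXSelf (.up ℤ) m G').inv
  have h3 : ofCocycle (L := (F.mapHomologicalComplex (ComplexShape.up ℤ)).obj
      ((HomologicalComplex.single A (.up ℤ) m).obj G'))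
      (zF F g (a ≫ (singleObjXSelf (.up ℤ) m G').inv)) (zF_d F g _ (by simp)) =
      ofCocycle (zF F (g ≫ F.map a) (singleObjXSelf (.up ℤ) m G').inv) (zF_d F _ _ (by simp)) := by
    congr 1
  exact congrArg (· ≫ αS F RF α G' m) h3

lemma map_uA {G : A} {H H' : B} (g' : H' ⟶ H) (g : H ⟶ F.obj G) (m : ℤ) :
    (singleFunctor B m).map g' ≫ uA F RF α g m = uA F RF α (g' ≫ g) m := by
  rw [uA, uA, ← Category.assoc, map_ofCocycle]
  have h2 := comp_zF F g' g (singleObjXSelf (.up ℤ) m G).inv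
  congr 2

end Abs

attribute [local instance] HasDerivedCategory.standard

variable {X S : Scheme.{u}} (f : X ⟶ S)

/-- Sections of `M` over `f⁻¹ V` as sections of `f_* M` over `V`. -/
def ts {V : S.Opens} {M : X.Modules} (s : Γ(M, f ⁻¹ᵁ V)) : Γ((Scheme.Modules.pushforward f).obj M, V) := s

lemma ts_injective {V : S.Opens} {M : X.Modules} {s t : Γ(M, f ⁻¹ᵁ V)} (h : ts f s = ts f t) : s = t := h

lemma ts_surjective {V : S.Opens} {M : X.Modules} (t : Γ((Scheme.Modules.pushforward f).obj M, V)) :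
    ∃ s : Γ(M, f ⁻¹ᵁ V), t = ts f s := ⟨t, rfl⟩

lemma app_ts {V : S.Opens} {M N : X.Modules} (g : M ⟶ N) (s : Γ(M, f ⁻¹ᵁ V)) :
    ((Scheme.Modules.pushforward f).map g).app V (ts f s) = ts f (g.app (f ⁻¹ᵁ V) s) := rfl

lemma res_ts {V V' : S.Opens} (h : V' ≤ V) {M : X.Modules} (s : Γ(M, f ⁻¹ᵁ V)) :
    ((Scheme.Modules.pushforward f).obj M).presheaf.map (homOfLE h).op (ts f s) =
      ts f (M.presheaf.map (homOfLE (f.preimage_mono h)).op s) := rfl

lemma smul_ts {V : S.Opens} {M : X.Modules} (a : Γ(S, V)) (s : Γ(M, f ⁻¹ᵁ V)) :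
    a • ts f s = ts f (f.app V a • s) := rfl

/-- The canonical map `j_! O_V ⟶ f_* (j_! O_{f⁻¹ V})`. -/
noncomputable def genPush (V : S.Opens) : OU V ⟶ (Scheme.Modules.pushforward f).obj (OU (f ⁻¹ᵁ V)) :=
  desc (ts f (gen (f ⁻¹ᵁ V)))

lemma genPush_map_desc {V : S.Opens} {M : X.Modules} (s : Γ(M, f ⁻¹ᵁ V)) :
    genPush f V ≫ (Scheme.Modules.pushforward f).map (desc s) = desc (ts f s) := by
  rw [genPush, desc_comp, app_ts, desc_app_gen]

lemma genPush_res {V V' : S.Opens} (h : V' ≤ V) :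
    genPush f V' ≫ (Scheme.Modules.pushforward f).map ((OUF X).map (homOfLE (f.preimage_mono h))) =
      (OUF S).map (homOfLE h) ≫ genPush f V := by
  rw [genPush, genPush, desc_comp, map_desc, app_ts, OUF_map_app_gen]
  rfl

lemma genPush_act {V : S.Opens} (a : Γ(S, V)) :
    genPush f V ≫ (Scheme.Modules.pushforward f).map (act (f.app V a)) = act a ≫ genPush f V := by
  rw [act, genPush_map_desc, genPush, act_desc, smul_ts]

variable [DCoh.HasRpush f]

/-- `P m (f⁻¹ V) ⟶ K` gives `P m V ⟶ Rf_* K`. -/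
noncomputable def pushP {m : ℤ} {K : DCoh.D X} {V : S.Opens} (φ : P m (f ⁻¹ᵁ V) ⟶ K) :
    P m V ⟶ (DCoh.Rpush f).obj K :=
  uA (Scheme.Modules.pushforward f) (DCoh.Rpush f) (Dcoh.DerSch.rpushUnitQ f) (genPush f V) m ≫
    (DCoh.Rpush f).map φ

lemma pushP_comp {m : ℤ} {K L : DCoh.D X} {V : S.Opens} (φ : P m (f ⁻¹ᵁ V) ⟶ K) (g : K ⟶ L) :
    pushP f (φ ≫ g) = pushP f φ ≫ (DCoh.Rpush f).map g := by
  rw [pushP, pushP, Functor.map_comp, Category.assoc]

lemma pushP_res {m : ℤ} {K : DCoh.D X} {V V' : S.Opens} (h : V' ≤ V) (φ : P m (f ⁻¹ᵁ V) ⟶ K) :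
    pushP f (res (f.preimage_mono h) φ) = res h (pushP f φ) := by
  rw [pushP, pushP, res, res, Functor.map_comp, Pmap, Pmap, ← Category.assoc, ← Category.assoc,
    uA_map, map_uA, genPush_res]

lemma pushP_smul {m : ℤ} {K : DCoh.D X} {V : S.Opens} (a : Γ(S, V)) (φ : P m (f ⁻¹ᵁ V) ⟶ K) :
    pushP f (f.app V a • φ) = a • pushP f φ := by
  rw [pushP, pushP, smul_def, smul_def, Functor.map_comp, ← Category.assoc, ← Category.assoc,
    uA_map, map_uA, genPush_act]

instance additive_Rpush : (DCoh.Rpush f).Additive := by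
  let := Dcoh.DerSch.rpushCommShift f
  have := Dcoh.DerSch.rpush_isTriangulated f
  infer_instance

lemma pushP_add {m : ℤ} {K : DCoh.D X} {V : S.Opens} (φ ψ : P m (f ⁻¹ᵁ V) ⟶ K) :
    pushP f (φ + ψ) = pushP f φ + pushP f ψ := by
  rw [pushP, pushP, pushP, Functor.map_add, Preadditive.comp_add]

lemma pushP_zero {m : ℤ} {K : DCoh.D X} {V : S.Opens} :
    pushP f (0 : P m (f ⁻¹ᵁ V) ⟶ K) = 0 := by
  rw [pushP, Functor.map_zero, comp_zero]

lemma pushP_sum {ι : Type*} (t : Finset ι) {m : ℤ} {K : DCoh.D X} {V : S.Opens}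
    (φ : ι → (P m (f ⁻¹ᵁ V) ⟶ K)) : pushP f (∑ i ∈ t, φ i) = ∑ i ∈ t, pushP f (φ i) := by
  rw [pushP, Functor.map_sum, Preadditive.comp_sum]
  rfl

/-- The unit `Q (f_* L) ⟶ Rf_* (Q L)`. -/
noncomputable abbrev unitQ' (L : CochainComplex X.Modules ℤ) :
    Q.obj (((Scheme.Modules.pushforward f).mapHomologicalComplex (ComplexShape.up ℤ)).obj L) ⟶
      (DCoh.Rpush f).obj (Q.obj L) :=
  αQ (Scheme.Modules.pushforward f) (DCoh.Rpush f) (Dcoh.DerSch.rpushUnitQ f) L

lemma isIso_unitQ' (L : CochainComplex X.Modules ℤ) (hL : L.IsKInjective) : IsIso (unitQ' f L) :=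
  Dcoh.DerSch.isIso_rpushUnitQ_app f L hL

lemma pushP_ofCocycle {m : ℤ} {L : CochainComplex X.Modules ℤ} {V : S.Opens} (z : OU (f ⁻¹ᵁ V) ⟶ L.X m)
    (hz : z ≫ L.d m (m + 1) = 0) :
    pushP f (ofCocycle z hz) =
      ofCocycle (L := ((Scheme.Modules.pushforward f).mapHomologicalComplex (ComplexShape.up ℤ)).obj L)
        (zF _ (genPush f V) z) (zF_d _ _ z hz) ≫ unitQ' f L :=
  uA_ofCocycle _ _ _ _ _ _

/-- Every `K` is isomorphic to `Q I` with `I` K-injective. -/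
lemma exists_kInj_iso (K : DCoh.D X) :
    ∃ (I : CochainComplex X.Modules ℤ) (_ : I.IsKInjective), Nonempty (K ≅ Q.obj I) := by
  obtain ⟨L, ⟨e⟩⟩ : ∃ L : CochainComplex X.Modules ℤ, Nonempty (Q.obj L ≅ K) :=
    ⟨_, ⟨Q.objObjPreimageIso K⟩⟩
  obtain ⟨I, i, h1, h2⟩ := Dcoh.DerSch.hasKInj X L
  exact ⟨I, h1, ⟨e.symm ≪≫ asIso (Q.map i)⟩⟩

omit [DCoh.HasRpush f] in
/-- Maps `j_! O_V ⟶ f_* M` come from maps `j_! O_{f⁻¹ V} ⟶ M`. -/
lemma exists_genPush {V : S.Opens} {M : X.Modules} (y : OU V ⟶ (Scheme.Modules.pushforward f).obj M) :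
    ∃ z : OU (f ⁻¹ᵁ V) ⟶ M, genPush f V ≫ (Scheme.Modules.pushforward f).map z = y := by
  obtain ⟨s, rfl⟩ := desc_surjective y
  obtain ⟨s, rfl⟩ := ts_surjective f s
  exact ⟨desc s, genPush_map_desc f s⟩

omit [DCoh.HasRpush f] in
lemma genPush_injective {V : S.Opens} {M : X.Modules} {y z : OU (f ⁻¹ᵁ V) ⟶ M}
    (h : genPush f V ≫ (Scheme.Modules.pushforward f).map y =
      genPush f V ≫ (Scheme.Modules.pushforward f).map z) : y = z := by
  obtain ⟨s, rfl⟩ := desc_surjective y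
  obtain ⟨t, rfl⟩ := desc_surjective z
  rw [genPush_map_desc, genPush_map_desc] at h
  rw [ts_injective f (desc_injective h)]

/-- `pushP` is locally surjective. -/
theorem exists_local_pushP_eq {m : ℤ} {K : DCoh.D X} {V : S.Opens} (ψ : P m V ⟶ (DCoh.Rpush f).obj K)
    (x : S) (hx : x ∈ V) :
    ∃ (V' : S.Opens) (h : V' ≤ V) (φ : P m (f ⁻¹ᵁ V') ⟶ K), x ∈ V' ∧ pushP f φ = res h ψ := by
  obtain ⟨I, hI, ⟨e⟩⟩ := exists_kInj_iso K
  have hu := isIso_unitQ' f I hI
  obtain ⟨G', p, hp, z, hz, hψ⟩ := exists_epi_cocycle (ψ ≫ (DCoh.Rpush f).map e.hom ≫ inv (unitQ' f I))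
  obtain ⟨V', h, q, hxV, hq⟩ := exists_local_section p x hx
  have h1 : res h ψ ≫ (DCoh.Rpush f).map e.hom ≫ inv (unitQ' f I) =
      ofCocycle (q ≫ z) (by rw [Category.assoc, hz, comp_zero]) := by
    rw [← map_ofCocycle z hz q, ← hψ, res, Pmap, ← hq, Functor.map_comp]
    simp only [Category.assoc]
  obtain ⟨z₀, hz₀⟩ : ∃ z₀ : G' ⟶ (Scheme.Modules.pushforward f).obj (I.X m), z₀ = z := ⟨z, rfl⟩
  have hz₀d : z₀ ≫ (Scheme.Modules.pushforward f).map (I.d m (m + 1)) = 0 := by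
    rw [hz₀]; exact hz
  obtain ⟨y, hy⟩ := exists_genPush f (M := I.X m) (q ≫ z₀)
  have hy' : zF (L := I) (Scheme.Modules.pushforward f) (genPush f V') y = q ≫ z := by
    rw [← hz₀]; exact hy
  have hyd : y ≫ I.d m (m + 1) = 0 := by
    apply genPush_injective f
    rw [Functor.map_comp, Functor.map_zero, comp_zero, ← Category.assoc, hy, Category.assoc, hz₀d,
      comp_zero]
  refine ⟨V', h, ofCocycle y hyd ≫ e.inv, hxV, ?_⟩
  rw [pushP_comp, pushP_ofCocycle]
  have h2 : ofCocycle (L := ((Scheme.Modules.pushforward f).mapHomologicalComplex (ComplexShape.up ℤ)).obj I)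
      (zF _ (genPush f V') y) (zF_d _ _ y hyd) = ofCocycle (q ≫ z) (by rw [Category.assoc, hz, comp_zero]) := by
    congr 1
  rw [h2, ← h1]
  simp only [Category.assoc, IsIso.inv_hom_id_assoc]
  rw [← Functor.map_comp, e.hom_inv_id, CategoryTheory.Functor.map_id, Category.comp_id]

/-- If `toHD (pushP f φ) = 0` then `φ` is zero locally on `V`. -/
theorem exists_local_eq_zero {m : ℤ} {K : DCoh.D X} {V : S.Opens} (φ : P m (f ⁻¹ᵁ V) ⟶ K)
    (hφ : toHD (pushP f φ) = 0) (x : S) (hx : x ∈ V) :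
    ∃ (V' : S.Opens) (h : V' ≤ V), x ∈ V' ∧ res (f.preimage_mono h) φ = 0 := by
  obtain ⟨I, hI, ⟨e⟩⟩ := exists_kInj_iso K
  have hu := isIso_unitQ' f I hI
  obtain ⟨z, hz, h1⟩ := exists_cocycle_of_isKInjective (I := I) (φ ≫ e.hom)
  have h2 : toH (G := OU V) (ofCocycle
      (L := ((Scheme.Modules.pushforward f).mapHomologicalComplex (ComplexShape.up ℤ)).obj I)
        (zF _ (genPush f V) z) (zF_d _ _ z hz)) = 0 := by
    have h3 : pushP f φ ≫ (DCoh.Rpush f).map e.hom ≫ inv (unitQ' f I) = ofCocycle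
      (L := ((Scheme.Modules.pushforward f).mapHomologicalComplex (ComplexShape.up ℤ)).obj I)
        (zF _ (genPush f V) z) (zF_d _ _ z hz) := by
      rw [← Category.assoc, ← pushP_comp, h1, pushP_ofCocycle, Category.assoc, IsIso.hom_inv_id,
        Category.comp_id]
    have h4 : toH (G := OU V) (pushP f φ) = 0 := (homEquiv V _).injective (by rw [map_zero]; exact hφ)
    rw [← h3, toH_comp, h4, zero_comp]
  set L := ((Scheme.Modules.pushforward f).mapHomologicalComplex (ComplexShape.up ℤ)).obj I with hLdef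
  have h5 : L.liftCycles (zF (L := I) (Scheme.Modules.pushforward f) (genPush f V) z) (m + 1) (by simp)
      (zF_d _ _ z hz) ≫ L.homologyπ m = 0 := by
    rw [← toH_ofCocycle, h2]
    exact zero_comp
  obtain ⟨G', q, hq, y, hy⟩ := (L.liftCycles_comp_homologyπ_eq_zero_iff_up_to_refinements (m - 1) m (m + 1)
    (by simp) (by simp) (zF (L := I) (Scheme.Modules.pushforward f) (genPush f V) z) (zF_d _ _ z hz)).1 h5
  obtain ⟨V', h, r, hxV, hr⟩ := exists_local_section q x hx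
  refine ⟨V', h, hxV, ?_⟩
  obtain ⟨y₀, hy₀⟩ : ∃ y₀ : G' ⟶ (Scheme.Modules.pushforward f).obj (I.X (m - 1)), y₀ = y := ⟨y, rfl⟩
  have hy₀d : q ≫ genPush f V ≫ (Scheme.Modules.pushforward f).map z =
      y₀ ≫ (Scheme.Modules.pushforward f).map (I.d (m - 1) m) := by
    rw [hy₀]; exact hy
  obtain ⟨y', hy'⟩ := exists_genPush f (M := I.X (m - 1)) (r ≫ y₀)
  have h6 : y' ≫ I.d (m - 1) m = (OUF X).map (homOfLE (f.preimage_mono h)) ≫ z := by
    apply genPush_injective f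
    rw [Functor.map_comp, Functor.map_comp, ← Category.assoc, ← Category.assoc, hy', genPush_res f h, ← hr]
    simp only [Category.assoc]
    rw [hy₀d]
  rw [← cancel_mono e.hom, zero_comp, res, Category.assoc, h1, Pmap, map_ofCocycle]
  exact ofCocycle_eq_zero (by lia) _ _ y' h6

end Groth.Agent.Cohder.RpushHyp
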