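import Mathlib.CategoryTheory.Abelian.SerreClass.Localization
import Mathlib.Algebra.Homology.HomologicalComplex
import Mathlib.Algebra.Homology.Additive

/-!
# Lifting complexes along a Serre quotient functor

If `L : A ⥤ Q` is a localization of an abelian category with respect to a Serre class, then every
cochain complex in `Q` (indexed by `ℤ`) is isomorphic to the image of a cochain complex in `A`.
-/

set_option autoImplicit false
universe v v' u u'
open CategoryTheory CategoryTheory.Limits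

namespace Groth.Agent.Cohder.SerreLift

variable {A : Type u} [Category.{v} A] [Abelian A] (P : ObjectProperty A) [P.IsSerreClass]
  {Q : Type u'} [Category.{v'} Q] [Preadditive Q] (L : A ⥤ Q) [L.IsLocalization P.isoModSerre]
  [L.Additive]

include P in
lemma right_step {Y Y' : A} (f : Y ⟶ Y') {X : Q} (g : L.obj Y' ⟶ X) (hg : L.map f ≫ g = 0) :
    ∃ (Y'' : A) (g' : Y' ⟶ Y'') (e : L.obj Y'' ≅ X), f ≫ g' = 0 ∧ L.map g' ≫ e.hom = g := by
  have := Localization.essSurj L P.isoModSerre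
  obtain ⟨φ, hφ⟩ := Localization.exists_leftFraction L P.isoModSerre
    (g ≫ (L.objObjPreimageIso X).inv)
  have h1 : L.map φ.f = g ≫ (L.objObjPreimageIso X).inv ≫ L.map φ.s := by
    rw [← φ.map_comp_map_s L (Localization.inverts L P.isoModSerre), ← hφ, Category.assoc]
  have h0 : L.map (f ≫ φ.f) = 0 := by
    rw [L.map_comp, h1, reassoc_of% hg, zero_comp]
  rw [ObjectProperty.SerreClassLocalization.map_eq_zero_iff L P,
    ← ObjectProperty.exists_comp_isoModSerre_eq_zero_iff P] at h0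
  obtain ⟨Z, s, hs, hz⟩ := h0
  have h2 : IsIso (L.map s) := Localization.inverts L P.isoModSerre s hs
  refine ⟨Z, φ.f ≫ s, (asIso (L.map s)).symm ≪≫ (asIso (L.map φ.s)).symm ≪≫
    L.objObjPreimageIso X, by rw [← Category.assoc, hz], ?_⟩
  simp [h1]

include P in
lemma left_step {Y Y' : A} (f : Y ⟶ Y') {X : Q} (g : X ⟶ L.obj Y) (hg : g ≫ L.map f = 0) :
    ∃ (Y'' : A) (g' : Y'' ⟶ Y) (e : L.obj Y'' ≅ X), g' ≫ f = 0 ∧ L.map g' = e.hom ≫ g := by
  have := Localization.essSurj L P.isoModSerre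
  obtain ⟨φ, hφ⟩ := Localization.exists_rightFraction L P.isoModSerre
    ((L.objObjPreimageIso X).hom ≫ g)
  have h1 : L.map φ.f = L.map φ.s ≫ (L.objObjPreimageIso X).hom ≫ g := by
    rw [← φ.map_s_comp_map L (Localization.inverts L P.isoModSerre), ← hφ]
  have h0 : L.map (φ.f ≫ f) = 0 := by
    rw [L.map_comp, h1, Category.assoc, Category.assoc, hg, comp_zero, comp_zero]
  rw [ObjectProperty.SerreClassLocalization.map_eq_zero_iff L P,
    ← ObjectProperty.exists_isoModSerre_comp_eq_zero_iff P] at h0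
  obtain ⟨Z, s, hs, hz⟩ := h0
  have h2 : IsIso (L.map s) := Localization.inverts L P.isoModSerre s hs
  refine ⟨Z, s ≫ φ.f, asIso (L.map s) ≪≫ asIso (L.map φ.s) ≪≫
    L.objObjPreimageIso X, by rw [Category.assoc, hz], ?_⟩
  simp [h1]

/-- Auxiliary state for the recursion to the right. -/
structure RState (X : ℕ → Q) (d : ∀ n, X n ⟶ X (n + 1)) (n : ℕ) where
  Y : A
  Y' : A
  f : Y ⟶ Y'
  e : L.obj Y ≅ X n
  e' : L.obj Y' ≅ X (n + 1)
  comm : L.map f ≫ e'.hom = e.hom ≫ d n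

/-- Auxiliary state for the recursion to the left. -/
structure LState (X : ℕ → Q) (d : ∀ n, X (n + 1) ⟶ X n) (n : ℕ) where
  Y : A
  Y' : A
  f : Y' ⟶ Y
  e : L.obj Y ≅ X n
  e' : L.obj Y' ≅ X (n + 1)
  comm : L.map f ≫ e.hom = e'.hom ≫ d n

include P in
lemma right_seq (X : ℕ → Q) (d : ∀ n, X n ⟶ X (n + 1)) (hd : ∀ n, d n ≫ d (n + 1) = 0) :
    ∃ (Y : ℕ → A) (δ : ∀ n, Y n ⟶ Y (n + 1)) (e : ∀ n, L.obj (Y n) ≅ X n),
      (∀ n, δ n ≫ δ (n + 1) = 0) ∧ ∀ n, L.map (δ n) ≫ (e (n + 1)).hom = (e n).hom ≫ d n := by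
  have := Localization.essSurj L P.isoModSerre
  have step : ∀ (n : ℕ) (s : RState L X d n), ∃ (Y'' : A) (g : s.Y' ⟶ Y'')
      (e : L.obj Y'' ≅ X (n + 1 + 1)), s.f ≫ g = 0 ∧ L.map g ≫ e.hom = s.e'.hom ≫ d (n + 1) :=
    fun n s => right_step P L s.f (s.e'.hom ≫ d (n + 1)) (by
      rw [reassoc_of% s.comm, hd, comp_zero])
  choose N g e h1 h2 using step
  obtain ⟨Y1, g1, e1, -, h1'⟩ := right_step P L (0 : L.objPreimage (X 0) ⟶ L.objPreimage (X 0))
    ((L.objObjPreimageIso (X 0)).hom ≫ d 0) (by simp)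
  let s : ∀ n, RState L X d n := fun n => Nat.rec (motive := fun n => RState L X d n)
    ⟨_, Y1, g1, L.objObjPreimageIso (X 0), e1, h1'⟩
    (fun n s => ⟨s.Y', N n s, g n s, s.e', e n s, h2 n s⟩) n
  exact ⟨fun n => (s n).Y, fun n => (s n).f, fun n => (s n).e, fun n => h1 n (s n),
    fun n => (s n).comm⟩

include P in
lemma left_seq (X : ℕ → Q) (d : ∀ n, X (n + 1) ⟶ X n) (hd : ∀ n, d (n + 1) ≫ d n = 0)
    {Y0 Y1 : A} (f : Y0 ⟶ Y1) (d0 : X 0 ⟶ L.obj Y0) (h0 : d0 ≫ L.map f = 0)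
    (hd0 : d 0 ≫ d0 = 0) :
    ∃ (Y : ℕ → A) (δ : ∀ n, Y (n + 1) ⟶ Y n) (δ0 : Y 0 ⟶ Y0) (e : ∀ n, L.obj (Y n) ≅ X n),
      (∀ n, δ (n + 1) ≫ δ n = 0) ∧ (δ 0 ≫ δ0 = 0) ∧ δ0 ≫ f = 0 ∧ L.map δ0 = (e 0).hom ≫ d0 ∧
      ∀ n, L.map (δ n) ≫ (e n).hom = (e (n + 1)).hom ≫ d n := by
  have step : ∀ (n : ℕ) (s : LState L X d n), ∃ (Y'' : A) (g : Y'' ⟶ s.Y')
      (e : L.obj Y'' ≅ X (n + 1 + 1)), g ≫ s.f = 0 ∧ L.map g ≫ s.e'.hom = e.hom ≫ d (n + 1) := by
    intro n s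
    obtain ⟨Y'', g, e, h1, h2⟩ := left_step P L s.f (d (n + 1) ≫ s.e'.inv) (by
      have := s.comm
      rw [← Iso.inv_comp_eq] at this
      rw [← cancel_mono s.e.hom, Category.assoc, Category.assoc, this, hd, zero_comp])
    exact ⟨Y'', g, e, h1, by simp [h2]⟩
  choose N g e h1 h2 using step
  obtain ⟨Z0, δ0, e0, k0, k1⟩ := left_step P L f d0 h0
  obtain ⟨Z1, δ1, e1, k2, k3⟩ := left_step P L δ0 (d 0 ≫ e0.inv) (by
    rw [k1, Category.assoc, Iso.inv_hom_id_assoc, hd0])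
  let s : ∀ n, LState L X d n := fun n => Nat.rec (motive := fun n => LState L X d n)
    ⟨Z0, Z1, δ1, e0, e1, by simp [k3]⟩
    (fun n s => ⟨s.Y', N n s, g n s, s.e', e n s, h2 n s⟩) n
  exact ⟨fun n => (s n).Y, fun n => (s n).f, δ0, fun n => (s n).e, fun n => h1 n (s n),
    k2, k0, k1, fun n => (s n).comm⟩

/-- Glue two sequences of objects. -/
def glueX (Yr Yl : ℕ → A) : ℤ → A := fun n => match n with
  | .ofNat n => Yr n
  | .negSucc n => Yl n

/-- Glue two sequences of differentials. -/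
def glueD {Yr Yl : ℕ → A} (δr : ∀ n, Yr n ⟶ Yr (n + 1)) (δl : ∀ n, Yl (n + 1) ⟶ Yl n)
    (δ0 : Yl 0 ⟶ Yr 0) : ∀ n, glueX Yr Yl n ⟶ glueX Yr Yl (n + 1) := fun n => match n with
  | .ofNat n => δr n
  | .negSucc 0 => δ0
  | .negSucc (n + 1) => δl n

/-- Glue two sequences of isomorphisms. -/
def glueE {Yr Yl : ℕ → A} (X : ℤ → Q) (er : ∀ n : ℕ, L.obj (Yr n) ≅ X n)
    (el : ∀ n : ℕ, L.obj (Yl n) ≅ X (Int.negSucc n)) : ∀ n, L.obj (glueX Yr Yl n) ≅ X n :=
  fun n => match n with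
  | .ofNat n => er n
  | .negSucc n => el n

include P in
lemma exists_lift (X : CochainComplex Q ℤ) :
    ∃ (Y : ℤ → A) (δ : ∀ n, Y n ⟶ Y (n + 1)) (e : ∀ n, L.obj (Y n) ≅ X.X n),
      (∀ n, δ n ≫ δ (n + 1) = 0) ∧
      ∀ n, L.map (δ n) ≫ (e (n + 1)).hom = (e n).hom ≫ X.d n (n + 1) := by
  obtain ⟨Yr, δr, er, hr1, hr2⟩ := right_seq P L (fun n => X.X (n : ℤ))
    (fun n => X.d (n : ℤ) ((n + 1 : ℕ) : ℤ)) (fun n => by simp)
  obtain ⟨Yl, δl, δ0, el, hl1, hl2, hl3, hl4, hl5⟩ := left_seq P L (fun n => X.X (Int.negSucc n))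
    (fun n => X.d (Int.negSucc (n + 1)) (Int.negSucc n)) (fun n => by simp)
    (δr 0) (X.d (Int.negSucc 0) ((0 : ℕ) : ℤ) ≫ (er 0).inv) (by
      have := hr2 0
      rw [← Iso.inv_comp_eq] at this
      rw [← cancel_mono (er 1).hom, Category.assoc, Category.assoc, this]
      simp) (by simp)
  refine ⟨glueX Yr Yl, glueD δr δl δ0, glueE L X.X er el, ?_, ?_⟩
  · rintro (n | _ | _ | n)
    · exact hr1 n
    · exact hl3
    · exact hl2
    · exact hl1 n
  · rintro (n | _ | n)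
    · exact hr2 n
    · change L.map δ0 ≫ (er 0).hom = (el 0).hom ≫ X.d (Int.negSucc 0) ((0 : ℕ) : ℤ)
      rw [hl4]
      simp
    · exact hl5 n

include P in
/-- Every complex in the Serre quotient is isomorphic to the image of a complex. -/
lemma exists_iso_mapHomologicalComplex (X : CochainComplex Q ℤ) :
    ∃ (Y : CochainComplex A ℤ),
      Nonempty ((L.mapHomologicalComplex (ComplexShape.up ℤ)).obj Y ≅ X) := by
  obtain ⟨Y, δ, e, h1, h2⟩ := exists_lift P L X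
  refine ⟨CochainComplex.of Y δ h1, ⟨HomologicalComplex.Hom.isoOfComponents (fun n => e n) ?_⟩⟩
  intro i j hij
  obtain rfl : i + 1 = j := hij
  have h3 := CochainComplex.of_d Y δ i
  have h4 : L.map ((CochainComplex.of Y δ h1).d i (i + 1)) = L.map (δ i) := congrArg _ h3
  exact ((congrArg (· ≫ (e (i + 1)).hom) h4).trans (h2 i)).symm

end Groth.Agent.Cohder.SerreLift
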