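import Mathlib.Algebra.Homology.ShortComplex.HomologicalComplex
import Mathlib.Algebra.Homology.ShortComplex.Abelian
import Mathlib.Algebra.Homology.QuasiIso
import Mathlib.Algebra.Homology.Embedding.CochainComplex

/-!
# The stupid truncation `σ_{≥ m} K ⟶ K` of a cochain complex

`σ K m` is the subcomplex of `K` with the same terms in degrees `≥ m` and zero below; the inclusion
`σι K m` induces isomorphisms on `H^i` for `i > m` and an epimorphism on `H^m`.
-/

set_option autoImplicit false
universe v u
open CategoryTheory CategoryTheory.Limits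

namespace Groth.Agent.Cohder.StupidGE

variable {C : Type u} [Category.{v} C]

section

variable [HasZeroMorphisms C] [HasZeroObject C] (K : CochainComplex C ℤ) (m : ℤ)

open scoped ZeroObject in
/-- the terms -/
noncomputable def σX (i : ℤ) : C := if m ≤ i then K.X i else 0

/-- the inclusion of the terms -/
noncomputable def σf (i : ℤ) : σX K m i ⟶ K.X i :=
  if h : m ≤ i then eqToHom (if_pos h) else 0

lemma isZero_σX (i : ℤ) (h : i < m) : IsZero (σX K m i) := by
  rw [σX, if_neg (by omega)]
  exact isZero_zero C

lemma isIso_σf (i : ℤ) (h : m ≤ i) : IsIso (σf K m i) := by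
  rw [σf, dif_pos h]
  infer_instance

instance mono_σf (i : ℤ) : Mono (σf K m i) := by
  by_cases h : m ≤ i
  · have := isIso_σf K m i h
    infer_instance
  · exact (isZero_σX K m i (by omega)).mono _

open scoped Classical in
/-- the differential -/
noncomputable def σd (i j : ℤ) : σX K m i ⟶ σX K m j :=
  if h : m ≤ i ∧ m ≤ j then
    haveI := isIso_σf K m j h.2
    σf K m i ≫ K.d i j ≫ inv (σf K m j)
  else 0

lemma σd_σf (i j : ℤ) (hij : i + 1 = j) : σd K m i j ≫ σf K m j = σf K m i ≫ K.d i j := by
  by_cases h : m ≤ i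
  · have := isIso_σf K m j (by omega)
    rw [σd, dif_pos ⟨h, by omega⟩]
    simp
  · exact (isZero_σX K m i (by omega)).eq_of_src _ _

/-- the stupid truncation `σ_{≥ m} K`. -/
noncomputable def σ : CochainComplex C ℤ where
  X := σX K m
  d i j := σd K m i j
  shape i j hij := by
    rw [σd]
    split_ifs with h
    · rw [K.shape i j hij]
      simp
    · rfl
  d_comp_d' i j k hij hjk := by
    rw [← cancel_mono (σf K m k), Category.assoc, σd_σf K m j k hjk, ← Category.assoc,
      σd_σf K m i j hij]
    simp

/-- the inclusion `σ_{≥ m} K ⟶ K` -/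
noncomputable def σι : σ K m ⟶ K where
  f i := σf K m i
  comm' i j hij := (σd_σf K m i j hij).symm

lemma isIso_σι_f (i : ℤ) (h : m ≤ i) : IsIso ((σι K m).f i) := isIso_σf K m i h

lemma mono_σι_f (i : ℤ) : Mono ((σι K m).f i) := mono_σf K m i

lemma isZero_σ_X (i : ℤ) (h : i < m) : IsZero ((σ K m).X i) := isZero_σX K m i h

/-- terms in degrees `≥ m`. -/
noncomputable def σXIso (i : ℤ) (h : m ≤ i) : (σ K m).X i ≅ K.X i :=
  haveI := isIso_σι_f K m i h
  asIso ((σι K m).f i)

instance isStrictlyGE_σ : (σ K m).IsStrictlyGE m :=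
  (CochainComplex.isStrictlyGE_iff _ _).2 fun i hi => isZero_σ_X K m i hi

end

section

variable [Abelian C] (K : CochainComplex C ℤ) (m : ℤ)

lemma isIso_homologyMap_σι (i : ℤ) (h : m < i) :
    IsIso (HomologicalComplex.homologyMap (σι K m) i) := by
  have h1 : IsIso ((HomologicalComplex.shortComplexFunctor C (ComplexShape.up ℤ) i).map
      (σι K m)).τ₁ := isIso_σι_f K m _ (by simp; omega)
  have h2 : IsIso ((HomologicalComplex.shortComplexFunctor C (ComplexShape.up ℤ) i).map
      (σι K m)).τ₂ := isIso_σι_f K m _ (by omega)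
  have h3 : IsIso ((HomologicalComplex.shortComplexFunctor C (ComplexShape.up ℤ) i).map
      (σι K m)).τ₃ := isIso_σι_f K m _ (by simp; omega)
  have : ShortComplex.QuasiIso
      ((HomologicalComplex.shortComplexFunctor C (ComplexShape.up ℤ) i).map (σι K m)) :=
    ShortComplex.quasiIso_of_epi_of_isIso_of_mono _
  exact this.isIso'

lemma epi_homologyMap_σι : Epi (HomologicalComplex.homologyMap (σι K m) m) := by
  have h2 : IsIso ((HomologicalComplex.shortComplexFunctor C (ComplexShape.up ℤ) m).map
      (σι K m)).τ₂ := isIso_σι_f K m _ le_rfl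
  have h3 : IsIso ((HomologicalComplex.shortComplexFunctor C (ComplexShape.up ℤ) m).map
      (σι K m)).τ₃ := isIso_σι_f K m _ (by simp)
  have h4 : IsIso (ShortComplex.cyclesMap
      ((HomologicalComplex.shortComplexFunctor C (ComplexShape.up ℤ) m).map (σι K m))) :=
    ShortComplex.isIso_cyclesMap_of_isIso_of_mono _
  have h5 : Epi (HomologicalComplex.cyclesMap (σι K m) m ≫ K.homologyπ m) := by
    have : IsIso (HomologicalComplex.cyclesMap (σι K m) m) := h4
    exact epi_comp _ _
  rw [← HomologicalComplex.homologyπ_naturality] at h5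
  exact epi_of_epi ((σ K m).homologyπ m) _

end

end Groth.Agent.Cohder.StupidGE
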