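import Mathlib.Algebra.Homology.Refinements
import Mathlib.Algebra.Homology.QuasiIso
import Mathlib.Algebra.Homology.Embedding.CochainComplex
import Mathlib.CategoryTheory.Abelian.SerreClass.Basic

/-!
# Bounded above complexes with cohomology in a Serre class

`exists_quasiIso_of_isSerreClass`: let `P` be a Serre class in an abelian category such that every
epimorphism onto an object of `P` is covered by a subobject in `P`. Then a (strictly) bounded above
complex with cohomology in `P` contains a quasi-isomorphic subcomplex with terms in `P`.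
-/

set_option autoImplicit false
universe v u
open CategoryTheory CategoryTheory.Limits

namespace Groth.Agent.Cohder.SubcomplexRes

/-- A recursion principle (for a descending recursion on the integers with choices). -/
lemma exists_descending_family {T : ℤ → Type*}
    (R : ∀ i j : ℤ, i + 1 = j → T i → T j → Prop) (b : ℤ)
    (up : ∀ i, b ≤ i → T i)
    (hup : ∀ (i j : ℤ) (h : i + 1 = j), b ≤ i → ∀ (s : T i) (t : T j), R i j h s t)
    (hdown : ∀ (i j : ℤ) (h : i + 1 = j) (t : T j), ∃ s : T i, R i j h s t) :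
    ∃ s : ∀ i, T i, ∀ (i j : ℤ) (h : i + 1 = j), R i j h (s i) (s j) := by
  choose down hd using hdown
  refine ⟨fun i ↦ Int.inductionOn' i b (up b le_rfl) (fun k hk _ ↦ up (k + 1) (by lia))
    (fun k _ t ↦ down (k - 1) k (by lia) t), ?_⟩
  intro i j h
  by_cases hi : b ≤ i
  · exact hup i j h hi _ _
  · obtain rfl : i = j - 1 := by lia
    dsimp only
    rw [Int.inductionOn'_sub_one (show j ≤ b by lia)]
    exact hd _ _ _ _

variable {A : Type u} [Category.{v} A] [Abelian A]

/-- A subobject satisfying the property `P`. -/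
structure Piece (P : ObjectProperty A) (Y : A) where
  /-- the object -/
  X : A
  /-- the monomorphism -/
  a : X ⟶ Y
  mono : Mono a
  prop : P X

attribute [instance] Piece.mono

/-- The relation between two consecutive pieces of a subcomplex of `K`. -/
def Good (P : ObjectProperty A) (K : CochainComplex A ℤ) (i j : ℤ) (S : Piece P (K.X i))
    (T : Piece P (K.X j)) : Prop :=
  (∃ l : S.X ⟶ T.X, S.a ≫ K.d i j = l ≫ T.a) ∧
  (∀ ⦃B : A⦄ (x : B ⟶ T.X) (y : B ⟶ K.X i), x ≫ T.a = y ≫ K.d i j →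
    ∃ (B' : A) (π : B' ⟶ B) (_ : Epi π) (z : B' ⟶ S.X), π ≫ x ≫ T.a = z ≫ S.a ≫ K.d i j) ∧
  (∀ ⦃B : A⦄ (y : B ⟶ K.X i), y ≫ K.d i j = 0 →
    ∃ (B' : A) (π : B' ⟶ B) (_ : Epi π) (z : B' ⟶ S.X) (w : B' ⟶ K.X (i - 1)),
      π ≫ y = z ≫ S.a + w ≫ K.d (i - 1) i)

lemma exists_good (P : ObjectProperty A) [P.IsSerreClass]
    (hlift : ∀ (X Y : A) (π : X ⟶ Y), Epi π → P Y → ∃ (X' : A) (i : X' ⟶ X),
      Mono i ∧ P X' ∧ Epi (i ≫ π))
    (K : CochainComplex A ℤ) (i j : ℤ) (hij : i + 1 = j) (hK : P (K.homology i))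
    (T : Piece P (K.X j)) : ∃ S : Piece P (K.X i), Good P K i j S T := by
  obtain ⟨X₁, i₁, _, hX₁, _⟩ := hlift _ _
    (Abelian.factorThruImage (pullback.fst T.a (K.d i j))) inferInstance
      (P.prop_of_mono (Abelian.image.ι _) T.prop)
  obtain ⟨X₂, i₂, _, hX₂, _⟩ := hlift _ _ (K.homologyπ i) inferInstance hK
  let s : X₁ ⊞ X₂ ⟶ K.X i := biprod.desc (i₁ ≫ pullback.snd _ _) (i₂ ≫ K.iCycles i)
  have hs : s ≫ K.d i j = biprod.desc (i₁ ≫ pullback.fst _ _) 0 ≫ T.a := by
    ext
    · simp [s, pullback.condition]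
    · simp [s]
  have hX₁₂ : P (X₁ ⊞ X₂) := by
    exact P.prop_X₂_of_shortExact
      (ShortComplex.Splitting.ofHasBinaryBiproduct X₁ X₂).shortExact hX₁ hX₂
  have hs' : Abelian.factorThruImage s ≫ Abelian.image.ι s = s := Abelian.image.fac s
  refine ⟨⟨Abelian.image s, Abelian.image.ι s, inferInstance,
    P.prop_of_epi (Abelian.factorThruImage s) hX₁₂⟩, ?_, ?_, ?_⟩
  · have sq : CommSq (biprod.desc (i₁ ≫ pullback.fst T.a (K.d i j)) (0 : X₂ ⟶ _))
      (Abelian.factorThruImage s) T.a (Abelian.image.ι s ≫ K.d i j) := ⟨by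
        rw [reassoc_of% hs', hs]⟩
    have := strongEpi_of_epi (Abelian.factorThruImage s)
    exact ⟨sq.lift, sq.fac_right.symm⟩
  · intro B x y hxy
    obtain ⟨B', π, _, z, hz⟩ := surjective_up_to_refinements_of_epi
      (i₁ ≫ Abelian.factorThruImage (pullback.fst T.a (K.d i j)))
      (pullback.lift x y hxy ≫ Abelian.factorThruImage (pullback.fst T.a (K.d i j)))
    refine ⟨B', π, inferInstance, z ≫ biprod.inl ≫ Abelian.factorThruImage s, ?_⟩
    have h1 : π ≫ x = z ≫ i₁ ≫ pullback.fst T.a (K.d i j) := by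
      simpa [pullback.lift_fst] using hz =≫ Abelian.image.ι _
    simp only [Category.assoc, reassoc_of% hs', hs, biprod.inl_desc_assoc, reassoc_of% h1]
  · intro B y hy
    have hj : (ComplexShape.up ℤ).next i = j := by simp [hij]
    have hi : (ComplexShape.up ℤ).prev i = i - 1 := by simp
    obtain ⟨B', π, _, z, hz⟩ := surjective_up_to_refinements_of_epi
      (i₂ ≫ K.homologyπ i) (K.liftCycles y j hj hy ≫ K.homologyπ i)
    rw [← Category.assoc, ← Category.assoc,
      K.comp_homologyπ_eq_iff_up_to_refinements (i - 1) i hi] at hz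
    obtain ⟨B'', π', _, w, hw⟩ := hz
    refine ⟨B'', π' ≫ π, inferInstance, π' ≫ z ≫ biprod.inr ≫ Abelian.factorThruImage s, w, ?_⟩
    have := hw =≫ K.iCycles i
    simp only [Category.assoc, HomologicalComplex.liftCycles_i, Preadditive.add_comp,
      HomologicalComplex.toCycles_i] at this
    simp [this, s]

variable (P : ObjectProperty A) [P.IsSerreClass]

/-- Let `P` be a Serre class in an abelian category such that every
epimorphism onto an object of `P` is covered by a subobject in `P`. Then a (strictly) bounded above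
complex with cohomology in `P` contains a quasi-isomorphic subcomplex with terms in `P`. -/
lemma exists_quasiIso_of_isSerreClass
    (hlift : ∀ (X Y : A) (π : X ⟶ Y), Epi π → P Y → ∃ (X' : A) (i : X' ⟶ X),
      Mono i ∧ P X' ∧ Epi (i ≫ π))
    (K : CochainComplex A ℤ) (b : ℤ) [K.IsStrictlyLE b] (hK : ∀ i, P (K.homology i)) :
    ∃ (L : CochainComplex A ℤ) (f : L ⟶ K), L.IsStrictlyLE b ∧ (∀ i, Mono (f.f i)) ∧
      (∀ i, P (L.X i)) ∧ QuasiIso f := by
  obtain ⟨Z, hZ, hPZ⟩ := P.exists_prop_of_containsZero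
  obtain ⟨S, hS⟩ := exists_descending_family (T := fun i ↦ Piece P (K.X i))
    (fun i j _ ↦ Good P K i j) (b + 1)
    (fun i _ ↦ ⟨Z, 0, ⟨fun _ _ _ ↦ hZ.eq_of_tgt _ _⟩, hPZ⟩)
    (fun i j h hi s t ↦ by
      have h1 := K.isZero_of_isStrictlyLE b i (by lia)
      have h2 := K.isZero_of_isStrictlyLE b j (by lia)
      refine ⟨⟨0, h2.eq_of_tgt _ _⟩, fun B x y _ ↦ ⟨B, 𝟙 B, inferInstance, 0, h2.eq_of_tgt _ _⟩,
        fun B y _ ↦ ⟨B, 𝟙 B, inferInstance, 0, 0, h1.eq_of_tgt _ _⟩⟩)
    (fun i j h t ↦ exists_good P hlift K i j h (hK i) t)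
  have hd : ∀ i j : ℤ, ∃ l : (S i).X ⟶ (S j).X, (S i).a ≫ K.d i j = l ≫ (S j).a := by
    intro i j
    by_cases hij : i + 1 = j
    · exact (hS i j hij).1
    · exact ⟨0, by rw [K.shape _ _ hij, comp_zero, zero_comp]⟩
  choose d hd using hd
  let L : CochainComplex A ℤ :=
    { X i := (S i).X
      d i j := d i j
      shape i j hij := by
        rw [← cancel_mono (S j).a, ← hd, K.shape _ _ hij, comp_zero, zero_comp]
      d_comp_d' i j k _ _ := by
        rw [← cancel_mono (S k).a, Category.assoc, ← hd, ← Category.assoc, ← hd, Category.assoc,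
          K.d_comp_d, comp_zero, zero_comp] }
  let f : L ⟶ K := { f i := (S i).a, comm' i j _ := hd i j }
  have : ∀ i, Mono (f.f i) := fun i ↦ (S i).mono
  refine ⟨L, f, ?_, inferInstance, fun i ↦ (S i).prop, ?_⟩
  · rw [CochainComplex.isStrictlyLE_iff]
    intro i hi
    exact IsZero.of_mono (f.f i) (K.isZero_of_isStrictlyLE b i hi)
  · rw [quasiIso_iff]
    intro i
    rw [quasiIsoAt_iff_isIso_homologyMap]
    have hi : (ComplexShape.up ℤ).prev i = i - 1 := by simp
    have hj : (ComplexShape.up ℤ).next i = i + 1 := by simp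
    have h1 : Mono (HomologicalComplex.homologyMap f i) := by
      rw [HomologicalComplex.mono_homologyMap_iff_up_to_refinements f _ _ _ hi hj]
      intro B x _ y hxy
      obtain ⟨B', π, _, z, hz⟩ := (hS (i - 1) i (by lia)).2.1 x y hxy
      refine ⟨B', π, inferInstance, z, ?_⟩
      rw [← cancel_mono (S i).a, Category.assoc, hz, Category.assoc]
      congr 1
      exact hd _ _
    have h2 : Epi (HomologicalComplex.homologyMap f i) := by
      rw [HomologicalComplex.epi_homologyMap_iff_up_to_refinements f _ _ _ hi hj]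
      intro B y hy
      obtain ⟨B', π, _, z, w, hzw⟩ := (hS i (i + 1) rfl).2.2 y hy
      refine ⟨B', π, inferInstance, z, ?_, w, hzw⟩
      have h3 : z ≫ (S i).a = π ≫ y - w ≫ K.d (i - 1) i := by rw [hzw]; simp
      have : z ≫ d i (i + 1) ≫ (S (i + 1)).a = 0 := by
        rw [← hd, ← Category.assoc, h3, Preadditive.sub_comp, Category.assoc, hy, comp_zero,
          Category.assoc, K.d_comp_d, comp_zero, sub_zero]
      rw [← cancel_mono (S (i + 1)).a, zero_comp, Category.assoc]
      exact this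
    exact isIso_of_mono_of_epi _

end Groth.Agent.Cohder.SubcomplexRes
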