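import Mathlib.CategoryTheory.Abelian.Basic
import Mathlib.CategoryTheory.Abelian.Exact
import Mathlib.CategoryTheory.Abelian.Refinements
import Mathlib.CategoryTheory.Subobject.Lattice
import Mathlib.CategoryTheory.Subobject.Limits
import Mathlib.CategoryTheory.Simple
import Mathlib.Order.ModularLattice
import Mathlib.Order.JordanHolder

/-!
# The subobject lattice in an abelian category

* `factors_of_epi`: refinement lemma
* `sup_factors_iff`
* `isModularLattice`
* `cokernelOrderIso`: `Subobject (cokernel f) ≃o Set.Ici (Subobject.mk f)`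
* `covBy_iff_simple`
* `secondIso`
-/

set_option autoImplicit false
universe v u

open CategoryTheory CategoryTheory.Limits

namespace Groth.Agent.Cohder.SubobjLattice

variable {A : Type u} [Category.{v} A] [Abelian A]

lemma factors_of_epi {X T T' : A} {P : Subobject X} (π : T' ⟶ T) [Epi π] (f : T ⟶ X)
    (h : P.Factors (π ≫ f)) : P.Factors f := by
  have := strongEpi_of_epi π
  have sq : CommSq (P.factorThru _ h) π P.arrow f := ⟨by simp⟩
  have hl : sq.lift ≫ P.arrow = f := sq.fac_right
  rw [← hl]
  exact Subobject.factors_comp_arrow _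

lemma factors_sub {X Y : A} {P : Subobject Y} (f g : X ⟶ Y) (wf : P.Factors f)
    (wg : P.Factors g) : P.Factors (f - g) := by
  have h : (P.factorThru f wf - P.factorThru g wg) ≫ P.arrow = f - g := by simp
  rw [← h]
  exact Subobject.factors_comp_arrow _

omit [Abelian A] in
lemma le_iff_factors {X : A} {P Q : Subobject X} :
    P ≤ Q ↔ ∀ (T : A) (f : T ⟶ X), P.Factors f → Q.Factors f :=
  ⟨fun h _ f hf => Subobject.factors_of_le f h hf,
    fun h => Subobject.le_of_factors (h _ _ (Subobject.factors_self P))⟩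

/-- Generalized elements of an image. -/
lemma imageSubobject_factors_iff {X Y T : A} (g : X ⟶ Y) (f : T ⟶ Y) :
    (imageSubobject g).Factors f ↔
      ∃ (T' : A) (π : T' ⟶ T) (_ : Epi π) (a : T' ⟶ X), π ≫ f = a ≫ g := by
  constructor
  · intro h
    refine ⟨pullback ((imageSubobject g).factorThru f h) (factorThruImageSubobject g),
      pullback.fst _ _, inferInstance, pullback.snd _ _, ?_⟩
    have := (pullback.condition (f := (imageSubobject g).factorThru f h)
      (g := factorThruImageSubobject g)) =≫ (imageSubobject g).arrow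
    simpa using this
  · rintro ⟨T', π, hπ, a, ha⟩
    apply factors_of_epi π
    have h : π ≫ f = (a ≫ factorThruImageSubobject g) ≫ (imageSubobject g).arrow := by
      simp [ha]
    rw [h]
    exact Subobject.factors_comp_arrow _

lemma sup_eq_imageSubobject {X : A} (x y : Subobject X) :
    x ⊔ y = imageSubobject (biprod.desc x.arrow y.arrow) := by
  apply le_antisymm
  · apply sup_le
    · apply Subobject.le_of_factors
      rw [imageSubobject_factors_iff]
      exact ⟨_, 𝟙 (x : A), inferInstance, biprod.inl, by simp⟩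
    · apply Subobject.le_of_factors
      rw [imageSubobject_factors_iff]
      exact ⟨_, 𝟙 (y : A), inferInstance, biprod.inr, by simp⟩
  · apply imageSubobject_le (biprod.desc x.arrow y.arrow)
      (biprod.desc (Subobject.ofLE x (x ⊔ y) le_sup_left)
      (Subobject.ofLE y (x ⊔ y) le_sup_right))
    ext <;> simp

/-- Generalized elements of a supremum. -/
lemma sup_factors_iff {X T : A} (x y : Subobject X) (f : T ⟶ X) :
    (x ⊔ y).Factors f ↔ ∃ (T' : A) (π : T' ⟶ T) (_ : Epi π) (a b : T' ⟶ X),
      x.Factors a ∧ y.Factors b ∧ π ≫ f = a + b := by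
  constructor
  · intro h
    rw [sup_eq_imageSubobject, imageSubobject_factors_iff] at h
    obtain ⟨T', π, hπ, a, ha⟩ := h
    refine ⟨T', π, hπ, (a ≫ biprod.fst) ≫ x.arrow, (a ≫ biprod.snd) ≫ y.arrow,
      Subobject.factors_comp_arrow _, Subobject.factors_comp_arrow _, ?_⟩
    rw [ha, biprod.desc_eq, Preadditive.comp_add, Category.assoc, Category.assoc]
  · rintro ⟨T', π, hπ, a, b, ha, hb, hab⟩
    apply factors_of_epi π
    rw [hab]
    exact Subobject.factors_add _ _ (Subobject.sup_factors_of_factors_left ha)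
      (Subobject.sup_factors_of_factors_right hb)

/-- The lattice of subobjects of an object of an abelian category is modular. -/
instance isModularLattice (X : A) : IsModularLattice (Subobject X) where
  sup_inf_le_assoc_of_le {x} y {z} hxz := by
    rw [le_iff_factors]
    intro T f hf
    rw [Subobject.inf_factors, sup_factors_iff] at hf
    obtain ⟨⟨T', π, hπ, a, b, ha, hb, hab⟩, hz⟩ := hf
    rw [sup_factors_iff]
    refine ⟨T', π, hπ, a, b, ha, ?_, hab⟩
    rw [Subobject.inf_factors]
    refine ⟨hb, ?_⟩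
    have : b = π ≫ f - a := by rw [hab]; abel
    rw [this]
    exact factors_sub _ _ (Subobject.factors_of_factors_right π hz)
      (Subobject.factors_of_le _ hxz ha)

lemma pullback_factors_iff {X Y T : A} (p : X ⟶ Y) (P : Subobject Y) (f : T ⟶ X) :
    ((Subobject.pullback p).obj P).Factors f ↔ P.Factors (f ≫ p) := by
  have h := Subobject.isPullback p P
  constructor
  · intro hf
    have : f ≫ p = ((Subobject.pullback p).obj P).factorThru f hf ≫
        Subobject.pullbackπ p P ≫ P.arrow := by
      rw [h.w, ← Category.assoc, Subobject.factorThru_arrow]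
    rw [this, ← Category.assoc]
    exact Subobject.factors_comp_arrow _
  · intro hf
    have : h.lift (P.factorThru _ hf) f (by simp) ≫ ((Subobject.pullback p).obj P).arrow = f := by
      simp
    rw [← this]
    exact Subobject.factors_comp_arrow _

lemma pullback_le_pullback_iff {X Y : A} (p : X ⟶ Y) [Epi p] (P Q : Subobject Y) :
    (Subobject.pullback p).obj P ≤ (Subobject.pullback p).obj Q ↔ P ≤ Q := by
  constructor
  · intro h
    rw [le_iff_factors]
    intro T f hf
    apply factors_of_epi (pullback.fst f p)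
    have hc : pullback.fst f p ≫ f = pullback.snd f p ≫ p := pullback.condition
    rw [hc]
    rw [← pullback_factors_iff]
    apply Subobject.factors_of_le _ h
    rw [pullback_factors_iff, ← hc]
    exact Subobject.factors_of_factors_right _ hf
  · intro h
    exact (Subobject.pullback p).monotone h

lemma mk_kernel_le_pullback {X Y : A} (p : X ⟶ Y) (P : Subobject Y) {K : A} (i : K ⟶ X) [Mono i]
    (w : i ≫ p = 0) : Subobject.mk i ≤ (Subobject.pullback p).obj P := by
  rw [le_iff_factors]
  intro T f hf
  rw [pullback_factors_iff]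
  rw [Subobject.mk_factors_iff] at hf
  obtain ⟨g, hg⟩ := hf
  have hg' : f = (show T ⟶ K from g) ≫ i := hg.symm
  have : f ≫ p = 0 := by
    rw [hg', Category.assoc, w, comp_zero]
  rw [this]
  exact Subobject.factors_zero

lemma pullback_image_of_le {X Y : A} (p : X ⟶ Y) {K : A} (i : K ⟶ X) [Mono i]
    (w : i ≫ p = 0) (hi : IsLimit (KernelFork.ofι i w)) (Q : Subobject X)
    (hQ : Subobject.mk i ≤ Q) :
    (Subobject.pullback p).obj (imageSubobject (Q.arrow ≫ p)) = Q := by
  apply le_antisymm
  · rw [le_iff_factors]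
    intro T f hf
    rw [pullback_factors_iff, imageSubobject_factors_iff] at hf
    obtain ⟨T', π, hπ, a, ha⟩ := hf
    apply factors_of_epi π
    have h0 : (π ≫ f - a ≫ Q.arrow) ≫ p = 0 := by
      simp [Preadditive.sub_comp, ha]
    have h1 : Q.Factors (π ≫ f - a ≫ Q.arrow) := by
      apply Subobject.factors_of_le _ hQ
      rw [Subobject.mk_factors_iff]
      obtain ⟨l, hl⟩ := KernelFork.IsLimit.lift' hi _ h0
      exact ⟨l, hl⟩
    have h2 : π ≫ f = (π ≫ f - a ≫ Q.arrow) + a ≫ Q.arrow := by abel
    rw [h2]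
    exact Subobject.factors_add _ _ h1 (Subobject.factors_comp_arrow _)
  · rw [le_iff_factors]
    intro T f hf
    rw [pullback_factors_iff, imageSubobject_factors_iff]
    refine ⟨T, 𝟙 _, inferInstance, Q.factorThru f hf, ?_⟩
    rw [Category.id_comp, ← Category.assoc, Subobject.factorThru_arrow]

/-- Subobjects of a quotient correspond to subobjects containing the kernel. -/
noncomputable def quotOrderIso {X Y : A} (p : X ⟶ Y) [Epi p] {K : A} (i : K ⟶ X) [Mono i]
    (w : i ≫ p = 0) (hi : IsLimit (KernelFork.ofι i w)) :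
    Subobject Y ≃o Set.Ici (Subobject.mk i) where
  toFun P := ⟨(Subobject.pullback p).obj P, mk_kernel_le_pullback p P i w⟩
  invFun Q := imageSubobject (Q.1.arrow ≫ p)
  left_inv P := by
    apply le_antisymm
    · rw [← pullback_le_pullback_iff p, pullback_image_of_le p i w hi _
        (mk_kernel_le_pullback p P i w)]
    · rw [← pullback_le_pullback_iff p, pullback_image_of_le p i w hi _
        (mk_kernel_le_pullback p P i w)]
  right_inv Q := Subtype.ext (pullback_image_of_le p i w hi Q.1 Q.2)
  map_rel_iff' {P Q} := pullback_le_pullback_iff p P Q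

/-- Subobjects of the cokernel of a mono `i : K ⟶ X` correspond to subobjects of `X` containing
`K`. -/
noncomputable def cokernelOrderIso {K X : A} (i : K ⟶ X) [Mono i] :
    Subobject (cokernel i) ≃o Set.Ici (Subobject.mk i) :=
  quotOrderIso (cokernel.π i) i (cokernel.condition i)
    (Abelian.monoIsKernelOfCokernel _ (colimit.isColimit _))

lemma isSimpleOrder_Ici_iff {L : Type*} [Lattice L] [BoundedOrder L] (a : L) :
    IsSimpleOrder (Set.Ici a) ↔ IsCoatom a :=
  Set.isSimpleOrder_Ici_iff_isCoatom

lemma simple_cokernel_iff {K X : A} (i : K ⟶ X) [Mono i] :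
    Simple (cokernel i) ↔ IsCoatom (Subobject.mk i) := by
  rw [simple_iff_subobject_isSimpleOrder, ← Set.isSimpleOrder_Ici_iff_isCoatom]
  exact (cokernelOrderIso i).isSimpleOrder_iff

omit [Abelian A] in
lemma map_mk_ofLE {X : A} {F G : Subobject X} (h : F ≤ G) :
    (Subobject.map G.arrow).obj (Subobject.mk (Subobject.ofLE F G h)) = F := by
  rw [Subobject.map_mk]
  simp only [Subobject.ofLE_arrow, Subobject.mk_arrow]

lemma covBy_iff_simple {X : A} {F G : Subobject X} (h : F ≤ G) :
    F ⋖ G ↔ Simple (cokernel (Subobject.ofLE F G h)) := by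
  rw [simple_cokernel_iff, covBy_iff_coatom_Iic h]
  have : (Subobject.subobjectOrderIso G).symm (⟨F, h⟩ : Set.Iic G) =
      Subobject.mk (Subobject.ofLE F G h) := rfl
  rw [← this, OrderIso.isCoatom_iff]

/-- The second isomorphism theorem. -/
lemma secondIso {X : A} (F G : Subobject X) (h₁ : F ⊓ G ≤ G) (h₂ : F ≤ F ⊔ G) :
    Nonempty (cokernel (Subobject.ofLE (F ⊓ G) G h₁) ≅ cokernel (Subobject.ofLE F (F ⊔ G) h₂)) := by
  let φ : cokernel (Subobject.ofLE (F ⊓ G) G h₁) ⟶ cokernel (Subobject.ofLE F (F ⊔ G) h₂) :=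
    cokernel.map _ _ (Subobject.ofLE _ _ inf_le_left) (Subobject.ofLE _ _ le_sup_right) (by simp)
  have hepi : Epi φ := by
    rw [epi_iff_surjective_up_to_refinements]
    intro T y
    obtain ⟨T₁, π₁, hπ₁, y₁, hy₁⟩ := surjective_up_to_refinements_of_epi
      (cokernel.π (Subobject.ofLE F (F ⊔ G) h₂)) y
    obtain ⟨T₂, π₂, hπ₂, a, b, ha, hb, hab⟩ := (sup_factors_iff F G (y₁ ≫ (F ⊔ G).arrow)).1
      (Subobject.factors_comp_arrow _)
    refine ⟨T₂, π₂ ≫ π₁, inferInstance, G.factorThru b hb ≫ cokernel.π _, ?_⟩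
    have h3 : π₂ ≫ y₁ = F.factorThru a ha ≫ Subobject.ofLE F (F ⊔ G) h₂ +
        G.factorThru b hb ≫ Subobject.ofLE G (F ⊔ G) le_sup_right := by
      rw [← cancel_mono (F ⊔ G).arrow]
      simp [hab]
    rw [Category.assoc, hy₁, ← Category.assoc, h3]
    simp [φ, Preadditive.add_comp]
  have hmono : Mono φ := by
    rw [Preadditive.mono_iff_cancel_zero]
    intro T y hy
    obtain ⟨T₁, π₁, hπ₁, y₁, hy₁⟩ := surjective_up_to_refinements_of_epi
      (cokernel.π (Subobject.ofLE (F ⊓ G) G h₁)) y
    have h4 : (y₁ ≫ Subobject.ofLE G (F ⊔ G) le_sup_right) ≫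
        cokernel.π (Subobject.ofLE F (F ⊔ G) h₂) = 0 := by
      have : (y₁ ≫ Subobject.ofLE G (F ⊔ G) le_sup_right) ≫
        cokernel.π (Subobject.ofLE F (F ⊔ G) h₂) = π₁ ≫ y ≫ φ := by
        rw [← Category.assoc π₁, hy₁]
        simp [φ]
      rw [this, hy, comp_zero]
    have hl := Abelian.monoLift_comp (Subobject.ofLE F (F ⊔ G) h₂) _ h4
    have h5 : F.Factors (y₁ ≫ G.arrow) := by
      have : y₁ ≫ G.arrow = Abelian.monoLift (Subobject.ofLE F (F ⊔ G) h₂) _ h4 ≫ F.arrow := by
        have := hl =≫ (F ⊔ G).arrow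
        simp only [Category.assoc, Subobject.ofLE_arrow] at this
        exact this.symm
      rw [this]
      exact Subobject.factors_comp_arrow _
    have h6 : (F ⊓ G).Factors (y₁ ≫ G.arrow) := by
      rw [Subobject.inf_factors]
      exact ⟨h5, Subobject.factors_comp_arrow _⟩
    have h7 : y₁ = (F ⊓ G).factorThru _ h6 ≫ Subobject.ofLE (F ⊓ G) G h₁ := by
      rw [← cancel_mono G.arrow]
      simp
    rw [← cancel_epi π₁, hy₁, h7]
    simp
  have := isIso_of_mono_of_epi φ
  exact ⟨asIso φ⟩

end Groth.Agent.Cohder.SubobjLattice
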