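import Groth.Prelude.Def_DerLim
import Mathlib.Algebra.Homology.ShortComplex.ShortExact
import Mathlib.CategoryTheory.Abelian.GrothendieckAxioms.Basic
import Mathlib.CategoryTheory.Functor.OfSequence
import Mathlib.CategoryTheory.Preadditive.Basic

/-!
# The telescope short exact sequence

`0 → ⨁ Fₙ → ⨁ Fₙ → colim F → 0` in an abelian category with exact sequential colimits,
for a sequence whose direct sum exists.
-/

set_option autoImplicit false
universe v u
open CategoryTheory CategoryTheory.Limits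

namespace Groth.Agent.Cohder.Telescope

section

variable {A : Type u} [Category.{v} A] [Preadditive A] (K : ℕ → A) [HasCoproduct K]

/-- the truncation idempotent: identity on the summands of index `< n`, zero on the others. -/
noncomputable def trunc (n : ℕ) : (∐ K) ⟶ ∐ K :=
  Sigma.desc (fun k => if k < n then Sigma.ι K k else 0)

@[reassoc]
lemma ι_trunc_of_lt {n k : ℕ} (h : k < n) : Sigma.ι K k ≫ trunc K n = Sigma.ι K k := by
  simp [trunc, h]

@[reassoc]
lemma ι_trunc_of_not_lt {n k : ℕ} (h : ¬ k < n) : Sigma.ι K k ≫ trunc K n = 0 := by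
  simp [trunc, h]

lemma trunc_zero : trunc K 0 = 0 := by
  ext k
  rw [ι_trunc_of_not_lt K (Nat.not_lt_zero k), comp_zero]

lemma shiftMap_trunc_succ (f : ∀ n, K n ⟶ K (n + 1)) (n : ℕ) :
    DerLim.shiftMap K f ≫ trunc K (n + 1) = trunc K n ≫ DerLim.shiftMap K f := by
  ext k
  by_cases h : k < n
  · rw [ι_trunc_of_lt_assoc K h]
    simp only [DerLim.shiftMap, colimit.ι_desc_assoc, Cofan.mk_pt, Cofan.mk_ι_app,
      Category.assoc, colimit.ι_desc]
    rw [ι_trunc_of_lt K (by omega)]
  · rw [ι_trunc_of_not_lt_assoc K h]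
    simp only [DerLim.shiftMap, colimit.ι_desc_assoc, Cofan.mk_pt, Cofan.mk_ι_app,
      Category.assoc]
    rw [ι_trunc_of_not_lt K (by omega), comp_zero, zero_comp]

lemma comp_trunc_eq_zero (f : ∀ n, K n ⟶ K (n + 1)) {T : A} (x : T ⟶ ∐ K)
    (hx : x ≫ DerLim.shiftMap K f = x) (n : ℕ) : x ≫ trunc K n = 0 := by
  induction n with
  | zero => rw [trunc_zero, comp_zero]
  | succ n ih =>
    rw [← hx, Category.assoc, shiftMap_trunc_succ, ← Category.assoc, ih, zero_comp]

/-- the sequence with all terms `∐ K` whose `n`-th transition map kills the summands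
of index `≤ n`. -/
noncomputable def tailSeq : ℕ ⥤ A :=
  Functor.ofSequence (X := fun _ => ∐ K) (fun n => 𝟙 _ - trunc K (n + 1))

lemma tailSeq_map_succ (n : ℕ) :
    (tailSeq K).map (homOfLE (Nat.le_add_right n 1)) = 𝟙 (∐ K) - trunc K (n + 1) :=
  Functor.ofSequence_map_homOfLE_succ _ n

/-- the natural transformation from a constant sequence to the tail sequence given by a morphism
killed by all truncations. -/
noncomputable def toTailSeq {T : A} (x : T ⟶ ∐ K) (hx : ∀ n, x ≫ trunc K n = 0) :
    (Functor.const ℕ).obj T ⟶ tailSeq K :=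
  NatTrans.ofSequence (fun _ => x) (fun n => by
    rw [tailSeq_map_succ]
    erw [Preadditive.comp_sub, hx, sub_zero, Category.comp_id]
    simp)

lemma cocone_tailSeq_w (s : Cocone (tailSeq K)) (n : ℕ) :
    (𝟙 (∐ K) - trunc K (n + 1)) ≫ s.ι.app (n + 1) = s.ι.app n := by
  rw [← s.w (homOfLE (Nat.le_add_right n 1)), tailSeq_map_succ]
  rfl

lemma ι_tailSeq_eq_zero (s : Cocone (tailSeq K)) (m : ℕ) :
    ∀ (n k : ℕ) (_ : k ≤ n + m), Sigma.ι K k ≫ s.ι.app n = 0 := by
  have key : ∀ (n k : ℕ), k ≤ n → Sigma.ι K k ≫ s.ι.app n = 0 := by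
    intro n k h
    rw [← cocone_tailSeq_w, ← Category.assoc, Preadditive.comp_sub, Category.comp_id,
      ι_trunc_of_lt K (by omega), sub_self, zero_comp]
  induction m with
  | zero => exact fun n k h => key n k h
  | succ m ih =>
    intro n k h
    by_cases h' : k ≤ n
    · exact key n k h'
    · rw [← cocone_tailSeq_w, ← Category.assoc, Preadditive.comp_sub, Category.comp_id,
        ι_trunc_of_not_lt K (by omega), sub_zero]
      exact ih (n + 1) k (by omega)

lemma cocone_tailSeq_eq_zero (s : Cocone (tailSeq K)) (n : ℕ) : s.ι.app n = 0 := by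
  apply Sigma.hom_ext
  intro k
  exact (ι_tailSeq_eq_zero K s k n k (by omega)).trans comp_zero.symm

end

section

variable {A : Type u} [Category.{v} A] [Abelian A]
    [HasColimitsOfShape ℕ A] [HasExactColimitsOfShape ℕ A]

lemma eq_zero_of_comp_trunc (K : ℕ → A) [HasCoproduct K] {T : A} (x : T ⟶ ∐ K)
    (hx : ∀ n, x ≫ trunc K n = 0) : x = 0 := by
  -- reduce to the case of a monomorphism
  suffices h : ∀ {T : A} (x : T ⟶ ∐ K) (_ : Mono x) (_ : ∀ n, x ≫ trunc K n = 0), x = 0 by
    have hx' : Limits.image.ι x = 0 := h (Limits.image.ι x) inferInstance (fun n => by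
      rw [← cancel_epi (factorThruImage x), image.fac_assoc, hx, comp_zero])
    rw [← image.fac x, hx', comp_zero]
  intro T x _ hx
  let τ := toTailSeq K x hx
  have : ∀ n, Mono (τ.app n) := fun n => (inferInstance : Mono x)
  have : Mono τ := NatTrans.mono_of_mono_app _
  have hmono : Mono (colim.map τ) := inferInstance
  have hz : colim.map τ = 0 := by
    apply colimit.hom_ext
    intro n
    rw [comp_zero]
    have h0 : colimit.ι (tailSeq K) n = 0 :=
      cocone_tailSeq_eq_zero K (colimit.cocone (tailSeq K)) n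
    refine (ι_colimMap τ n).trans ?_
    rw [h0, comp_zero]
  have hι : colimit.ι ((Functor.const ℕ).obj T) 0 = 0 := by
    rw [← cancel_mono (colim.map τ), hz, comp_zero, comp_zero]
  let c : Cocone ((Functor.const ℕ).obj T) := ⟨T, 𝟙 _⟩
  have hid : colimit.ι ((Functor.const ℕ).obj T) 0 ≫ colimit.desc _ c = 𝟙 T := by
    rw [colimit.ι_desc]; rfl
  rw [hι, zero_comp] at hid
  rw [← Category.id_comp x, ← hid, zero_comp]

lemma mono_id_sub_shiftMap (K : ℕ → A) [HasCoproduct K] (f : ∀ n, K n ⟶ K (n + 1)) :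
    Mono (𝟙 (∐ K) - DerLim.shiftMap K f) := by
  refine Preadditive.mono_of_cancel_zero _ (fun {T} x hx => ?_)
  rw [Preadditive.comp_sub, Category.comp_id, sub_eq_zero] at hx
  exact eq_zero_of_comp_trunc K x (comp_trunc_eq_zero K f x hx.symm)

omit [HasExactColimitsOfShape ℕ A] in
@[reassoc]
lemma telescope_w (F : ℕ ⥤ A) [HasCoproduct F.obj] :
    (𝟙 (∐ F.obj) - DerLim.shiftMap F.obj (fun n => F.map (homOfLE (Nat.le_succ n)))) ≫
        Sigma.desc (fun n => colimit.ι F n) = 0 := by
  apply Sigma.hom_ext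
  intro n
  rw [Preadditive.sub_comp, Category.id_comp, Preadditive.comp_sub, comp_zero, sub_eq_zero,
    Sigma.ι_desc, DerLim.shiftMap, Sigma.ι_desc_assoc, Category.assoc, Sigma.ι_desc,
    colimit.w]

/-- the cocone over a sequence `F` attached to a morphism from the direct sum killed
by `1 - shift`. -/
noncomputable def coconeOfHom (F : ℕ ⥤ A) [HasCoproduct F.obj] {Z : A} (k : (∐ F.obj) ⟶ Z)
    (hk : (𝟙 (∐ F.obj) - DerLim.shiftMap F.obj (fun n => F.map (homOfLE (Nat.le_succ n)))) ≫
        k = 0) : Cocone F where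
  pt := Z
  ι := NatTrans.ofSequence (fun n => Sigma.ι F.obj n ≫ k) (fun n => by
    have h := Sigma.ι F.obj n ≫= hk
    rw [Preadditive.sub_comp, Category.id_comp, Preadditive.comp_sub, comp_zero, sub_eq_zero,
      DerLim.shiftMap, Sigma.ι_desc_assoc, Category.assoc] at h
    exact h.symm.trans (Category.comp_id _).symm)

/-- the morphism from the colimit attached to a morphism from the direct sum killed
by `1 - shift`. -/
noncomputable def descOfHom (F : ℕ ⥤ A) [HasCoproduct F.obj] {Z : A} (k : (∐ F.obj) ⟶ Z)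
    (hk : (𝟙 (∐ F.obj) - DerLim.shiftMap F.obj (fun n => F.map (homOfLE (Nat.le_succ n)))) ≫
        k = 0) : colimit F ⟶ Z :=
  colimit.desc F (coconeOfHom F k hk)

omit [HasExactColimitsOfShape ℕ A] in
@[reassoc]
lemma ι_descOfHom (F : ℕ ⥤ A) [HasCoproduct F.obj] {Z : A} (k : (∐ F.obj) ⟶ Z)
    (hk : (𝟙 (∐ F.obj) - DerLim.shiftMap F.obj (fun n => F.map (homOfLE (Nat.le_succ n)))) ≫
        k = 0) (n : ℕ) : colimit.ι F n ≫ descOfHom F k hk = Sigma.ι F.obj n ≫ k :=
  colimit.ι_desc _ _

/-- `colim F` is the cokernel of `1 - shift`. -/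
noncomputable def isColimitTelescope (F : ℕ ⥤ A) [HasCoproduct F.obj] :
    IsColimit (CokernelCofork.ofπ _ (telescope_w F)) :=
  CokernelCofork.IsColimit.ofπ _ _
    (fun {Z} k hk => descOfHom F k hk)
    (fun {Z} k hk => by
      apply Sigma.hom_ext
      intro n
      rw [Sigma.ι_desc_assoc, ι_descOfHom])
    (fun {Z} k hk b hb => by
      apply colimit.hom_ext
      intro n
      rw [ι_descOfHom, ← hb, Sigma.ι_desc_assoc])

/-- Stacks 093W. -/
theorem telescope_shortExact (F : ℕ ⥤ A) [HasCoproduct F.obj] :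
    (ShortComplex.mk _ _ (telescope_w F)).ShortExact where
  exact := ShortComplex.exact_of_g_is_cokernel _ (isColimitTelescope F)
  mono_f := mono_id_sub_shiftMap F.obj _
  epi_g := epi_of_isColimit_cofork (isColimitTelescope F)

end

end Groth.Agent.Cohder.Telescope
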