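import Groth.Prelude.Def_DerLim
import Mathlib.CategoryTheory.Limits.Preserves.Shapes.Products
import Mathlib.CategoryTheory.Preadditive.AdditiveFunctor

/-!
# `1 - shift` and functors preserving the direct sum
-/

set_option autoImplicit false
universe v v' u u'
open CategoryTheory CategoryTheory.Limits

namespace Groth.Agent.Cohder.TelescopeMap

variable {D : Type u} [Category.{v} D] [Preadditive D] {A : Type u'} [Category.{v'} A]
  [Preadditive A] (G : D ⥤ A) [G.Additive] (K : ℕ → D) [HasCoproduct K]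
  [HasCoproduct (fun n => G.obj (K n))] [PreservesColimit (Discrete.functor K) G]

omit [Preadditive D] [Preadditive A] [G.Additive] [HasCoproduct (fun n => G.obj (K n))] in
/-- the direct sum of the images exists when the functor preserves the direct sum. -/
lemma hasCoproduct_map : HasCoproduct (fun n => G.obj (K n)) :=
  ⟨⟨⟨_, isColimitCofanMkObjOfIsColimit G K _ (coproductIsCoproduct K)⟩⟩⟩

/-- the comparison isomorphism -/
noncomputable def coprodIso : G.obj (∐ K) ≅ ∐ (fun n => G.obj (K n)) :=
  PreservesCoproduct.iso G K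

omit [Preadditive D] [Preadditive A] [G.Additive] in
@[reassoc (attr := simp)]
lemma ι_coprodIso_inv (n : ℕ) :
    Sigma.ι (fun n => G.obj (K n)) n ≫ (coprodIso G K).inv = G.map (Sigma.ι K n) :=
  ι_comp_sigmaComparison G K n

omit [Preadditive D] [Preadditive A] [G.Additive] in
@[reassoc (attr := simp)]
lemma map_ι_coprodIso_hom (n : ℕ) :
    G.map (Sigma.ι K n) ≫ (coprodIso G K).hom = Sigma.ι (fun n => G.obj (K n)) n := by
  rw [← Iso.eq_comp_inv, ι_coprodIso_inv]

@[reassoc]
lemma id_sub_shiftMap_coprodIso_inv (f : ∀ n, K n ⟶ K (n + 1)) :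
    (𝟙 (∐ fun n => G.obj (K n)) -
      DerLim.shiftMap (fun n => G.obj (K n)) (fun n => G.map (f n))) ≫ (coprodIso G K).inv =
    (coprodIso G K).inv ≫ G.map (𝟙 (∐ K) - DerLim.shiftMap K f) := by
  apply Sigma.hom_ext
  intro n
  rw [Preadditive.sub_comp, Preadditive.comp_sub, Category.id_comp, ι_coprodIso_inv_assoc,
    DerLim.shiftMap, Sigma.ι_desc_assoc, Category.assoc, ι_coprodIso_inv, ι_coprodIso_inv,
    ← Functor.map_comp, ← Functor.map_comp, ← Functor.map_sub]
  congr 1
  rw [Preadditive.comp_sub, Category.comp_id, DerLim.shiftMap, Sigma.ι_desc]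

omit [Preadditive D] [Preadditive A] [G.Additive] in
@[reassoc]
lemma desc_map_eq {L : D} (i : ∀ n, K n ⟶ L) :
    Sigma.desc (fun n => G.map (i n)) = (coprodIso G K).inv ≫ G.map (Sigma.desc i) := by
  apply Sigma.hom_ext
  intro n
  rw [Sigma.ι_desc, ι_coprodIso_inv_assoc, ← Functor.map_comp, Sigma.ι_desc]

end Groth.Agent.Cohder.TelescopeMap
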