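import Groth.Agent.Cohder.Telescope

/-!
# The telescope short exact sequence, version for a sequence of morphisms
-/

set_option autoImplicit false
universe v u
open CategoryTheory CategoryTheory.Limits

namespace Groth.Agent.Cohder.TelescopeSeq

open Groth.Agent.Cohder.Telescope

variable {A : Type u} [Category.{v} A]
    [HasColimitsOfShape ℕ A] {K : ℕ → A} (f : ∀ n, K n ⟶ K (n + 1))

/-- the colimit of a sequence -/
noncomputable abbrev colimSeq : A := colimit (Functor.ofSequence f)

/-- the canonical maps to the colimit of a sequence -/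
noncomputable def ιSeq (n : ℕ) : K n ⟶ colimSeq f := colimit.ι (Functor.ofSequence f) n

@[reassoc (attr := simp)]
lemma f_ιSeq (n : ℕ) : f n ≫ ιSeq f (n + 1) = ιSeq f n := by
  have h := colimit.w (Functor.ofSequence f) (homOfLE (Nat.le_add_right n 1))
  rw [Functor.ofSequence_map_homOfLE_succ] at h
  exact h

variable {f} in
lemma seq_hom_ext {Z : A} {a b : colimSeq f ⟶ Z} (h : ∀ n, ιSeq f n ≫ a = ιSeq f n ≫ b) :
    a = b :=
  colimit.hom_ext h

/-- the universal property of the colimit of a sequence -/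
noncomputable def descSeq {Z : A} (k : ∀ n, K n ⟶ Z) (hk : ∀ n, f n ≫ k (n + 1) = k n) :
    colimSeq f ⟶ Z :=
  colimit.desc (Functor.ofSequence f)
    { pt := Z
      ι := NatTrans.ofSequence (F := Functor.ofSequence f) (G := (Functor.const ℕ).obj Z) k
        (fun n => by
          rw [Functor.ofSequence_map_homOfLE_succ]
          exact (hk n).trans (Category.comp_id _).symm) }

@[reassoc (attr := simp)]
lemma ι_descSeq {Z : A} (k : ∀ n, K n ⟶ Z) (hk : ∀ n, f n ≫ k (n + 1) = k n) (n : ℕ) :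
    ιSeq f n ≫ descSeq f k hk = k n :=
  colimit.ι_desc _ n

section

variable [Preadditive A] [HasCoproduct K]

@[reassoc]
lemma seq_w : (𝟙 (∐ K) - DerLim.shiftMap K f) ≫ Sigma.desc (ιSeq f) = 0 := by
  apply Sigma.hom_ext
  intro n
  rw [Preadditive.sub_comp, Category.id_comp, Preadditive.comp_sub, comp_zero, sub_eq_zero,
    Sigma.ι_desc, DerLim.shiftMap, Sigma.ι_desc_assoc, Category.assoc, Sigma.ι_desc, f_ιSeq]

omit [HasColimitsOfShape ℕ A] in
variable {f} in
lemma comp_eq_of_w {Z : A} {k : (∐ K) ⟶ Z} (hk : (𝟙 (∐ K) - DerLim.shiftMap K f) ≫ k = 0) (n : ℕ) :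
    f n ≫ Sigma.ι K (n + 1) ≫ k = Sigma.ι K n ≫ k := by
  have h := Sigma.ι K n ≫= hk
  rw [Preadditive.sub_comp, Category.id_comp, Preadditive.comp_sub, comp_zero, sub_eq_zero,
    DerLim.shiftMap, Sigma.ι_desc_assoc, Category.assoc] at h
  exact h.symm

/-- The universal property of the colimit of a sequence, in terms of the direct sum. -/
noncomputable def descSeq' {Z : A} (k : (∐ K) ⟶ Z)
    (hk : (𝟙 (∐ K) - DerLim.shiftMap K f) ≫ k = 0) : colimSeq f ⟶ Z :=
  descSeq f (fun n => Sigma.ι K n ≫ k) (comp_eq_of_w hk)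

@[reassoc (attr := simp)]
lemma ι_descSeq' {Z : A} (k : (∐ K) ⟶ Z) (hk : (𝟙 (∐ K) - DerLim.shiftMap K f) ≫ k = 0) (n : ℕ) :
    ιSeq f n ≫ descSeq' f k hk = Sigma.ι K n ≫ k :=
  ι_descSeq _ _ _ _

@[reassoc (attr := simp)]
lemma π_descSeq' {Z : A} (k : (∐ K) ⟶ Z) (hk : (𝟙 (∐ K) - DerLim.shiftMap K f) ≫ k = 0) :
    Sigma.desc (ιSeq f) ≫ descSeq' f k hk = k := by
  apply Sigma.hom_ext
  intro n
  rw [Sigma.ι_desc_assoc, ι_descSeq']

/-- The colimit of the sequence is the cokernel of `1 - shift`. -/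
noncomputable def isColimitSeq : IsColimit (CokernelCofork.ofπ _ (seq_w f)) :=
  CokernelCofork.IsColimit.ofπ _ _
    (fun {Z} k hk => descSeq' f k hk)
    (fun {Z} k hk => π_descSeq' f k hk)
    (fun {Z} k hk b hb => by
      apply seq_hom_ext
      intro n
      rw [ι_descSeq', ← hb, Sigma.ι_desc_assoc])

instance : Epi (Sigma.desc (ιSeq f)) := epi_of_isColimit_cofork (isColimitSeq f)

end

/-- Stacks 093W, for a sequence of morphisms. -/
theorem seq_shortExact {A : Type u} [Category.{v} A] [Abelian A]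
    [HasColimitsOfShape ℕ A] [HasExactColimitsOfShape ℕ A] {K : ℕ → A}
    (f : ∀ n, K n ⟶ K (n + 1)) [HasCoproduct K] :
    (ShortComplex.mk _ _ (seq_w f)).ShortExact where
  exact := ShortComplex.exact_of_g_is_cokernel _ (isColimitSeq f)
  mono_f := mono_id_sub_shiftMap K f
  epi_g := epi_of_isColimit_cofork (isColimitSeq f)

end Groth.Agent.Cohder.TelescopeSeq
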