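import Mathlib.Algebra.Homology.Embedding.CochainComplex
import Mathlib.Algebra.Homology.HomologicalComplexLimits
import Mathlib.Algebra.Homology.HomologicalComplexAbelian
import Mathlib.CategoryTheory.Limits.Preserves.Shapes.Products
import Mathlib.CategoryTheory.Abelian.Exact

/-!
# The telescope sequence of an eventually constant tower
-/

set_option autoImplicit false
universe v u w
open CategoryTheory CategoryTheory.Limits

namespace Groth.Agent.Cohder.TelescopeTower

section general

variable {C : Type u} [Category.{v} C] [Preadditive C]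

/-- In an eventually constant tower, `1 - shift` is surjective on `Z`-points. -/
lemma exists_sub_eq (N : ℕ) : ∀ {T : ℕ → C} (t : ∀ n, T (n + 1) ⟶ T n)
    (_ : ∀ n, N ≤ n → IsIso (t n)) {Z : C} (y : ∀ n, Z ⟶ T n),
    ∃ x : ∀ n, Z ⟶ T n, ∀ n, x n - x (n + 1) ≫ t n = y n := by
  induction N with
  | zero =>
    intro T t ht Z y
    have ht' : ∀ n, IsIso (t n) := fun n => ht n (Nat.zero_le _)
    refine ⟨fun n => Nat.rec (motive := fun n => Z ⟶ T n) 0 (fun n x => (x - y n) ≫ inv (t n)) n,
      fun n => ?_⟩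
    dsimp
    simp
  | succ N ih =>
    intro T t ht Z y
    obtain ⟨x, hx⟩ := ih (T := fun n => T (n + 1)) (fun n => t (n + 1))
      (fun n hn => ht (n + 1) (Nat.succ_le_succ hn)) (fun n => y (n + 1))
    refine ⟨fun n => Nat.casesOn (motive := fun n => Z ⟶ T n) n (y 0 + x 0 ≫ t 0) x, fun n => ?_⟩
    cases n with
    | zero => simp
    | succ n => exact hx n

omit [Preadditive C] in
/-- In an eventually constant tower under `X`, compatible families come from `X`. -/
lemma exists_comp_eq {X : C} (N : ℕ) : ∀ {T : ℕ → C} (t : ∀ n, T (n + 1) ⟶ T n)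
    (π : ∀ n, X ⟶ T n) (_ : ∀ n, π (n + 1) ≫ t n = π n)
    (_ : ∀ n, N ≤ n → IsIso (π n)) {Z : C} (x : ∀ n, Z ⟶ T n) (_ : ∀ n, x (n + 1) ≫ t n = x n),
    ∃ z : Z ⟶ X, ∀ n, z ≫ π n = x n := by
  induction N with
  | zero =>
    intro T t π hπ hiso Z x hx
    have hiso' : ∀ n, IsIso (π n) := fun n => hiso n (Nat.zero_le _)
    refine ⟨x 0 ≫ inv (π 0), fun n => ?_⟩
    induction n with
    | zero => simp
    | succ n ih =>
      have ht : IsIso (t n) := by
        have : IsIso (π (n + 1) ≫ t n) := by rw [hπ]; infer_instance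
        exact IsIso.of_isIso_comp_left (π (n + 1)) (t n)
      rw [← cancel_mono (t n), Category.assoc, hπ, ih, hx]
  | succ N ih =>
    intro T t π hπ hiso Z x hx
    obtain ⟨z, hz⟩ := ih (T := fun n => T (n + 1)) (fun n => t (n + 1)) (fun n => π (n + 1))
      (fun n => hπ (n + 1)) (fun n hn => hiso (n + 1) (Nat.succ_le_succ hn))
      (fun n => x (n + 1)) (fun n => hx (n + 1))
    refine ⟨z, fun n => ?_⟩
    cases n with
    | zero => rw [← hπ 0, reassoc_of% (hz 0), hx]
    | succ n => exact hz n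

end general

section abelian

variable {C : Type u} [Category.{v} C] [Abelian C]

/-- The telescope sequence `X → ∏ T_n → ∏ T_n`. -/
lemma shortExact_of_eventually_iso {X P : C} {T : ℕ → C} (t : ∀ n, T (n + 1) ⟶ T n)
    (π : ∀ n, X ⟶ T n) (hπ : ∀ n, π (n + 1) ≫ t n = π n) (N : ℕ)
    (hiso : ∀ n, N ≤ n → IsIso (π n))
    (p : ∀ n, P ⟶ T n) (hP : IsLimit (Fan.mk P p))
    (f : X ⟶ P) (hf : ∀ n, f ≫ p n = π n)
    (g : P ⟶ P) (hg : ∀ n, g ≫ p n = p n - p (n + 1) ≫ t n) (w : f ≫ g = 0) :
    (ShortComplex.mk f g w).ShortExact := by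
  have hm : Mono f := by
    have := hiso N le_rfl
    have : Mono (f ≫ p N) := by rw [hf]; infer_instance
    exact mono_of_mono f (p N)
  have he : Epi g := by
    have ht : ∀ n, N ≤ n → IsIso (t n) := fun n hn => by
      have := hiso (n + 1) (by omega)
      have := hiso n hn
      have : IsIso (π (n + 1) ≫ t n) := by rw [hπ]; infer_instance
      exact IsIso.of_isIso_comp_left (π (n + 1)) (t n)
    obtain ⟨x, hx⟩ := exists_sub_eq N t ht p
    have : Fan.IsLimit.lift hP x ≫ g = 𝟙 _ := by
      refine Fan.IsLimit.hom_ext hP _ _ (fun n => ?_)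
      change _ ≫ p n = _ ≫ p n
      have e1 := Fan.IsLimit.fac hP x n
      have e2 := Fan.IsLimit.fac hP x (n + 1)
      dsimp at e1 e2
      rw [Category.assoc, hg, Preadditive.comp_sub, e1, reassoc_of% e2, hx, Category.id_comp]
    exact (SplitEpi.mk _ this).epi
  refine { exact := ShortComplex.exact_of_f_is_kernel _ (KernelFork.IsLimit.ofι' _ _ ?_)
           mono_f := hm
           epi_g := he }
  intro Z k hk
  dsimp at k hk
  have hx : ∀ n, (k ≫ p (n + 1)) ≫ t n = k ≫ p n := by
    intro n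
    have := hk =≫ p n
    rw [Category.assoc, hg, zero_comp, Preadditive.comp_sub, sub_eq_zero] at this
    rw [Category.assoc, ← this]
  refine ⟨(exists_comp_eq N t π hπ hiso (fun n => k ≫ p n) hx).choose, ?_⟩
  refine Fan.IsLimit.hom_ext hP _ _ (fun n => ?_)
  change _ ≫ p n = _ ≫ p n
  dsimp
  rw [Category.assoc, hf, (exists_comp_eq N t π hπ hiso (fun n => k ≫ p n) hx).choose_spec n]

end abelian

section complexes

variable {C : Type u} [Category.{v} C] [Abelian C]

/-- The telescope sequence `K → ∏ T_n → ∏ T_n` of complexes. -/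
lemma shortExact_of_eventually_iso_complex {ι : Type w} {c : ComplexShape ι}
    {X P : HomologicalComplex C c} {T : ℕ → HomologicalComplex C c}
    (t : ∀ n, T (n + 1) ⟶ T n)
    (π : ∀ n, X ⟶ T n) (hπ : ∀ n, π (n + 1) ≫ t n = π n)
    (hiso : ∀ i, ∃ N : ℕ, ∀ n, N ≤ n → IsIso ((π n).f i))
    (p : ∀ n, P ⟶ T n) (hP : ∀ i, Nonempty (IsLimit (Fan.mk (P.X i) (fun n => (p n).f i))))
    (f : X ⟶ P) (hf : ∀ n, f ≫ p n = π n)
    (g : P ⟶ P) (hg : ∀ n, g ≫ p n = p n - p (n + 1) ≫ t n) (w : f ≫ g = 0) :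
    (ShortComplex.mk f g w).ShortExact := by
  apply HomologicalComplex.shortExact_of_degreewise_shortExact
  intro i
  obtain ⟨N, hN⟩ := hiso i
  exact shortExact_of_eventually_iso (fun n => (t n).f i) (fun n => (π n).f i)
    (fun n => by rw [← HomologicalComplex.comp_f, hπ]) N hN (fun n => (p n).f i) (hP i).some
    (f.f i) (fun n => by rw [← HomologicalComplex.comp_f, hf])
    (g.f i) (fun n => by
      rw [← HomologicalComplex.comp_f, hg]
      simp) (by rw [← HomologicalComplex.comp_f, w, HomologicalComplex.zero_f])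

end complexes

end Groth.Agent.Cohder.TelescopeTower
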