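import Mathlib.Algebra.Homology.Embedding.CochainComplex

/-!
# The tower of canonical truncations
-/

set_option autoImplicit false
universe v u
open CategoryTheory CategoryTheory.Limits

namespace Groth.Agent.Cohder.TruncTower

variable {A : Type u} [Category.{v} A] [Abelian A] (K : CochainComplex A ℤ)

/-- `K ⟶ K.truncGE n` is an isomorphism in degrees `> n`. -/
lemma isIso_πTruncGE_f (n i : ℤ) (hi : n < i) : IsIso ((K.πTruncGE n).f i) := by
  obtain ⟨k, hk⟩ : ∃ k : ℕ, i = n + k := ⟨(i - n).toNat, by omega⟩
  have hk' : (ComplexShape.embeddingUpIntGE n).f k = i := by simp [hk]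
  have hb : ¬ (ComplexShape.embeddingUpIntGE n).BoundaryGE k := by
    rw [ComplexShape.boundaryGE_embeddingUpIntGE_iff]
    omega
  exact ((ComplexShape.embeddingUpIntGE n).isIso_liftExtend_f_iff
    (K.restrictionToTruncGE' (ComplexShape.embeddingUpIntGE n))
    (K.restrictionToTruncGE'_hasLift (ComplexShape.embeddingUpIntGE n)) hk').2
    (K.isIso_restrictionToTruncGE' _ k hb)

/-- The transition maps of the tower of truncations. -/
noncomputable def trans (m n : ℤ) (h : m ≤ n) : K.truncGE m ⟶ K.truncGE n :=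
  haveI : (K.truncGE n).IsStrictlyGE m := (K.truncGE n).isStrictlyGE_of_ge m n h
  CochainComplex.truncGEMap (K.πTruncGE n) m ≫ inv ((K.truncGE n).πTruncGE m)

@[reassoc (attr := simp)]
lemma πTruncGE_trans (m n : ℤ) (h : m ≤ n) : K.πTruncGE m ≫ trans K m n h = K.πTruncGE n := by
  have : (K.truncGE n).IsStrictlyGE m := (K.truncGE n).isStrictlyGE_of_ge m n h
  dsimp only [trans]
  rw [CochainComplex.πTruncGE_naturality_assoc, IsIso.hom_inv_id, Category.comp_id]

end Groth.Agent.Cohder.TruncTower
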